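import Mathlib
import Cfsg.Agent.Helper1.FrobThm

set_option autoImplicit false

namespace Cfsg.Agent.Helper10

open Matrix
open scoped Pointwise MatrixGroups

/-- The commutant of a `2 × 2` matrix with nonzero `(0,1)` entry consists of the linear
polynomials in it. -/
theorem gl2_comm_eq_lin {F : Type*} [Field F] (g h : Matrix (Fin 2) (Fin 2) F) (hg : g 0 1 ≠ 0)
    (hc : h * g = g * h) : ∃ α β : F, h = α • (1 : Matrix (Fin 2) (Fin 2) F) + β • g := by
  have e00 := congrFun (congrFun hc 0) 0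
  have e01 := congrFun (congrFun hc 0) 1
  simp only [Matrix.mul_apply, Fin.sum_univ_two] at e00 e01
  obtain ⟨β, hβdef⟩ : ∃ β : F, β = h 0 1 / g 0 1 := ⟨_, rfl⟩
  have hβ : β * g 0 1 = h 0 1 := by rw [hβdef]; exact div_mul_cancel₀ _ hg
  have h10 : h 1 0 = β * g 1 0 := by
    apply mul_right_cancel₀ hg
    linear_combination (-1 : F) * e00 - g 1 0 * hβ
  have h11 : h 1 1 = h 0 0 - β * g 0 0 + β * g 1 1 := by
    apply mul_right_cancel₀ hg
    linear_combination (-1 : F) * e01 + (g 0 0 - g 1 1) * hβ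
  refine ⟨h 0 0 - β * g 0 0, β, ?_⟩
  ext i j
  revert i j
  simp only [Fin.forall_fin_two, Matrix.add_apply, Matrix.smul_apply, Matrix.one_apply, smul_eq_mul]
  refine ⟨⟨?_, ?_⟩, ?_, ?_⟩
  · simp
  · simp [hβ]
  · simp [h10]
  · simp only [if_true]
    rw [h11]; ring

/-- A determinant-one matrix commuting with an upper transvection has trace `±2`. -/
theorem gl2_comm_upper {F : Type*} [Field F] (a : F) (ha : a ≠ 0) (h : Matrix (Fin 2) (Fin 2) F)
    (hc : h * !![1, a; 0, 1] = !![1, a; 0, 1] * h) (hdet : h.det = 1) : h.trace ^ 2 = 4 := by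
  have e00 := congrFun (congrFun hc 0) 0
  have e01 := congrFun (congrFun hc 0) 1
  simp [Matrix.mul_apply, Fin.sum_univ_two] at e00 e01
  rw [Matrix.det_fin_two] at hdet
  rw [Matrix.trace_fin_two]
  have h10 : h 1 0 = 0 := by
    rcases e00 with h' | h'
    · exact absurd h' ha
    · exact h'
  have h11 : h 0 0 = h 1 1 := by
    apply mul_right_cancel₀ ha
    linear_combination e01
  rw [h10] at hdet
  linear_combination 4 * hdet + (h 0 0 - h 1 1) * h11

/-- A determinant-one matrix commuting with a lower transvection has trace `±2`. -/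
theorem gl2_comm_lower {F : Type*} [Field F] (b : F) (hb : b ≠ 0) (h : Matrix (Fin 2) (Fin 2) F)
    (hc : h * !![1, 0; b, 1] = !![1, 0; b, 1] * h) (hdet : h.det = 1) : h.trace ^ 2 = 4 := by
  have e00 := congrFun (congrFun hc 0) 0
  have e10 := congrFun (congrFun hc 1) 0
  simp [Matrix.mul_apply, Fin.sum_univ_two] at e00 e10
  rw [Matrix.det_fin_two] at hdet
  rw [Matrix.trace_fin_two]
  have h01 : h 0 1 = 0 := by
    rcases e00 with h' | h'
    · exact h'
    · exact absurd h' hb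
  have h11 : h 1 1 = h 0 0 := by
    apply mul_right_cancel₀ hb
    linear_combination e10
  rw [h01] at hdet
  linear_combination 4 * hdet + (h 1 1 - h 0 0) * h11

/-- A nilpotent `2 × 2` matrix over a field has square zero. -/
theorem gl2_nilpotent_sq {F : Type*} [Field F] (N : Matrix (Fin 2) (Fin 2) F) (n : ℕ)
    (hN : N ^ n = 0) : N * N = 0 := by
  have hdet : N.det = 0 := by
    have h1 : N.det ^ n = 0 := by rw [← Matrix.det_pow, hN]; simp
    exact eq_zero_of_pow_eq_zero h1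
  have hCH : N * N = N.trace • N := by
    rw [Matrix.det_fin_two] at hdet
    ext i j
    revert i j
    simp only [Fin.forall_fin_two, Matrix.mul_apply, Fin.sum_univ_two, Matrix.smul_apply,
      Matrix.trace_fin_two, smul_eq_mul]
    refine ⟨⟨?_, ?_⟩, ?_, ?_⟩
    · linear_combination (-1 : F) * hdet
    · ring
    · ring
    · linear_combination (-1 : F) * hdet
  have hpow : ∀ k : ℕ, N ^ (k + 1) = N.trace ^ k • N := by
    intro k
    induction k with
    | zero => simp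
    | succ k ih => rw [pow_succ, ih, Matrix.smul_mul, hCH, smul_smul, pow_succ]
  rcases Nat.eq_zero_or_pos n with h0 | h0
  · rw [h0, pow_zero] at hN
    have : N = 0 := by rw [← mul_one N, hN, mul_zero]
    rw [this, mul_zero]
  · obtain ⟨k, rfl⟩ : ∃ k, n = k + 1 := ⟨n - 1, by omega⟩
    rw [hpow k] at hN
    rcases smul_eq_zero.1 hN with h1 | h1
    · rcases Nat.eq_zero_or_pos k with hk | hk
      · rw [hk, pow_zero] at h1; exact absurd h1 one_ne_zero
      · have : N.trace = 0 := eq_zero_of_pow_eq_zero h1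
        rw [hCH, this, zero_smul]
    · rw [h1, mul_zero]

/-- No finite group of odd order has a faithful determinant-one representation of degree two whose
image contains an upper and a lower transvection. -/
theorem gl2_core_false {F : Type*} [Field F] {G : Type*} [Group G] [Finite G]
    (hodd : Odd (Nat.card G)) (ρ : G →* Matrix (Fin 2) (Fin 2) F) (hinj : Function.Injective ρ)
    (hdet : ∀ k, (ρ k).det = 1) (h2 : (2 : F) ≠ 0) (x y : G) (a b : F)
    (hx : ρ x = !![1, a; 0, 1]) (hy : ρ y = !![1, 0; b, 1]) (ha : a ≠ 0) (hb : b ≠ 0)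
    (hab : 4 + a * b ≠ 0) : False := by
  classical
  obtain ⟨g₀, hg₀⟩ : ∃ g₀ : G, g₀ = x * y := ⟨_, rfl⟩
  have hΓ : ρ g₀ = !![1 + a * b, a; b, 1] := by
    rw [hg₀, map_mul, hx, hy]
    ext i j
    revert i j
    simp [Fin.forall_fin_two, Matrix.mul_apply, Fin.sum_univ_two]
  have hΓ01 : (ρ g₀) 0 1 = a := by rw [hΓ]; rfl
  have hΓtr : (ρ g₀).trace = 2 + a * b := by rw [hΓ, Matrix.trace_fin_two_of]; ring
  have htr : ∀ k : G, (ρ (k * g₀ * k⁻¹)).trace = 2 + a * b := by
    intro k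
    rw [map_mul, Matrix.trace_mul_comm, ← map_mul, inv_mul_cancel_left, hΓtr]
  have hab' : a * b * (4 + a * b) ≠ 0 := mul_ne_zero (mul_ne_zero ha hb) hab
  have hsq : ∀ t : G, t * t = 1 → t = 1 := by
    intro t ht
    have h1 : orderOf t ∣ 2 := orderOf_dvd_of_pow_eq_one (by rw [pow_two]; exact ht)
    have h2' : Odd (orderOf t) := Odd.of_dvd_nat hodd (orderOf_dvd_natCard t)
    rcases (Nat.dvd_prime Nat.prime_two).1 h1 with h | h
    · exact orderOf_eq_one_iff.1 h
    · rw [h] at h2'; exact absurd h2' (by decide)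
  have hsqc : ∀ k : G, (k * k) * g₀ = g₀ * (k * k) → k * g₀ = g₀ * k := by
    intro k hk
    have hko : Odd (orderOf k) := Odd.of_dvd_nat hodd (orderOf_dvd_natCard k)
    obtain ⟨m, hm⟩ := hko
    have hkm : (k * k) ^ (m + 1) = k := by
      rw [← pow_two, ← pow_mul]
      have h3 : 2 * (m + 1) = orderOf k + 1 := by omega
      rw [h3, pow_succ, pow_orderOf_eq_one, one_mul]
    have hc : Commute (k * k) g₀ := hk
    have h4 := (hc.pow_left (m + 1)).eq
    rw [hkm] at h4
    exact h4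
  have hkey : ∀ k : G, (k * g₀ * k⁻¹) * g₀ = g₀ * (k * g₀ * k⁻¹) → k * g₀ = g₀ * k := by
    intro k hk
    have hkM : ρ (k * g₀ * k⁻¹) * ρ g₀ = ρ g₀ * ρ (k * g₀ * k⁻¹) := by
      rw [← map_mul, ← map_mul, hk]
    obtain ⟨α, β, hαβ⟩ := gl2_comm_eq_lin (ρ g₀) (ρ (k * g₀ * k⁻¹)) (by rw [hΓ01]; exact ha) hkM
    have e00 : (ρ (k * g₀ * k⁻¹)) 0 0 = α + β * (1 + a * b) := by rw [hαβ, hΓ]; simp
    have e01 : (ρ (k * g₀ * k⁻¹)) 0 1 = β * a := by rw [hαβ, hΓ]; simp
    have e10 : (ρ (k * g₀ * k⁻¹)) 1 0 = β * b := by rw [hαβ, hΓ]; simp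
    have e11 : (ρ (k * g₀ * k⁻¹)) 1 1 = α + β := by rw [hαβ, hΓ]; simp
    have ht := htr k
    rw [Matrix.trace_fin_two, e00, e11] at ht
    have hd := hdet (k * g₀ * k⁻¹)
    rw [Matrix.det_fin_two, e00, e11, e01, e10] at hd
    have hβ : (1 - β ^ 2) * (a * b * (4 + a * b)) = 0 := by
      linear_combination 4 * hd - (2 * α + β * (2 + a * b) + (2 + a * b)) * ht
    have hβ2 : (β - 1) * (β + 1) = 0 := by
      rcases mul_eq_zero.1 hβ with h | h
      · linear_combination (-1 : F) * h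
      · exact absurd h hab'
    rcases mul_eq_zero.1 hβ2 with h | h
    · have hβ1 : β = 1 := by linear_combination h
      have hα : α = 0 := by
        have h5 : (2 : F) * α = 0 := by rw [hβ1] at ht; linear_combination ht
        rcases mul_eq_zero.1 h5 with h6 | h6
        · exact absurd h6 h2
        · exact h6
      have h7 : ρ (k * g₀ * k⁻¹) = ρ g₀ := by rw [hαβ, hα, hβ1, zero_smul, zero_add, one_smul]
      exact mul_inv_eq_iff_eq_mul.1 (hinj h7)
    · have hβ1 : β = -1 := by linear_combination h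
      have hα : α = 2 + a * b := by
        have h5 : (2 : F) * (α - (2 + a * b)) = 0 := by rw [hβ1] at ht; linear_combination ht
        rcases mul_eq_zero.1 h5 with h6 | h6
        · exact absurd h6 h2
        · linear_combination h6
      have h7 : ρ g₀ * ρ (k * g₀ * k⁻¹) = 1 := by
        rw [hαβ, hα, hβ1, hΓ]
        ext i j
        revert i j
        simp only [Fin.forall_fin_two, Matrix.mul_apply, Fin.sum_univ_two, Matrix.add_apply,
          Matrix.smul_apply, Matrix.one_apply, smul_eq_mul]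
        simp
        refine ⟨⟨?_, ?_⟩, ?_, ?_⟩ <;> ring
      have h8 : g₀ * (k * g₀ * k⁻¹) = 1 := hinj (by rw [map_mul, map_one, h7])
      have hinv : k * g₀ * k⁻¹ = g₀⁻¹ := eq_inv_of_mul_eq_one_right h8
      have h9 : k * g₀ = g₀⁻¹ * k := mul_inv_eq_iff_eq_mul.1 hinv
      have h10 : g₀ * k = k * g₀⁻¹ := by
        rw [eq_mul_inv_iff_mul_eq, mul_assoc, h9, mul_inv_cancel_left]
      apply hsqc k
      calc k * k * g₀ = k * (k * g₀) := by rw [mul_assoc]
        _ = k * (g₀⁻¹ * k) := by rw [h9]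
        _ = (k * g₀⁻¹) * k := by rw [mul_assoc]
        _ = (g₀ * k) * k := by rw [h10]
        _ = g₀ * (k * k) := by rw [mul_assoc]
  have hconj : ∀ (z k : G), z ∈ MulAut.conj k • Subgroup.centralizer ({g₀} : Set G) →
      (k * g₀ * k⁻¹) * z = z * (k * g₀ * k⁻¹) := by
    intro z k hz
    rw [Subgroup.mem_pointwise_smul_iff_inv_smul_mem] at hz
    have h := Subgroup.mem_centralizer_iff.1 hz g₀ (Set.mem_singleton _)
    simp only [MulAut.smul_def, MulAut.conj_inv_apply] at h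
    calc k * g₀ * k⁻¹ * z = k * (g₀ * (k⁻¹ * z * k)) * k⁻¹ := by group
      _ = k * (k⁻¹ * z * k * g₀) * k⁻¹ := by rw [h]
      _ = z * (k * g₀ * k⁻¹) := by group
  have hTI : ∀ k : G, k ∉ Subgroup.centralizer ({g₀} : Set G) →
      Subgroup.centralizer ({g₀} : Set G) ⊓
        MulAut.conj k • Subgroup.centralizer ({g₀} : Set G) = ⊥ := by
    intro k hk
    rw [eq_bot_iff]
    intro t ht
    rw [Subgroup.mem_bot]
    obtain ⟨ht1, ht2⟩ := Subgroup.mem_inf.1 ht
    by_contra ht0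
    apply hk
    rw [Subgroup.mem_centralizer_iff]
    intro z hz
    rw [Set.mem_singleton_iff.1 hz]
    have hc1 : g₀ * t = t * g₀ := Subgroup.mem_centralizer_iff.1 ht1 g₀ (Set.mem_singleton _)
    have hc2 := hconj t k ht2
    obtain ⟨α, β, hαβ⟩ := gl2_comm_eq_lin (ρ g₀) (ρ t) (by rw [hΓ01]; exact ha)
      (by rw [← map_mul, ← map_mul, hc1])
    by_cases hβ0 : β = 0
    · exfalso
      apply ht0
      apply hsq
      apply hinj
      have hd := hdet t
      rw [hαβ, hβ0, zero_smul, add_zero, Matrix.det_fin_two] at hd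
      simp at hd
      rw [map_mul, map_one, hαβ, hβ0, zero_smul, add_zero, Matrix.smul_mul, Matrix.one_mul,
        smul_smul, hd, one_smul]
    · have hcomm : ρ (k * g₀ * k⁻¹) * ρ g₀ = ρ g₀ * ρ (k * g₀ * k⁻¹) := by
        have h3 : ρ (k * g₀ * k⁻¹) * ρ t = ρ t * ρ (k * g₀ * k⁻¹) := by
          rw [← map_mul, ← map_mul, hc2]
        rw [hαβ] at h3
        simp only [Matrix.mul_add, Matrix.add_mul, Matrix.mul_smul, Matrix.smul_mul,
          Matrix.mul_one, Matrix.one_mul] at h3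
        have h4 := add_left_cancel h3
        exact smul_right_injective _ hβ0 h4
      have h5 : ρ (k * g₀ * k⁻¹ * g₀) = ρ (g₀ * (k * g₀ * k⁻¹)) := by
        rw [map_mul ρ (k * g₀ * k⁻¹) g₀, map_mul ρ g₀ (k * g₀ * k⁻¹)]
        exact hcomm
      exact (hkey k (hinj h5)).symm
  obtain ⟨N, hNK, hNn, hc⟩ := Cfsg.Agent.Helper1.frobenius_kernel_subgroup _ hTI
  have hxN : x ∈ N := by
    have h0 : x ∈ (N : Set G) := by
      rw [hNK]
      right
      intro k hk
      have h1 := hconj x k hk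
      have h3 : ρ (k * g₀ * k⁻¹) * !![1, a; 0, 1] = !![1, a; 0, 1] * ρ (k * g₀ * k⁻¹) := by
        rw [← hx, ← map_mul, ← map_mul, h1]
      have h4 := gl2_comm_upper a ha _ h3 (hdet _)
      rw [htr k] at h4
      apply hab'
      linear_combination h4
    exact h0
  have hyN : y ∈ N := by
    have h0 : y ∈ (N : Set G) := by
      rw [hNK]
      right
      intro k hk
      have h1 := hconj y k hk
      have h3 : ρ (k * g₀ * k⁻¹) * !![1, 0; b, 1] = !![1, 0; b, 1] * ρ (k * g₀ * k⁻¹) := by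
        rw [← hy, ← map_mul, ← map_mul, h1]
      have h4 := gl2_comm_lower b hb _ h3 (hdet _)
      rw [htr k] at h4
      apply hab'
      linear_combination h4
    exact h0
  have hg₀N : g₀ ∈ N := by rw [hg₀]; exact N.mul_mem hxN hyN
  have hg₀T : g₀ ∈ Subgroup.centralizer ({g₀} : Set G) := by
    rw [Subgroup.mem_centralizer_iff]
    intro z hz
    rw [Set.mem_singleton_iff.1 hz]
  have hbot : g₀ ∈ (⊥ : Subgroup G) := by
    rw [← hc.disjoint.eq_bot]
    exact Subgroup.mem_inf.2 ⟨hg₀N, hg₀T⟩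
  rw [Subgroup.mem_bot] at hbot
  have h01 : ρ g₀ 0 1 = 0 := by rw [hbot, map_one]; simp
  rw [hΓ01] at h01
  exact ha h01

theorem gl2_conj_sq {F : Type*} [Field F] (B Bi M : Matrix (Fin 2) (Fin 2) F)
    (h2 : B * Bi = 1) (hM : M * M = 0) : (Bi * M * B) * (Bi * M * B) = 0 := by
  have h : (Bi * M * B) * (Bi * M * B) = Bi * (M * (B * Bi) * M) * B := by
    simp only [mul_assoc]
  rw [h, h2, mul_one, hM, mul_zero, zero_mul]

theorem gl2_upper_of_sq_zero {F : Type*} [Field F] (M : Matrix (Fin 2) (Fin 2) F)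
    (hM : M * M = 0) (h0 : ∀ i, M i 0 = 0) : M = !![0, M 0 1; 0, 0] := by
  have h11 : M 1 1 = 0 := by
    have h := congrFun (congrFun hM 1) 1
    simp only [Matrix.mul_apply, Fin.sum_univ_two, h0, zero_mul, zero_add] at h
    simpa using h
  ext i j
  revert i j
  simp [Fin.forall_fin_two, h0, h11]

theorem gl2_lower_of_sq_zero {F : Type*} [Field F] (M : Matrix (Fin 2) (Fin 2) F)
    (hM : M * M = 0) (h1 : ∀ i, M i 1 = 0) : M = !![0, 0; M 1 0, 0] := by
  have h00 : M 0 0 = 0 := by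
    have h := congrFun (congrFun hM 0) 0
    simp only [Matrix.mul_apply, Fin.sum_univ_two, h1, zero_mul, add_zero] at h
    simpa using h
  ext i j
  revert i j
  simp [Fin.forall_fin_two, h1, h00]

/-- Conjugation of a matrix group into the matrix ring. -/
def gl2ConjHom {F : Type*} [Field F] (K : Subgroup (GL (Fin 2) F))
    (B Bi : Matrix (Fin 2) (Fin 2) F) (h1 : Bi * B = 1) (h2 : B * Bi = 1) :
    K →* Matrix (Fin 2) (Fin 2) F where
  toFun k := Bi * ((k : GL (Fin 2) F) : Matrix (Fin 2) (Fin 2) F) * B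
  map_one' := by simp [h1]
  map_mul' k k' := by
    rw [Subgroup.coe_mul, Units.val_mul]
    have h : ∀ P Q : Matrix (Fin 2) (Fin 2) F,
        Bi * (P * Q) * B = (Bi * P * B) * (Bi * Q * B) := by
      intro P Q
      have h3 : (Bi * P * B) * (Bi * Q * B) = Bi * (P * (B * Bi) * Q) * B := by
        simp only [mul_assoc]
      rw [h3, h2, mul_one]
    exact h _ _

theorem gl2ConjHom_apply {F : Type*} [Field F] (K : Subgroup (GL (Fin 2) F))
    (B Bi : Matrix (Fin 2) (Fin 2) F) (h1 : Bi * B = 1) (h2 : B * Bi = 1) (k : K) :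
    gl2ConjHom K B Bi h1 h2 k = Bi * ((k : GL (Fin 2) F) : Matrix (Fin 2) (Fin 2) F) * B := rfl

/-- A finite subgroup of odd order of `GL₂(F)`, `F` of odd characteristic `p`, that fixes no line
has order prime to `p`. -/
theorem gl2_odd_irr {F : Type*} [Field F] (p : ℕ) [Fact p.Prime] [CharP F p] (hp : p ≠ 2)
    (H : Subgroup (GL (Fin 2) F)) [Finite H] (hodd : Odd (Nat.card H))
    (hirr : ∀ v : Fin 2 → F, v ≠ 0 → ∃ g ∈ H,
      (g : Matrix (Fin 2) (Fin 2) F).mulVec v ∉ Submodule.span F {v}) :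
    ¬ p ∣ Nat.card H := by
  classical
  intro hdvd
  have hpp : p.Prime := Fact.out
  have h2 : (2 : F) ≠ 0 := by
    intro h
    have h' : ((2 : ℕ) : F) = 0 := by exact_mod_cast h
    rw [CharP.cast_eq_zero_iff F p] at h'
    exact hp ((Nat.prime_dvd_prime_iff_eq hpp Nat.prime_two).1 h')
  obtain ⟨x, hx⟩ := exists_prime_orderOf_dvd_card' p hdvd
  obtain ⟨X, hXdef⟩ : ∃ X : Matrix (Fin 2) (Fin 2) F,
      X = ((x : GL (Fin 2) F) : Matrix (Fin 2) (Fin 2) F) := ⟨_, rfl⟩
  have hXp : X ^ p = 1 := by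
    have h1 : x ^ p = 1 := by rw [← hx]; exact pow_orderOf_eq_one x
    have h3 : ((x : GL (Fin 2) F) : Matrix (Fin 2) (Fin 2) F) ^ p = 1 := by
      rw [← Units.val_pow_eq_pow_val, ← Subgroup.coe_pow, h1]; rfl
    rw [hXdef]; exact h3
  obtain ⟨N, hNdef⟩ : ∃ N : Matrix (Fin 2) (Fin 2) F, N = X - 1 := ⟨_, rfl⟩
  have hNp : N ^ p = 0 := by
    rw [hNdef, sub_pow_char_of_commute p (Commute.one_right X), hXp, one_pow, sub_self]
  have hNN : N * N = 0 := gl2_nilpotent_sq N p hNp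
  have hX : X = 1 + N := by rw [hNdef]; abel
  have hNne : N ≠ 0 := by
    intro h
    have hX1 : X = 1 := by rw [hNdef] at h; exact sub_eq_zero.1 h
    have hx1 : x = 1 := by
      apply Subtype.ext
      apply Units.ext
      rw [← hXdef, hX1]; rfl
    rw [hx1, orderOf_one] at hx
    exact hpp.one_lt.ne hx
  obtain ⟨i₀, j₀, hij⟩ : ∃ i j, N i j ≠ 0 := by
    by_contra h
    push_neg at h
    exact hNne (Matrix.ext fun i j => by simpa using h i j)
  obtain ⟨v, hvdef⟩ : ∃ v : Fin 2 → F, v = fun i => N i j₀ := ⟨_, rfl⟩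
  have hv : v ≠ 0 := by
    intro h
    apply hij
    have h1 := congrFun h i₀
    rw [hvdef] at h1
    exact h1
  have hNv : N.mulVec v = 0 := by
    ext i
    have h1 := congrFun (congrFun hNN i) j₀
    rw [hvdef]
    simpa [Matrix.mulVec, dotProduct, Matrix.mul_apply] using h1
  obtain ⟨g, hgH, hgv⟩ := hirr v hv
  obtain ⟨Gm, hGm⟩ : ∃ Gm : Matrix (Fin 2) (Fin 2) F,
      Gm = (g : Matrix (Fin 2) (Fin 2) F) := ⟨_, rfl⟩
  obtain ⟨Gi, hGi⟩ : ∃ Gi : Matrix (Fin 2) (Fin 2) F,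
      Gi = ((g⁻¹ : GL (Fin 2) F) : Matrix (Fin 2) (Fin 2) F) := ⟨_, rfl⟩
  have hGiG : Gi * Gm = 1 := by rw [hGi, hGm, ← Units.val_mul, inv_mul_cancel]; rfl
  have hGGi : Gm * Gi = 1 := by rw [hGi, hGm, ← Units.val_mul, mul_inv_cancel]; rfl
  obtain ⟨v', hv'⟩ : ∃ v' : Fin 2 → F, v' = Gm.mulVec v := ⟨_, rfl⟩
  have hgv' : v' ∉ Submodule.span F {v} := by rw [hv', hGm]; exact hgv
  obtain ⟨B, hB⟩ : ∃ B : Matrix (Fin 2) (Fin 2) F, B = !![v 0, v' 0; v 1, v' 1] := ⟨_, rfl⟩
  have hdetB : B.det ≠ 0 := by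
    rw [hB, Matrix.det_fin_two_of]
    intro h
    apply hgv'
    rw [Submodule.mem_span_singleton]
    by_cases h0 : v 0 = 0
    · have h1 : v 1 ≠ 0 := by
        intro h1
        apply hv
        ext i
        revert i
        simp [Fin.forall_fin_two, h0, h1]
      refine ⟨v' 1 / v 1, ?_⟩
      ext i
      revert i
      simp only [Fin.forall_fin_two, Pi.smul_apply, smul_eq_mul]
      refine ⟨?_, div_mul_cancel₀ _ h1⟩
      rw [h0, mul_zero]
      rw [h0, zero_mul, zero_sub, neg_eq_zero] at h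
      rcases mul_eq_zero.1 h with h' | h'
      · exact h'.symm
      · exact absurd h' h1
    · refine ⟨v' 0 / v 0, ?_⟩
      ext i
      revert i
      simp only [Fin.forall_fin_two, Pi.smul_apply, smul_eq_mul]
      refine ⟨div_mul_cancel₀ _ h0, ?_⟩
      rw [div_mul_eq_mul_div, div_eq_iff h0]
      linear_combination (-1 : F) * h
  have hunit : IsUnit B.det := isUnit_iff_ne_zero.2 hdetB
  have hBiB : B⁻¹ * B = 1 := Matrix.nonsing_inv_mul B hunit
  have hBBi : B * B⁻¹ = 1 := Matrix.mul_nonsing_inv B hunit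
  have hB0 : ∀ i, B i 0 = v i := by
    intro i; rw [hB]; revert i; simp [Fin.forall_fin_two]
  have hB1 : ∀ i, B i 1 = v' i := by
    intro i; rw [hB]; revert i; simp [Fin.forall_fin_two]
  have hcol : ∀ (M : Matrix (Fin 2) (Fin 2) F) (w : Fin 2 → F) (j : Fin 2),
      (∀ i, B i j = w i) → M.mulVec w = 0 → ∀ i, (B⁻¹ * M * B) i j = 0 := by
    intro M w j hw hMw i
    have h1 : ∀ k, (M * B) k j = 0 := by
      intro k
      have h3 := congrFun hMw k
      simp only [Matrix.mulVec, dotProduct, Pi.zero_apply] at h3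
      rw [Matrix.mul_apply]
      simp only [hw]
      exact h3
    rw [mul_assoc, Matrix.mul_apply]
    simp [h1]
  have hne_conj : ∀ M : Matrix (Fin 2) (Fin 2) F, B⁻¹ * M * B = 0 → M = 0 := by
    intro M h
    have h1 : M = B * (B⁻¹ * M * B) * B⁻¹ := by
      have h3 : B * (B⁻¹ * M * B) * B⁻¹ = (B * B⁻¹) * M * (B * B⁻¹) := by
        simp only [mul_assoc]
      rw [h3, hBBi, one_mul, mul_one]
    rw [h1, h, mul_zero, zero_mul]
  have hdetconj : ∀ M : Matrix (Fin 2) (Fin 2) F, (B⁻¹ * M * B).det = M.det := by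
    intro M
    rw [Matrix.det_mul, Matrix.det_mul, mul_right_comm, ← Matrix.det_mul, hBiB, Matrix.det_one,
      one_mul]
  have hN' : B⁻¹ * N * B = !![0, (B⁻¹ * N * B) 0 1; 0, 0] :=
    gl2_upper_of_sq_zero _ (gl2_conj_sq B B⁻¹ N hBBi hNN) (hcol N v 0 hB0 hNv)
  obtain ⟨a, ha⟩ : ∃ a : F, a = (B⁻¹ * N * B) 0 1 := ⟨_, rfl⟩
  rw [← ha] at hN'
  have ha0 : a ≠ 0 := by
    intro h
    apply hNne
    apply hne_conj
    rw [hN', h]
    ext i j
    revert i j
    simp [Fin.forall_fin_two]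
  have hXB : B⁻¹ * X * B = !![1, a; 0, 1] := by
    rw [hX, mul_add, add_mul, mul_one, hBiB, hN']
    ext i j
    revert i j
    simp [Fin.forall_fin_two]
  have hNY : (Gm * N * Gi) * (Gm * N * Gi) = 0 := gl2_conj_sq Gi Gm N hGiG hNN
  have hNYv : (Gm * N * Gi).mulVec v' = 0 := by
    rw [hv', Matrix.mulVec_mulVec]
    have h1 : Gm * N * Gi * Gm = Gm * N := by rw [mul_assoc, hGiG, mul_one]
    rw [h1, ← Matrix.mulVec_mulVec, hNv, Matrix.mulVec_zero]
  have hNY' : B⁻¹ * (Gm * N * Gi) * B = !![0, 0; (B⁻¹ * (Gm * N * Gi) * B) 1 0, 0] :=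
    gl2_lower_of_sq_zero _ (gl2_conj_sq B B⁻¹ _ hBBi hNY) (hcol _ v' 1 hB1 hNYv)
  obtain ⟨b, hb⟩ : ∃ b : F, b = (B⁻¹ * (Gm * N * Gi) * B) 1 0 := ⟨_, rfl⟩
  rw [← hb] at hNY'
  have hb0 : b ≠ 0 := by
    intro h
    apply hNne
    have h1 : Gm * N * Gi = 0 := by
      apply hne_conj
      rw [hNY', h]
      ext i j
      revert i j
      simp [Fin.forall_fin_two]
    have h3 : N = Gi * (Gm * N * Gi) * Gm := by
      have h4 : Gi * (Gm * N * Gi) * Gm = (Gi * Gm) * N * (Gi * Gm) := by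
        simp only [mul_assoc]
      rw [h4, hGiG, one_mul, mul_one]
    rw [h3, h1, mul_zero, zero_mul]
  have hYB : B⁻¹ * (Gm * X * Gi) * B = !![1, 0; b, 1] := by
    have hY : Gm * X * Gi = 1 + Gm * N * Gi := by
      rw [hX, mul_add, add_mul, mul_one, hGGi]
    rw [hY, mul_add, add_mul, mul_one, hBiB, hNY']
    ext i j
    revert i j
    simp [Fin.forall_fin_two]
  have hXdet : X.det = 1 := by
    rw [← hdetconj X, hXB, Matrix.det_fin_two_of]; ring
  have hYdet : (Gm * X * Gi).det = 1 := by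
    rw [← hdetconj (Gm * X * Gi), hYB, Matrix.det_fin_two_of]; ring
  obtain ⟨K, hK⟩ : ∃ K : Subgroup (GL (Fin 2) F),
      K = H ⊓ (Matrix.GeneralLinearGroup.det (n := Fin 2) (R := F)).ker := ⟨_, rfl⟩
  have hKH : K ≤ H := by rw [hK]; exact inf_le_left
  have hmemK : ∀ k : GL (Fin 2) F, k ∈ H → (k : Matrix (Fin 2) (Fin 2) F).det = 1 → k ∈ K := by
    intro k hk hd
    rw [hK]
    refine Subgroup.mem_inf.2 ⟨hk, ?_⟩
    rw [MonoidHom.mem_ker]
    apply Units.ext
    rw [Matrix.GeneralLinearGroup.val_det_apply, hd]; rfl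
  have hKdet : ∀ k : K, ((k : GL (Fin 2) F) : Matrix (Fin 2) (Fin 2) F).det = 1 := by
    intro k
    have h1 : (k : GL (Fin 2) F) ∈ H ⊓ (Matrix.GeneralLinearGroup.det (n := Fin 2) (R := F)).ker := by
      rw [← hK]; exact k.2
    have h3 := (Subgroup.mem_inf.1 h1).2
    rw [MonoidHom.mem_ker] at h3
    have h4 := congrArg Units.val h3
    rw [Matrix.GeneralLinearGroup.val_det_apply] at h4
    exact h4
  haveI : Finite K := Finite.of_injective (Subgroup.inclusion hKH) (Subgroup.inclusion_injective _)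
  have hKodd : Odd (Nat.card K) := Odd.of_dvd_nat hodd (Subgroup.card_dvd_of_le hKH)
  have hxK : (x : GL (Fin 2) F) ∈ K := hmemK _ x.2 (by rw [← hXdef]; exact hXdet)
  have hyK : g * (x : GL (Fin 2) F) * g⁻¹ ∈ K := by
    apply hmemK _ (H.mul_mem (H.mul_mem hgH x.2) (H.inv_mem hgH))
    rw [Units.val_mul, Units.val_mul, ← hXdef, ← hGm, ← hGi]
    exact hYdet
  have hinj : Function.Injective (gl2ConjHom K B B⁻¹ hBiB hBBi) := by
    intro k k' h
    rw [gl2ConjHom_apply, gl2ConjHom_apply] at h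
    have h1 : ∀ M : Matrix (Fin 2) (Fin 2) F, M = B * (B⁻¹ * M * B) * B⁻¹ := by
      intro M
      have h3 : B * (B⁻¹ * M * B) * B⁻¹ = (B * B⁻¹) * M * (B * B⁻¹) := by
        simp only [mul_assoc]
      rw [h3, hBBi, one_mul, mul_one]
    apply Subtype.ext
    apply Units.ext
    rw [h1 ((k : GL (Fin 2) F) : Matrix (Fin 2) (Fin 2) F), h, ← h1]
  have hdetρ : ∀ k : K, (gl2ConjHom K B B⁻¹ hBiB hBBi k).det = 1 := by
    intro k
    rw [gl2ConjHom_apply, hdetconj, hKdet]
  have hρx : gl2ConjHom K B B⁻¹ hBiB hBBi ⟨(x : GL (Fin 2) F), hxK⟩ = !![1, a; 0, 1] := by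
    rw [gl2ConjHom_apply]
    show B⁻¹ * ((x : GL (Fin 2) F) : Matrix (Fin 2) (Fin 2) F) * B = _
    rw [← hXdef, hXB]
  have hρy : gl2ConjHom K B B⁻¹ hBiB hBBi ⟨g * (x : GL (Fin 2) F) * g⁻¹, hyK⟩ = !![1, 0; b, 1] := by
    rw [gl2ConjHom_apply]
    show B⁻¹ * ((g * (x : GL (Fin 2) F) * g⁻¹ : GL (Fin 2) F) : Matrix (Fin 2) (Fin 2) F) * B = _
    rw [Units.val_mul, Units.val_mul, ← hXdef, ← hGm, ← hGi, hYB]
  by_cases h4 : 4 + a * b = 0
  · have hρyy : gl2ConjHom K B B⁻¹ hBiB hBBi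
        (⟨g * (x : GL (Fin 2) F) * g⁻¹, hyK⟩ * ⟨g * (x : GL (Fin 2) F) * g⁻¹, hyK⟩) =
        !![1, 0; 2 * b, 1] := by
      rw [map_mul, hρy]
      ext i j
      revert i j
      simp [Fin.forall_fin_two, Matrix.mul_apply, Fin.sum_univ_two]
      ring
    refine gl2_core_false hKodd _ hinj hdetρ h2 _ _ a (2 * b) hρx hρyy ha0 (mul_ne_zero h2 hb0) ?_
    intro h5
    have h6 : (2 : F) * 2 = 0 := by linear_combination 2 * h4 - h5
    rcases mul_eq_zero.1 h6 with h | h <;> exact h2 h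
  · exact gl2_core_false hKodd _ hinj hdetρ h2 _ _ a b hρx hρy ha0 hb0 h4

/-- The core lemma without injectivity: pass to the quotient by the kernel. -/
theorem gl2_core_false' {F : Type*} [Field F] {G : Type*} [Group G] [Finite G]
    (hodd : Odd (Nat.card G)) (ρ : G →* Matrix (Fin 2) (Fin 2) F)
    (hdet : ∀ k, (ρ k).det = 1) (h2 : (2 : F) ≠ 0) (x y : G) (a b : F)
    (hx : ρ x = !![1, a; 0, 1]) (hy : ρ y = !![1, 0; b, 1]) (ha : a ≠ 0) (hb : b ≠ 0) :
    False := by
  classical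
  obtain ⟨ρ', hρ'⟩ : ∃ ρ' : G ⧸ ρ.ker →* Matrix (Fin 2) (Fin 2) F,
      ∀ g : G, ρ' (QuotientGroup.mk g) = ρ g :=
    ⟨QuotientGroup.lift ρ.ker ρ le_rfl, fun g => rfl⟩
  have hinj : Function.Injective ρ' := by
    intro u v huv
    induction u using QuotientGroup.induction_on with | _ g =>
    induction v using QuotientGroup.induction_on with | _ g' =>
    rw [hρ', hρ'] at huv
    rw [QuotientGroup.eq, MonoidHom.mem_ker, map_mul, ← huv, ← map_mul, inv_mul_cancel, map_one]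
  have hodd' : Odd (Nat.card (G ⧸ ρ.ker)) :=
    Odd.of_dvd_nat hodd (Subgroup.card_quotient_dvd_card _)
  have hdet' : ∀ k, (ρ' k).det = 1 := by
    intro k
    induction k using QuotientGroup.induction_on with | _ g =>
    rw [hρ']; exact hdet g
  by_cases h4 : 4 + a * b = 0
  · have hyy : ρ' ((QuotientGroup.mk y : G ⧸ ρ.ker) * (QuotientGroup.mk y : G ⧸ ρ.ker)) =
        !![1, 0; 2 * b, 1] := by
      rw [map_mul, hρ', hy]
      ext i j
      revert i j
      simp [Fin.forall_fin_two, Matrix.mul_apply, Fin.sum_univ_two]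
      ring
    refine gl2_core_false hodd' ρ' hinj hdet' h2 (QuotientGroup.mk x) _ a (2 * b)
      (by rw [hρ', hx]) hyy ha (mul_ne_zero h2 hb) ?_
    intro h5
    have h6 : (2 : F) * 2 = 0 := by linear_combination 2 * h4 - h5
    rcases mul_eq_zero.1 h6 with h | h <;> exact h2 h
  · exact gl2_core_false hodd' ρ' hinj hdet' h2 (QuotientGroup.mk x) (QuotientGroup.mk y) a b
      (by rw [hρ', hx]) (by rw [hρ', hy]) ha hb h4

end Cfsg.Agent.Helper10
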