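import Mathlib
import Cfsg.Agent.Helper10.GL2Odd
import Cfsg.Agent.Helper6.TwoCompl
import Cfsg.Agent.Helper24.NormalEA

set_option autoImplicit false

namespace Cfsg.Agent.Helper10

/-- Abstract form of the `GL₂` obstruction: no representation of `H` by matrices of determinant
one over a field of characteristic not two contains both a nontrivial upper and a nontrivial
lower unitriangular matrix. -/
def GL2Core (H : Type*) [Group H] : Prop :=
  ∀ (F : Type) [Field F] (ρ : H →* Matrix (Fin 2) (Fin 2) F), (∀ k, (ρ k).det = 1) →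
    (2 : F) ≠ 0 → ∀ (x y : H) (a b : F), ρ x = !![1, a; 0, 1] → ρ y = !![1, 0; b, 1] →
    a ≠ 0 → b ≠ 0 → False

theorem gl2Core_of_odd {H : Type*} [Group H] [Finite H] (hodd : Odd (Nat.card H)) :
    GL2Core H :=
  fun _ _ ρ hdet h2 x y a b hx hy ha hb => gl2_core_false' hodd ρ hdet h2 x y a b hx hy ha hb

theorem gl2_sq_one {F : Type*} [Field F] (M : Matrix (Fin 2) (Fin 2) F) (hdet : M.det = 1)
    (hsq : M * M = 1) (h2 : (2 : F) ≠ 0) : M = 1 ∨ M = -1 := by
  have h00 := congrFun (congrFun hsq 0) 0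
  have h01 := congrFun (congrFun hsq 0) 1
  have h10 := congrFun (congrFun hsq 1) 0
  simp only [Matrix.mul_apply, Fin.sum_univ_two, Matrix.one_apply_eq] at h00
  simp only [Matrix.mul_apply, Fin.sum_univ_two, ne_eq, zero_ne_one, not_false_eq_true,
    Matrix.one_apply_ne] at h01
  simp only [Matrix.mul_apply, Fin.sum_univ_two, ne_eq, one_ne_zero, not_false_eq_true,
    Matrix.one_apply_ne] at h10
  rw [Matrix.det_fin_two] at hdet
  have hs : M 0 0 + M 1 1 ≠ 0 := by
    intro hs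
    have h3 : (2 : F) = 0 := by linear_combination (-1 : F) * h00 - hdet + M 0 0 * hs
    exact h2 h3
  have hb : M 0 1 = 0 := by
    have h3 : M 0 1 * (M 0 0 + M 1 1) = 0 := by linear_combination h01
    rcases mul_eq_zero.1 h3 with h | h
    · exact h
    · exact absurd h hs
  have hc : M 1 0 = 0 := by
    have h3 : M 1 0 * (M 0 0 + M 1 1) = 0 := by linear_combination h10
    rcases mul_eq_zero.1 h3 with h | h
    · exact h
    · exact absurd h hs
  have ha2 : M 0 0 * M 0 0 = 1 := by linear_combination h00 - M 1 0 * hb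
  have had : M 0 0 * M 1 1 = 1 := by linear_combination hdet + M 1 0 * hb
  have ha0 : M 0 0 ≠ 0 := by
    intro h
    rw [h, zero_mul] at ha2
    exact zero_ne_one ha2
  have hda : M 1 1 = M 0 0 := by
    have h3 : M 0 0 * (M 0 0 - M 1 1) = 0 := by linear_combination ha2 - had
    rcases mul_eq_zero.1 h3 with h | h
    · exact absurd h ha0
    · exact (sub_eq_zero.1 h).symm
  have h4 : (M 0 0 - 1) * (M 0 0 + 1) = 0 := by linear_combination ha2
  have e : M = !![M 0 0, M 0 1; M 1 0, M 1 1] := Matrix.eta_fin_two M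
  rcases mul_eq_zero.1 h4 with h | h
  · left
    rw [e, hb, hc, hda, sub_eq_zero.1 h]
    exact Matrix.one_fin_two.symm
  · right
    rw [e, hb, hc, hda, eq_neg_of_add_eq_zero_left h]
    ext i j
    revert i j
    simp [Fin.forall_fin_two]

theorem gl2_upper_pow {F : Type*} [Field F] (c : F) (n : ℕ) :
    (!![1, c; 0, 1] : Matrix (Fin 2) (Fin 2) F) ^ n = !![1, n * c; 0, 1] := by
  induction n with
  | zero => simp [Matrix.one_fin_two]
  | succ n ih =>
    rw [pow_succ, ih]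
    ext i j
    revert i j
    simp [Fin.forall_fin_two, Matrix.mul_apply, Fin.sum_univ_two]
    ring

theorem gl2_lower_pow {F : Type*} [Field F] (c : F) (n : ℕ) :
    (!![1, 0; c, 1] : Matrix (Fin 2) (Fin 2) F) ^ n = !![1, 0; n * c, 1] := by
  induction n with
  | zero => simp [Matrix.one_fin_two]
  | succ n ih =>
    rw [pow_succ, ih]
    ext i j
    revert i j
    simp [Fin.forall_fin_two, Matrix.mul_apply, Fin.sum_univ_two]
    ring

theorem gl2_unip_orderOf_odd {F : Type*} [Field F] {Q : Type*} [Group Q] [Finite Q]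
    (ρ' : Q →* Matrix (Fin 2) (Fin 2) F) (hinj : Function.Injective ρ') (h2 : (2 : F) ≠ 0)
    (q : Q) (c : F) (hc : c ≠ 0) (hq : ρ' q = !![1, c; 0, 1] ∨ ρ' q = !![1, 0; c, 1]) :
    Odd (orderOf q) := by
  by_contra hodd
  rw [Nat.not_odd_iff_even] at hodd
  obtain ⟨m, hm⟩ := hodd
  have hpos : 0 < orderOf q := orderOf_pos q
  have hm0 : 0 < m := by omega
  have h1 : ρ' q ^ (m + m) = 1 := by rw [← map_pow, ← hm, pow_orderOf_eq_one, map_one]
  have hmc : ((m + m : ℕ) : F) * c = 0 := by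
    rcases hq with h | h
    · rw [h, gl2_upper_pow] at h1
      have h3 := congrFun (congrFun h1 0) 1
      simpa using h3
    · rw [h, gl2_lower_pow] at h1
      have h3 := congrFun (congrFun h1 1) 0
      simpa using h3
  have hm' : (m : F) = 0 := by
    rcases mul_eq_zero.1 hmc with h | h
    · have h3 : (2 : F) * (m : F) = 0 := by rw [← h]; push_cast; ring
      rcases mul_eq_zero.1 h3 with h4 | h4
      · exact absurd h4 h2
      · exact h4
    · exact absurd h hc
  have h5 : ρ' (q ^ m) = 1 := by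
    rw [map_pow]
    rcases hq with h | h
    · rw [h, gl2_upper_pow, hm', zero_mul]; exact Matrix.one_fin_two.symm
    · rw [h, gl2_lower_pow, hm', zero_mul]; exact Matrix.one_fin_two.symm
  have h6 : q ^ m = 1 := hinj (by rw [h5, map_one])
  have h7 := orderOf_dvd_of_pow_eq_one h6
  have h8 := Nat.le_of_dvd hm0 h7
  omega

/-- Groups with abelian Sylow `2`-subgroups satisfy the `GL₂` obstruction. -/
theorem gl2Core_of_abelian_sylow2 {H : Type*} [Group H] [Finite H]
    (hab : ∀ T : Sylow 2 H, IsMulCommutative T) : GL2Core H := by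
  intro F _ ρ hdet h2 x y a b hx hy ha hb
  classical
  haveI : Fact (Nat.Prime 2) := ⟨Nat.prime_two⟩
  obtain ⟨ρ', hρ'⟩ : ∃ ρ' : H ⧸ ρ.ker →* Matrix (Fin 2) (Fin 2) F,
      ∀ g : H, ρ' (QuotientGroup.mk g) = ρ g :=
    ⟨QuotientGroup.lift ρ.ker ρ le_rfl, fun g => rfl⟩
  have hinj : Function.Injective ρ' := by
    intro u v huv
    induction u using QuotientGroup.induction_on with | _ g =>
    induction v using QuotientGroup.induction_on with | _ g' =>
    rw [hρ', hρ'] at huv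
    rw [QuotientGroup.eq, MonoidHom.mem_ker, map_mul, ← huv, ← map_mul, inv_mul_cancel, map_one]
  have hdet' : ∀ k, (ρ' k).det = 1 := by
    intro k
    induction k using QuotientGroup.induction_on with | _ g =>
    rw [hρ']; exact hdet g
  obtain ⟨T⟩ : Nonempty (Sylow 2 H) := inferInstance
  have hsurj : Function.Surjective (QuotientGroup.mk' ρ.ker) := QuotientGroup.mk'_surjective _
  obtain ⟨T', hT'⟩ : ∃ T' : Sylow 2 (H ⧸ ρ.ker),
      (T' : Subgroup (H ⧸ ρ.ker)) = (T : Subgroup H).map (QuotientGroup.mk' ρ.ker) :=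
    ⟨T.mapSurjective hsurj, Sylow.coe_mapSurjective _ T⟩
  haveI hTc := hab T
  have hcomm : ∀ u v : ↥(T' : Subgroup (H ⧸ ρ.ker)), u * v = v * u := by
    rintro ⟨u, hu⟩ ⟨v, hv⟩
    apply Subtype.ext
    show u * v = v * u
    have hu' : u ∈ (T : Subgroup H).map (QuotientGroup.mk' ρ.ker) := hT' ▸ hu
    have hv' : v ∈ (T : Subgroup H).map (QuotientGroup.mk' ρ.ker) := hT' ▸ hv
    obtain ⟨u₀, hu₀, rfl⟩ := hu'
    obtain ⟨v₀, hv₀, rfl⟩ := hv'
    have h3 := mul_comm' (⟨u₀, hu₀⟩ : T) ⟨v₀, hv₀⟩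
    have h4 : u₀ * v₀ = v₀ * u₀ := congrArg Subtype.val h3
    rw [← map_mul, ← map_mul, h4]
  obtain ⟨sq, hsq⟩ : ∃ sq : ↥(T' : Subgroup (H ⧸ ρ.ker)) →* ↥(T' : Subgroup (H ⧸ ρ.ker)),
      ∀ u, sq u = u ^ 2 :=
    ⟨MonoidHom.mk' (fun u => u ^ 2) (fun u v => Commute.mul_pow (hcomm u v) 2), fun u => rfl⟩
  have hK : ∀ u, u ∈ sq.ker ↔ u ^ 2 = 1 := fun u => by rw [MonoidHom.mem_ker, hsq]
  have hinvol : ∀ u : ↥(T' : Subgroup (H ⧸ ρ.ker)), u ^ 2 = 1 →
      ρ' (u : H ⧸ ρ.ker) = 1 ∨ ρ' (u : H ⧸ ρ.ker) = -1 := by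
    intro u hu
    apply gl2_sq_one _ (hdet' _) _ h2
    rw [← map_mul, ← pow_two, ← Subgroup.coe_pow, hu, Subgroup.coe_one, map_one]
  have hne : (1 : Matrix (Fin 2) (Fin 2) F) ≠ -1 := by
    intro h
    have h3 := congrFun (congrFun h 0) 0
    simp only [Matrix.one_apply_eq, Matrix.neg_apply] at h3
    exact h2 (by linear_combination h3)
  have hKcard : Nat.card sq.ker ≤ 2 := by
    have hfin : Nat.card (Fin 2) = 2 := by simp
    refine le_of_le_of_eq (Nat.card_le_card_of_injective (fun k : sq.ker =>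
      if ρ' ((k : ↥(T' : Subgroup (H ⧸ ρ.ker))) : H ⧸ ρ.ker) = 1 then (0 : Fin 2) else 1) ?_) hfin
    intro k k' hkk
    have h1 := hinvol k.1 ((hK k.1).1 k.2)
    have h1' := hinvol k'.1 ((hK k'.1).1 k'.2)
    have heq : ρ' ((k : ↥(T' : Subgroup (H ⧸ ρ.ker))) : H ⧸ ρ.ker) =
        ρ' ((k' : ↥(T' : Subgroup (H ⧸ ρ.ker))) : H ⧸ ρ.ker) := by
      by_cases hk1 : ρ' ((k : ↥(T' : Subgroup (H ⧸ ρ.ker))) : H ⧸ ρ.ker) = 1
      · by_cases hk1' : ρ' ((k' : ↥(T' : Subgroup (H ⧸ ρ.ker))) : H ⧸ ρ.ker) = 1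
        · rw [hk1, hk1']
        · simp [hk1, hk1'] at hkk
      · by_cases hk1' : ρ' ((k' : ↥(T' : Subgroup (H ⧸ ρ.ker))) : H ⧸ ρ.ker) = 1
        · simp [hk1, hk1'] at hkk
        · rcases h1 with h | h
          · exact absurd h hk1
          · rcases h1' with h' | h'
            · exact absurd h' hk1'
            · rw [h, h']
    exact Subtype.ext (Subtype.ext (hinj heq))
  have hcyc : IsCyclic ↥(T' : Subgroup (H ⧸ ρ.ker)) :=
    Cfsg.Agent.Helper24.isCyclic_of_card_omega_le T'.isPGroup' hcomm sq.ker hK hKcard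
  obtain ⟨K, hKn, hKodd, -, -, hKcardodd⟩ :=
    Cfsg.Agent.Helper6.TwoCompl.exists_normal_two_complement T' ⊤
      ⟨0, by rw [Subgroup.index_top, pow_zero]⟩ (by rw [inf_top_eq]; exact hcyc)
  have hxK : (QuotientGroup.mk x : H ⧸ ρ.ker) ∈ K :=
    (hKodd _).2 (gl2_unip_orderOf_odd ρ' hinj h2 _ a ha (Or.inl (by rw [hρ', hx])))
  have hyK : (QuotientGroup.mk y : H ⧸ ρ.ker) ∈ K :=
    (hKodd _).2 (gl2_unip_orderOf_odd ρ' hinj h2 _ b hb (Or.inr (by rw [hρ', hy])))
  exact gl2_core_false' hKcardodd (ρ'.comp K.subtype) (fun k => hdet' _) h2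
    ⟨_, hxK⟩ ⟨_, hyK⟩ a b (by show ρ' (QuotientGroup.mk x) = _; rw [hρ', hx])
    (by show ρ' (QuotientGroup.mk y) = _; rw [hρ', hy]) ha hb

end Cfsg.Agent.Helper10
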