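import Mathlib
import Cfsg.Agent.Helper10.GL2Core

set_option autoImplicit false

namespace Cfsg.Agent.Helper10

open Polynomial

/-- Induction over a finite group generated by two elements, for multiplicative predicates. -/
theorem closure_pair_induction {H : Type*} [Group H] [Finite H] (x y : H)
    (hgen : Subgroup.closure ({x, y} : Set H) = ⊤) (Pred : H → Prop) (h1 : Pred 1)
    (hmul : ∀ a b, Pred a → Pred b → Pred (a * b)) (hx : Pred x) (hy : Pred y) :
    ∀ h, Pred h := by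
  have hpow : ∀ (a : H) (n : ℕ), Pred a → Pred (a ^ n) := by
    intro a n ha
    induction n with
    | zero => rw [pow_zero]; exact h1
    | succ n ih => rw [pow_succ]; exact hmul _ _ ih ha
  have hinv : ∀ a, Pred a → Pred a⁻¹ := by
    intro a ha
    have h2 : a⁻¹ = a ^ (orderOf a - 1) := by
      apply inv_eq_of_mul_eq_one_right
      rw [← pow_succ', Nat.sub_add_cancel (orderOf_pos a), pow_orderOf_eq_one]
    rw [h2]; exact hpow a _ ha
  intro h
  have hh : h ∈ Subgroup.closure ({x, y} : Set H) := by rw [hgen]; trivial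
  induction hh using Subgroup.closure_induction with
  | mem a ha =>
    rcases ha with rfl | ha
    · exact hx
    · rw [Set.mem_singleton_iff.1 ha]; exact hy
  | one => exact h1
  | mul a b _ _ iha ihb => exact hmul a b iha ihb
  | inv a _ iha => exact hinv a iha

/-- The matrix `M` over `ℤ[X]` represents the endomorphism `f` of `W` relative to the
decomposition `W = W₂ ⊕ A W₂`, polynomials acting on `W₂` through `ev`. -/
def QuadRep {W : Type*} [AddCommGroup W] (W₂ : AddSubgroup W) (A : W →+ W)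
    (ev : ℤ[X] →+* AddMonoid.End W₂) (f : W →+ W) (M : Matrix (Fin 2) (Fin 2) ℤ[X]) : Prop :=
  ∀ w w' : W₂, f ((w : W) + A (w' : W)) =
    ((ev (M 0 0) w + ev (M 0 1) w' : W₂) : W) + A ((ev (M 1 0) w + ev (M 1 1) w' : W₂) : W)

theorem quadRep_one {W : Type*} [AddCommGroup W] (W₂ : AddSubgroup W) (A : W →+ W)
    (ev : ℤ[X] →+* AddMonoid.End W₂) : QuadRep W₂ A ev (AddMonoidHom.id W) 1 := by
  intro w w'
  have h00 : ev ((1 : Matrix (Fin 2) (Fin 2) ℤ[X]) 0 0) = 1 := by simp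
  have h01 : ev ((1 : Matrix (Fin 2) (Fin 2) ℤ[X]) 0 1) = 0 := by simp
  have h10 : ev ((1 : Matrix (Fin 2) (Fin 2) ℤ[X]) 1 0) = 0 := by simp
  have h11 : ev ((1 : Matrix (Fin 2) (Fin 2) ℤ[X]) 1 1) = 1 := by simp
  rw [h00, h01, h10, h11]
  show (w : W) + A (w' : W) = (((1 : AddMonoid.End W₂) w + (0 : AddMonoid.End W₂) w' : W₂) : W) +
    A (((0 : AddMonoid.End W₂) w + (1 : AddMonoid.End W₂) w' : W₂) : W)
  have e1 : (1 : AddMonoid.End W₂) w + (0 : AddMonoid.End W₂) w' = w := add_zero w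
  have e2 : (0 : AddMonoid.End W₂) w + (1 : AddMonoid.End W₂) w' = w' := zero_add w'
  rw [e1, e2]

theorem quadRep_mul {W : Type*} [AddCommGroup W] (W₂ : AddSubgroup W) (A : W →+ W)
    (ev : ℤ[X] →+* AddMonoid.End W₂) (f f' : W →+ W) (M M' : Matrix (Fin 2) (Fin 2) ℤ[X])
    (hf : QuadRep W₂ A ev f M) (hf' : QuadRep W₂ A ev f' M') :
    QuadRep W₂ A ev (f.comp f') (M * M') := by
  intro w w'
  have key : ∀ i : Fin 2, ev ((M * M') i 0) w + ev ((M * M') i 1) w' =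
      ev (M i 0) (ev (M' 0 0) w + ev (M' 0 1) w') +
        ev (M i 1) (ev (M' 1 0) w + ev (M' 1 1) w') := by
    intro i
    have e0 : ev ((M * M') i 0) w = ev (M i 0) (ev (M' 0 0) w) + ev (M i 1) (ev (M' 1 0) w) := by
      rw [Matrix.mul_apply, Fin.sum_univ_two, map_add, map_mul, map_mul]; rfl
    have e1 : ev ((M * M') i 1) w' =
        ev (M i 0) (ev (M' 0 1) w') + ev (M i 1) (ev (M' 1 1) w') := by
      rw [Matrix.mul_apply, Fin.sum_univ_two, map_add, map_mul, map_mul]; rfl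
    rw [e0, e1, map_add, map_add]
    abel
  rw [AddMonoidHom.comp_apply, hf' w w', hf, key 0, key 1]

/-- The irreducible case: a finite group of odd order generated by two elements acting
quadratically on an irreducible module of odd prime exponent acts trivially. -/
theorem quad_irr_gen {W : Type*} [AddCommGroup W] [Finite W] {H : Type*} [Group H] [Finite H]
    (p : ℕ) [Fact p.Prime] (hp : p ≠ 2) (hW : ∀ w : W, p • w = 0)
    (hcore : GL2Core H) (φ : H →* AddMonoid.End W) (x y : H)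
    (hgen : Subgroup.closure ({x, y} : Set H) = ⊤)
    (hx : ∀ w : W, φ x (φ x w - w) = φ x w - w) (hy : ∀ w : W, φ y (φ y w - w) = φ y w - w)
    (hirr : ∀ U : AddSubgroup W, (∀ h : H, ∀ u ∈ U, φ h u ∈ U) → U = ⊥ ∨ U = ⊤) :
    φ x = 1 ∧ φ y = 1 := by
  classical
  have hpp : p.Prime := Fact.out
  obtain ⟨A, hA⟩ : ∃ A : W →+ W, ∀ w, A w = φ x w - w :=
    ⟨(φ x - 1 : AddMonoid.End W), fun w => rfl⟩
  obtain ⟨B, hB⟩ : ∃ B : W →+ W, ∀ w, B w = φ y w - w :=
    ⟨(φ y - 1 : AddMonoid.End W), fun w => rfl⟩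
  have hφx : ∀ w, φ x w = w + A w := by intro w; rw [hA]; abel
  have hφy : ∀ w, φ y w = w + B w := by intro w; rw [hB]; abel
  have hAA : ∀ w, A (A w) = 0 := by
    intro w
    have h1 := hx w
    rw [← hA w, hφx (A w)] at h1
    exact add_eq_left.1 h1
  have hBB : ∀ w, B (B w) = 0 := by
    intro w
    have h1 := hy w
    rw [← hB w, hφy (B w)] at h1
    exact add_eq_left.1 h1
  have hdone : (∀ w, A w = 0) → (∀ w, B w = 0) → φ x = 1 ∧ φ y = 1 := by
    intro h1 h2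
    constructor
    · apply AddMonoidHom.ext; intro w; have h3 := hφx w; rw [h1 w, add_zero] at h3; exact h3
    · apply AddMonoidHom.ext; intro w; have h3 := hφy w; rw [h2 w, add_zero] at h3; exact h3
  have hinv : ∀ U : AddSubgroup W, (∀ u ∈ U, φ x u ∈ U) → (∀ u ∈ U, φ y u ∈ U) →
      ∀ h : H, ∀ u ∈ U, φ h u ∈ U := by
    intro U h1 h2
    exact closure_pair_induction x y hgen (fun h => ∀ u ∈ U, φ h u ∈ U)
      (by intro u hu; rw [map_one]; exact hu)
      (by intro a b ha hb u hu; rw [map_mul]; exact ha _ (hb u hu)) h1 h2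
  obtain ⟨W₁, hW₁⟩ : ∃ W₁ : AddSubgroup W, W₁ = AddMonoidHom.range A := ⟨_, rfl⟩
  obtain ⟨W₂, hW₂⟩ : ∃ W₂ : AddSubgroup W, W₂ = AddMonoidHom.range B := ⟨_, rfl⟩
  obtain ⟨C₁, hC₁⟩ : ∃ C₁ : AddSubgroup W, C₁ = AddMonoidHom.ker A := ⟨_, rfl⟩
  obtain ⟨C₂, hC₂⟩ : ∃ C₂ : AddSubgroup W, C₂ = AddMonoidHom.ker B := ⟨_, rfl⟩
  have hmemW₁ : ∀ w, A w ∈ W₁ := fun w => by rw [hW₁]; exact ⟨w, rfl⟩
  have hmemW₂ : ∀ w, B w ∈ W₂ := fun w => by rw [hW₂]; exact ⟨w, rfl⟩
  have hmemC₁ : ∀ w, w ∈ C₁ ↔ A w = 0 := fun w => by rw [hC₁, AddMonoidHom.mem_ker]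
  have hmemC₂ : ∀ w, w ∈ C₂ ↔ B w = 0 := fun w => by rw [hC₂, AddMonoidHom.mem_ker]
  have h11 : W₁ ≤ C₁ := by
    rw [hW₁]; rintro _ ⟨w, rfl⟩; rw [hmemC₁]; exact hAA w
  have h22 : W₂ ≤ C₂ := by
    rw [hW₂]; rintro _ ⟨w, rfl⟩; rw [hmemC₂]; exact hBB w
  have hUx : ∀ u ∈ W₁ ⊔ W₂, φ x u ∈ W₁ ⊔ W₂ := by
    intro u hu
    obtain ⟨a, ha, b, hb, rfl⟩ := AddSubgroup.mem_sup.1 hu
    rw [hφx, map_add, (hmemC₁ a).1 (h11 ha), zero_add]
    have h3 : a + b + A b = (a + A b) + b := by abel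
    rw [h3]
    exact AddSubgroup.add_mem_sup (W₁.add_mem ha (hmemW₁ b)) hb
  have hUy : ∀ u ∈ W₁ ⊔ W₂, φ y u ∈ W₁ ⊔ W₂ := by
    intro u hu
    obtain ⟨a, ha, b, hb, rfl⟩ := AddSubgroup.mem_sup.1 hu
    rw [hφy, map_add, (hmemC₂ b).1 (h22 hb), add_zero]
    have h3 : a + b + B a = a + (b + B a) := by abel
    rw [h3]
    exact AddSubgroup.add_mem_sup ha (W₂.add_mem hb (hmemW₂ a))
  rcases hirr _ (hinv _ hUx hUy) with hbot | htop
  · apply hdone
    · intro w
      have h3 : W₁ ≤ W₁ ⊔ W₂ := le_sup_left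
      rw [hbot] at h3
      exact AddSubgroup.mem_bot.1 (h3 (hmemW₁ w))
    · intro w
      have h3 : W₂ ≤ W₁ ⊔ W₂ := le_sup_right
      rw [hbot] at h3
      exact AddSubgroup.mem_bot.1 (h3 (hmemW₂ w))
  have hCx : ∀ u ∈ C₁ ⊓ C₂, φ x u ∈ C₁ ⊓ C₂ := by
    intro u hu
    rw [hφx, (hmemC₁ u).1 (AddSubgroup.mem_inf.1 hu).1, add_zero]; exact hu
  have hCy : ∀ u ∈ C₁ ⊓ C₂, φ y u ∈ C₁ ⊓ C₂ := by
    intro u hu
    rw [hφy, (hmemC₂ u).1 (AddSubgroup.mem_inf.1 hu).2, add_zero]; exact hu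
  rcases hirr _ (hinv _ hCx hCy) with hbot2 | htop2
  swap
  · apply hdone
    · intro w
      have h3 : w ∈ C₁ ⊓ C₂ := by rw [htop2]; trivial
      exact (hmemC₁ w).1 (AddSubgroup.mem_inf.1 h3).1
    · intro w
      have h3 : w ∈ C₁ ⊓ C₂ := by rw [htop2]; trivial
      exact (hmemC₂ w).1 (AddSubgroup.mem_inf.1 h3).2
  -- cardinalities
  have c1 : Nat.card W₁ * Nat.card C₁ = Nat.card W := by
    have h1 := AddSubgroup.card_mul_index C₁
    have h2 : C₁.index = Nat.card W₁ := by rw [hC₁, hW₁]; exact AddSubgroup.index_ker A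
    rw [h2] at h1; rw [mul_comm]; exact h1
  have c2 : Nat.card W₂ * Nat.card C₂ = Nat.card W := by
    have h1 := AddSubgroup.card_mul_index C₂
    have h2 : C₂.index = Nat.card W₂ := by rw [hC₂, hW₂]; exact AddSubgroup.index_ker B
    rw [h2] at h1; rw [mul_comm]; exact h1
  have c3 : Nat.card W ≤ Nat.card W₁ * Nat.card W₂ := by
    rw [← Nat.card_prod]
    apply Nat.card_le_card_of_surjective (fun ab : W₁ × W₂ => (ab.1 : W) + (ab.2 : W))
    intro w
    have hw : w ∈ W₁ ⊔ W₂ := by rw [htop]; trivial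
    obtain ⟨a, ha, b, hb, rfl⟩ := AddSubgroup.mem_sup.1 hw
    exact ⟨(⟨a, ha⟩, ⟨b, hb⟩), rfl⟩
  have c4 : Nat.card C₁ * Nat.card C₂ ≤ Nat.card W := by
    rw [← Nat.card_prod]
    apply Nat.card_le_card_of_injective (fun ab : C₁ × C₂ => (ab.1 : W) + (ab.2 : W))
    rintro ⟨a, b⟩ ⟨a', b'⟩ hab
    have hab' : (a : W) + (b : W) = (a' : W) + (b' : W) := hab
    have h1 : (a : W) - a' = b' - b := by
      rw [sub_eq_sub_iff_add_eq_add, hab', add_comm]
    have h2 : (a : W) - a' ∈ C₁ ⊓ C₂ :=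
      AddSubgroup.mem_inf.2 ⟨C₁.sub_mem a.2 a'.2, by rw [h1]; exact C₂.sub_mem b'.2 b.2⟩
    rw [hbot2, AddSubgroup.mem_bot, sub_eq_zero] at h2
    have h3 : (b : W) = b' := by rw [h2] at hab'; exact add_left_cancel hab'
    exact Prod.ext (Subtype.ext h2) (Subtype.ext h3)
  have c5 : Nat.card W₁ ≤ Nat.card C₁ := AddSubgroup.card_le_of_le h11
  have c6 : Nat.card W₂ ≤ Nat.card C₂ := AddSubgroup.card_le_of_le h22
  have e1 : Nat.card W₁ = Nat.card C₁ := by
    have h1 : Nat.card C₁ * Nat.card W₂ ≤ Nat.card W₁ * Nat.card W₂ :=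
      le_trans (Nat.mul_le_mul_left _ c6) (le_trans c4 c3)
    exact le_antisymm c5 (Nat.le_of_mul_le_mul_right h1 Nat.card_pos)
  have e2 : Nat.card W₂ = Nat.card C₂ := by
    have h1 : Nat.card W₁ * Nat.card C₂ ≤ Nat.card W₁ * Nat.card W₂ :=
      le_trans (Nat.mul_le_mul_right _ c5) (le_trans c4 c3)
    exact le_antisymm c6 (Nat.le_of_mul_le_mul_left h1 Nat.card_pos)
  have hWC₁ : W₁ = C₁ := AddSubgroup.eq_of_le_of_card_ge h11 e1.ge
  have hWC₂ : W₂ = C₂ := AddSubgroup.eq_of_le_of_card_ge h22 e2.ge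
  have f1 : ∀ w, A w = 0 → w ∈ W₁ := fun w hw => by rw [hWC₁, hmemC₁]; exact hw
  have f1' : ∀ w, w ∈ W₁ → A w = 0 := fun w hw => (hmemC₁ w).1 (h11 hw)
  have f2 : ∀ w, B w = 0 → w ∈ W₂ := fun w hw => by rw [hWC₂, hmemC₂]; exact hw
  have f2' : ∀ w, w ∈ W₂ → B w = 0 := fun w hw => (hmemC₂ w).1 (h22 hw)
  have f3 : ∀ w, w ∈ W₁ → w ∈ W₂ → w = 0 := by
    intro w h1 h2
    have h3 : w ∈ C₁ ⊓ C₂ := AddSubgroup.mem_inf.2 ⟨h11 h1, h22 h2⟩
    rw [hbot2] at h3
    exact AddSubgroup.mem_bot.1 h3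
  -- trivial module
  by_cases hsub : Subsingleton W
  · exact hdone (fun w => Subsingleton.elim _ _) (fun w => Subsingleton.elim _ _)
  rw [not_subsingleton_iff_nontrivial] at hsub
  have hW₂nt : Nontrivial W₂ := by
    rw [← Finite.one_lt_card_iff_nontrivial]
    have h1 : 1 < Nat.card W := Finite.one_lt_card_iff_nontrivial.2 hsub
    rw [← c2, ← e2] at h1
    by_contra h3
    have h4 : Nat.card W₂ = 1 := le_antisymm (not_lt.1 h3) Nat.card_pos
    rw [h4] at h1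
    exact absurd h1 (by norm_num)
  -- the operator T = B A on W₂
  obtain ⟨T, hT⟩ : ∃ T : AddMonoid.End W₂, ∀ w : W₂, ((T w : W₂) : W) = B (A (w : W)) :=
    ⟨AddMonoidHom.codRestrict ((B.comp A).comp W₂.subtype) W₂ (fun w => hmemW₂ _), fun w => rfl⟩
  have hTinj : Function.Injective T := by
    apply (injective_iff_map_eq_zero T).2
    intro w hw
    have h1 : B (A (w : W)) = 0 := by rw [← hT, hw]; rfl
    have h3 : A (w : W) = 0 := f3 _ (hmemW₁ _) (f2 _ h1)
    exact Subtype.ext (f3 _ (f1 _ h3) w.2)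
  obtain ⟨n, hn0, hTn⟩ : ∃ n : ℕ, 0 < n ∧ T ^ n = 1 := by
    haveI : Finite (AddMonoid.End W₂) :=
      Finite.of_injective (fun f : AddMonoid.End W₂ => (f : W₂ → W₂)) DFunLike.coe_injective
    have hpowinj : ∀ k : ℕ, Function.Injective (T ^ k) := by
      intro k
      induction k with
      | zero => rw [pow_zero]; exact fun a b h => h
      | succ k ih => rw [pow_succ]; exact fun a b h => hTinj (ih h)
    have hex : ∃ i j : ℕ, i < j ∧ T ^ i = T ^ j := by
      obtain ⟨i, j, hij, hTij⟩ := Finite.exists_ne_map_eq_of_infinite (fun k : ℕ => T ^ k)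
      have hTij' : T ^ i = T ^ j := hTij
      rcases lt_or_gt_of_ne hij with h | h
      · exact ⟨i, j, h, hTij'⟩
      · exact ⟨j, i, h, hTij'.symm⟩
    obtain ⟨i, j, hlt, hTij⟩ := hex
    refine ⟨j - i, Nat.sub_pos_of_lt hlt, ?_⟩
    apply AddMonoidHom.ext
    intro w
    apply hpowinj i
    have h3 : T ^ i * T ^ (j - i) = T ^ j := by rw [← pow_add, Nat.add_sub_cancel' hlt.le]
    calc (T ^ i) ((T ^ (j - i)) w) = (T ^ i * T ^ (j - i)) w := rfl
      _ = (T ^ j) w := by rw [h3]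
      _ = (T ^ i) w := by rw [hTij]
  -- polynomial action
  obtain ⟨ev, hevX⟩ : ∃ ev : ℤ[X] →+* AddMonoid.End W₂, ev X = T :=
    ⟨(Polynomial.aeval T).toRingHom, Polynomial.aeval_X T⟩
  have hIne : RingHom.ker ev ≠ ⊤ := by
    intro h
    have h1 : (1 : ℤ[X]) ∈ RingHom.ker ev := by rw [h]; trivial
    rw [RingHom.mem_ker, map_one] at h1
    obtain ⟨w₀, hw₀⟩ : ∃ w₀ : W₂, w₀ ≠ 0 := exists_ne 0
    exact hw₀ (DFunLike.congr_fun h1 w₀)
  obtain ⟨𝔫, h𝔫max, hI𝔫⟩ := Ideal.exists_le_maximal _ hIne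
  haveI := h𝔫max
  letI : Field (ℤ[X] ⧸ 𝔫) := Ideal.Quotient.field 𝔫
  have hker : ∀ f g : ℤ[X], ev f = ev g → Ideal.Quotient.mk 𝔫 f = Ideal.Quotient.mk 𝔫 g := by
    intro f g hfg
    rw [Ideal.Quotient.eq]
    apply hI𝔫
    rw [RingHom.mem_ker, map_sub, hfg, sub_self]
  have ht : Ideal.Quotient.mk 𝔫 (X : ℤ[X]) ≠ 0 := by
    intro h
    have h1 : Ideal.Quotient.mk 𝔫 ((X : ℤ[X]) ^ n) = Ideal.Quotient.mk 𝔫 1 :=
      hker _ _ (by rw [map_pow, hevX, hTn, map_one])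
    rw [map_pow, h, zero_pow hn0.ne', map_one] at h1
    exact zero_ne_one h1
  have h2E : (2 : ℤ[X] ⧸ 𝔫) ≠ 0 := by
    intro h
    have h1 : Ideal.Quotient.mk 𝔫 ((p : ℕ) : ℤ[X]) = Ideal.Quotient.mk 𝔫 0 := by
      apply hker
      rw [map_natCast, map_zero]
      apply AddMonoidHom.ext
      intro w
      show p • w = 0
      exact Subtype.ext (hW (w : W))
    rw [map_natCast, map_zero] at h1
    obtain ⟨m, hm⟩ := hpp.eq_two_or_odd'.resolve_left hp
    rw [hm] at h1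
    push_cast at h1
    rw [h, zero_mul, zero_add] at h1
    exact one_ne_zero h1
  -- representing matrices
  have hΘinj : ∀ u u' v v' : W₂, (u : W) + A (u' : W) = (v : W) + A (v' : W) → u = v ∧ u' = v' := by
    intro u u' v v' h
    have h1 : (u : W) - v = A ((v' : W) - u') := by
      rw [map_sub, sub_eq_sub_iff_add_eq_add, h, add_comm]
    have h3 : (u : W) - v = 0 := f3 _ (by rw [h1]; exact hmemW₁ _) (W₂.sub_mem u.2 v.2)
    have h4 : (v' : W) - u' = 0 := by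
      apply f3 _ (f1 _ _) (W₂.sub_mem v'.2 u'.2)
      rw [← h1, h3]
    exact ⟨Subtype.ext (sub_eq_zero.1 h3), Subtype.ext (sub_eq_zero.1 h4).symm⟩
  have hRx : QuadRep W₂ A ev (φ x) !![1, 0; 1, 1] := by
    intro w w'
    have e1 : ev ((!![1, 0; 1, 1] : Matrix (Fin 2) (Fin 2) ℤ[X]) 0 0) = 1 := by simp
    have e2 : ev ((!![1, 0; 1, 1] : Matrix (Fin 2) (Fin 2) ℤ[X]) 0 1) = 0 := by simp
    have e3 : ev ((!![1, 0; 1, 1] : Matrix (Fin 2) (Fin 2) ℤ[X]) 1 0) = 1 := by simp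
    have e4 : ev ((!![1, 0; 1, 1] : Matrix (Fin 2) (Fin 2) ℤ[X]) 1 1) = 1 := by simp
    rw [e1, e2, e3, e4]
    have h3 := hφx ((w : W) + A (w' : W))
    rw [map_add A, hAA, add_zero] at h3
    refine h3.trans ?_
    show (w : W) + A (w' : W) + A (w : W) = ((w + 0 : W₂) : W) + A ((w + w' : W₂) : W)
    rw [add_zero, AddSubgroup.coe_add, map_add]
    abel
  have hRy : QuadRep W₂ A ev (φ y) !![1, X; 0, 1] := by
    intro w w'
    have e1 : ev ((!![1, X; 0, 1] : Matrix (Fin 2) (Fin 2) ℤ[X]) 0 0) = 1 := by simp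
    have e2 : ev ((!![1, X; 0, 1] : Matrix (Fin 2) (Fin 2) ℤ[X]) 0 1) = T := by simp [hevX]
    have e3 : ev ((!![1, X; 0, 1] : Matrix (Fin 2) (Fin 2) ℤ[X]) 1 0) = 0 := by simp
    have e4 : ev ((!![1, X; 0, 1] : Matrix (Fin 2) (Fin 2) ℤ[X]) 1 1) = 1 := by simp
    rw [e1, e2, e3, e4]
    have h3 := hφy ((w : W) + A (w' : W))
    rw [map_add B, f2' _ w.2, zero_add] at h3
    refine h3.trans ?_
    show (w : W) + A (w' : W) + B (A (w' : W)) = ((w + T w' : W₂) : W) + A ((0 + w' : W₂) : W)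
    rw [zero_add, AddSubgroup.coe_add, hT]
    abel
  have hex : ∀ h : H, ∃ M : Matrix (Fin 2) (Fin 2) ℤ[X], QuadRep W₂ A ev (φ h) M := by
    apply closure_pair_induction x y hgen
    · exact ⟨1, by rw [map_one]; exact quadRep_one W₂ A ev⟩
    · rintro a b ⟨M, hM⟩ ⟨M', hM'⟩
      exact ⟨M * M', by rw [map_mul]; exact quadRep_mul W₂ A ev _ _ M M' hM hM'⟩
    · exact ⟨_, hRx⟩
    · exact ⟨_, hRy⟩
  have huniq : ∀ (h : H) (M M' : Matrix (Fin 2) (Fin 2) ℤ[X]), QuadRep W₂ A ev (φ h) M →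
      QuadRep W₂ A ev (φ h) M' →
      (Ideal.Quotient.mk 𝔫).mapMatrix M = (Ideal.Quotient.mk 𝔫).mapMatrix M' := by
    intro h M M' hM hM'
    have hrow : ∀ i : Fin 2, ev (M i 0) = ev (M' i 0) ∧ ev (M i 1) = ev (M' i 1) := by
      have h0 : ∀ w w' : W₂, (ev (M 0 0) w + ev (M 0 1) w' = ev (M' 0 0) w + ev (M' 0 1) w') ∧
          (ev (M 1 0) w + ev (M 1 1) w' = ev (M' 1 0) w + ev (M' 1 1) w') := by
        intro w w'
        exact hΘinj _ _ _ _ ((hM w w').symm.trans (hM' w w'))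
      have hrow' : ∀ i : Fin 2, ∀ w w' : W₂,
          ev (M i 0) w + ev (M i 1) w' = ev (M' i 0) w + ev (M' i 1) w' := by
        intro i
        revert i
        rw [Fin.forall_fin_two]
        exact ⟨fun w w' => (h0 w w').1, fun w w' => (h0 w w').2⟩
      intro i
      constructor
      · apply AddMonoidHom.ext
        intro w
        have h3 := hrow' i w 0
        rw [map_zero, map_zero, add_zero, add_zero] at h3
        exact h3
      · apply AddMonoidHom.ext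
        intro w'
        have h3 := hrow' i 0 w'
        rw [map_zero, map_zero, zero_add, zero_add] at h3
        exact h3
    ext i j
    rw [RingHom.mapMatrix_apply, RingHom.mapMatrix_apply, Matrix.map_apply, Matrix.map_apply]
    revert j
    rw [Fin.forall_fin_two]
    exact ⟨hker _ _ (hrow i).1, hker _ _ (hrow i).2⟩
  obtain ⟨ρ, hρ⟩ : ∃ ρ : H →* Matrix (Fin 2) (Fin 2) (ℤ[X] ⧸ 𝔫),
      ∀ (h : H) (M : Matrix (Fin 2) (Fin 2) ℤ[X]), QuadRep W₂ A ev (φ h) M →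
        ρ h = (Ideal.Quotient.mk 𝔫).mapMatrix M := by
    refine ⟨{ toFun := fun h => (Ideal.Quotient.mk 𝔫).mapMatrix (Classical.choose (hex h))
              map_one' := ?_
              map_mul' := ?_ }, ?_⟩
    · have h1 := huniq 1 _ 1 (Classical.choose_spec (hex 1))
        (by rw [map_one]; exact quadRep_one W₂ A ev)
      rw [h1, map_one]
    · intro a b
      have h0 : QuadRep W₂ A ev (φ (a * b))
          (Classical.choose (hex a) * Classical.choose (hex b)) := by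
        rw [map_mul]
        exact quadRep_mul W₂ A ev _ _ _ _ (Classical.choose_spec (hex a))
          (Classical.choose_spec (hex b))
      have h1 := huniq (a * b) _ _ (Classical.choose_spec (hex (a * b))) h0
      rw [h1, map_mul]
    · intro h M hM
      exact huniq h _ M (Classical.choose_spec (hex h)) hM
  have hρx : ρ x = !![1, 0; 1, 1] := by
    rw [hρ x _ hRx]
    ext i j
    revert i j
    simp [Fin.forall_fin_two]
  have hρy : ρ y = !![1, Ideal.Quotient.mk 𝔫 X; 0, 1] := by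
    rw [hρ y _ hRy]
    ext i j
    revert i j
    simp [Fin.forall_fin_two]
  have hdet : ∀ h : H, (ρ h).det = 1 := by
    apply closure_pair_induction x y hgen
    · rw [map_one, Matrix.det_one]
    · intro a b ha hb
      rw [map_mul, Matrix.det_mul, ha, hb, one_mul]
    · rw [hρx, Matrix.det_fin_two_of]; ring
    · rw [hρy, Matrix.det_fin_two_of]; ring
  exact (hcore _ ρ hdet h2E y x _ 1 hρy hρx ht one_ne_zero).elim

/-- The irreducible case: a finite group of odd order generated by two elements acting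
quadratically on an irreducible module of odd prime exponent acts trivially. -/
theorem quad_irr {W : Type*} [AddCommGroup W] [Finite W] {H : Type*} [Group H] [Finite H]
    (p : ℕ) [Fact p.Prime] (hp : p ≠ 2) (hW : ∀ w : W, p • w = 0)
    (hodd : Odd (Nat.card H)) (φ : H →* AddMonoid.End W) (x y : H)
    (hgen : Subgroup.closure ({x, y} : Set H) = ⊤)
    (hx : ∀ w : W, φ x (φ x w - w) = φ x w - w) (hy : ∀ w : W, φ y (φ y w - w) = φ y w - w)
    (hirr : ∀ U : AddSubgroup W, (∀ h : H, ∀ u ∈ U, φ h u ∈ U) → U = ⊥ ∨ U = ⊤) :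
    φ x = 1 ∧ φ y = 1 :=
  quad_irr_gen p hp hW (gl2Core_of_odd hodd) φ x y hgen hx hy hirr

end Cfsg.Agent.Helper10
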