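import Mathlib
import Cfsg.Agent.Helper10.QuadIrr
import Cfsg.Agent.Helper1.QuadRing

set_option autoImplicit false

universe u

namespace Cfsg.Agent.Helper10

open scoped IsMulCommutative

/-- Restriction of an action by automorphisms to an invariant subgroup. -/
def restrictAct {H P : Type*} [Group H] [Group P] (φ : H →* MulAut P) (P₁ : Subgroup P)
    (hinv : ∀ h : H, ∀ u ∈ P₁, φ h u ∈ P₁) : H →* MulAut P₁ where
  toFun h :=
    { toFun := fun u => ⟨φ h u, hinv h u u.2⟩
      invFun := fun u => ⟨φ h⁻¹ u, hinv h⁻¹ u u.2⟩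
      left_inv := fun u => Subtype.ext (by
        show φ h⁻¹ (φ h u) = u
        rw [← MulAut.mul_apply, ← map_mul, inv_mul_cancel, map_one]; rfl)
      right_inv := fun u => Subtype.ext (by
        show φ h (φ h⁻¹ u) = u
        rw [← MulAut.mul_apply, ← map_mul, mul_inv_cancel, map_one]; rfl)
      map_mul' := fun u v => Subtype.ext (map_mul (φ h) (u : P) (v : P)) }
  map_one' := by
    apply MulEquiv.ext
    intro u
    apply Subtype.ext
    show φ 1 (u : P) = u
    rw [map_one]; rfl
  map_mul' a b := by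
    apply MulEquiv.ext
    intro u
    apply Subtype.ext
    show φ (a * b) (u : P) = φ a (φ b (u : P))
    rw [map_mul]; rfl

theorem restrictAct_coe {H P : Type*} [Group H] [Group P] (φ : H →* MulAut P) (P₁ : Subgroup P)
    (hinv : ∀ h : H, ∀ u ∈ P₁, φ h u ∈ P₁) (h : H) (u : P₁) :
    ((restrictAct φ P₁ hinv h u : P₁) : P) = φ h (u : P) := rfl

theorem map_eq_of_inv {H P : Type*} [Group H] [Group P] (φ : H →* MulAut P) (P₁ : Subgroup P)
    (hinv : ∀ h : H, ∀ u ∈ P₁, φ h u ∈ P₁) (h : H) :
    P₁.map ((φ h : P ≃* P) : P →* P) = P₁ := by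
  apply le_antisymm
  · rintro _ ⟨u, hu, rfl⟩
    exact hinv h u hu
  · intro u hu
    refine ⟨φ h⁻¹ u, hinv h⁻¹ u hu, ?_⟩
    show φ h (φ h⁻¹ u) = u
    rw [← MulAut.mul_apply, ← map_mul, mul_inv_cancel, map_one]; rfl

/-- The induced action on the quotient by an invariant normal subgroup. -/
def quotAct {H P : Type*} [Group H] [Group P] (φ : H →* MulAut P) (P₁ : Subgroup P) [P₁.Normal]
    (hinv : ∀ h : H, ∀ u ∈ P₁, φ h u ∈ P₁) : H →* MulAut (P ⧸ P₁) where
  toFun h := QuotientGroup.congr P₁ P₁ (φ h) (map_eq_of_inv φ P₁ hinv h)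
  map_one' := by
    apply MulEquiv.ext
    intro q
    induction q using QuotientGroup.induction_on with | _ u =>
    rw [QuotientGroup.congr_mk, map_one]; rfl
  map_mul' a b := by
    apply MulEquiv.ext
    intro q
    induction q using QuotientGroup.induction_on with | _ u =>
    rw [MulAut.mul_apply, QuotientGroup.congr_mk, QuotientGroup.congr_mk, QuotientGroup.congr_mk,
      map_mul]; rfl

theorem quotAct_mk {H P : Type*} [Group H] [Group P] (φ : H →* MulAut P) (P₁ : Subgroup P)
    [P₁.Normal] (hinv : ∀ h : H, ∀ u ∈ P₁, φ h u ∈ P₁) (h : H) (u : P) :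
    quotAct φ P₁ hinv h (QuotientGroup.mk u : P ⧸ P₁) = (QuotientGroup.mk (φ h u) : P ⧸ P₁) :=
  QuotientGroup.congr_mk P₁ P₁ (φ h) (map_eq_of_inv φ P₁ hinv h) u

/-- A finite group of odd order generated by two elements acting quadratically on a finite
`p`-group (`p` odd) induces a `p`-group of automorphisms. -/
theorem quad_pgroup_gen (p : ℕ) [Fact p.Prime] (hp : p ≠ 2) {H : Type*} [Group H] [Finite H]
    (hcore : GL2Core H) (x y : H) (hgen : Subgroup.closure ({x, y} : Set H) = ⊤) :
    ∀ (n : ℕ) (P : Type u) [Group P] [Finite P], Nat.card P = n → IsPGroup p P →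
      ∀ (φ : H →* MulAut P),
      (∀ u : P, φ x (φ x u * u⁻¹) = φ x u * u⁻¹) → (∀ u : P, φ y (φ y u * u⁻¹) = φ y u * u⁻¹) →
      ∀ h : H, ∃ k : ℕ, (φ h) ^ (p ^ k) = 1 := by
  intro n
  induction n using Nat.strong_induction_on with
  | _ n ih =>
  intro P _ _ hn hP φ hqx hqy
  classical
  have hpp : p.Prime := Fact.out
  by_cases hred : ∃ P₁ : Subgroup P, P₁.Normal ∧ P₁ ≠ ⊥ ∧ P₁ ≠ ⊤ ∧
      ∀ h : H, ∀ u ∈ P₁, φ h u ∈ P₁
  · obtain ⟨P₁, hP₁n, hP₁bot, hP₁top, hinv⟩ := hred
    haveI := hP₁n
    have hc1 : Nat.card P₁ < n := by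
      rw [← hn]
      by_contra hcon
      exact hP₁top (Subgroup.eq_top_of_card_eq P₁
        (le_antisymm (Subgroup.card_le_card_group P₁) (not_lt.1 hcon)))
    have hc2 : Nat.card (P ⧸ P₁) < n := by
      rw [← hn, ← Subgroup.card_mul_index P₁]
      have h1 : 1 < Nat.card P₁ := by
        by_contra hcon
        exact hP₁bot (Subgroup.eq_bot_of_card_le P₁ (not_lt.1 hcon))
      have h2 : 0 < P₁.index := Nat.pos_of_ne_zero (Subgroup.index_ne_zero_of_finite)
      rw [Subgroup.index_eq_card] at h2 ⊢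
      nlinarith
    have ih1 := ih _ hc1 P₁ rfl (hP.to_subgroup P₁) (restrictAct φ P₁ hinv)
      (by intro u; apply Subtype.ext; exact hqx u) (by intro u; apply Subtype.ext; exact hqy u)
    have ih2 := ih _ hc2 (P ⧸ P₁) rfl (hP.to_quotient P₁) (quotAct φ P₁ hinv)
      (by
        intro q
        induction q using QuotientGroup.induction_on with | _ u =>
        rw [quotAct_mk, ← QuotientGroup.mk_inv, ← QuotientGroup.mk_mul, quotAct_mk, hqx u])
      (by
        intro q
        induction q using QuotientGroup.induction_on with | _ u =>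
        rw [quotAct_mk, ← QuotientGroup.mk_inv, ← QuotientGroup.mk_mul, quotAct_mk, hqy u])
    intro h
    obtain ⟨k₁, hk₁⟩ := ih1 h
    obtain ⟨k₂, hk₂⟩ := ih2 h
    obtain ⟨j, hj⟩ := IsPGroup.iff_card.1 hP
    refine ⟨k₁ + k₂ + j, ?_⟩
    obtain ⟨g, hg⟩ : ∃ g : H, g = h ^ p ^ (k₁ + k₂) := ⟨_, rfl⟩
    have hg1 : ∀ u ∈ P₁, φ g u = u := by
      intro u hu
      have h1 : restrictAct φ P₁ hinv g = 1 := by
        rw [hg, map_pow, pow_add, pow_mul, hk₁, one_pow]
      exact congrArg (fun e : MulAut P₁ => ((e ⟨u, hu⟩ : P₁) : P)) h1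
    have hg2 : ∀ u : P, u⁻¹ * φ g u ∈ P₁ := by
      intro u
      have h1 : quotAct φ P₁ hinv g = 1 := by
        rw [hg, map_pow, pow_add, pow_mul', hk₂, one_pow]
      have h3 := congrArg (fun e : MulAut (P ⧸ P₁) => e (QuotientGroup.mk u)) h1
      simp only [quotAct_mk, MulAut.one_apply] at h3
      exact QuotientGroup.eq.1 h3.symm
    have hpow : ∀ (m : ℕ) (u : P), ((φ g) ^ m) u = u * (u⁻¹ * φ g u) ^ m := by
      intro m
      induction m with
      | zero => intro u; simp
      | succ m ihm =>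
        intro u
        rw [pow_succ', MulAut.mul_apply, ihm u, map_mul, map_pow, hg1 _ (hg2 u),
          pow_succ' (u⁻¹ * φ g u) m, ← mul_assoc u, mul_inv_cancel_left]
    apply MulEquiv.ext
    intro u
    have h1 : (φ h) ^ p ^ (k₁ + k₂ + j) = (φ g) ^ (p ^ j) := by
      rw [hg, map_pow, ← pow_mul, ← pow_add]
    rw [h1, hpow, ← hj, pow_card_eq_one', mul_one]; rfl
  · have hnone : ∀ P₁ : Subgroup P, P₁.Normal → (∀ h : H, ∀ u ∈ P₁, φ h u ∈ P₁) →
        P₁ = ⊥ ∨ P₁ = ⊤ := by
      intro P₁ h1 h2
      by_contra hcon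
      rw [not_or] at hcon
      exact hred ⟨P₁, h1, hcon.1, hcon.2, h2⟩
    by_cases hsub : Subsingleton P
    · intro h
      exact ⟨0, by apply MulEquiv.ext; intro u; exact Subsingleton.elim _ _⟩
    rw [not_subsingleton_iff_nontrivial] at hsub
    have hZinv : ∀ h : H, ∀ u ∈ Subgroup.center P, φ h u ∈ Subgroup.center P := by
      intro h u hu
      rw [Subgroup.mem_center_iff] at hu ⊢
      intro g
      have hg : g = φ h ((φ h)⁻¹ g) := by simp
      rw [hg, ← map_mul, ← map_mul, hu]
    have hZtop : Subgroup.center P = ⊤ := by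
      rcases hnone _ inferInstance hZinv with h | h
      · have h1 := hP.center_nontrivial
        exact absurd h ((Subgroup.nontrivial_iff_ne_bot _).1 h1)
      · exact h
    have hmemZ : ∀ u : P, u ∈ Subgroup.center P := fun u => by rw [hZtop]; trivial
    have hcomm : ∀ a b : P, a * b = b * a := fun a b => Subgroup.mem_center_iff.1 (hmemZ b) a
    have hexp : ∀ u : P, u ^ p = 1 := by
      obtain ⟨Ω, hΩ⟩ : ∃ Ω : Subgroup P, ∀ u, u ∈ Ω ↔ u ^ p = 1 :=
        ⟨{ carrier := {u | u ^ p = 1}
           mul_mem' := fun {a b} ha hb => by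
             show (a * b) ^ p = 1
             rw [Commute.mul_pow (hcomm a b) p, ha, hb, one_mul]
           one_mem' := one_pow p
           inv_mem' := fun {a} ha => by
             show a⁻¹ ^ p = 1
             rw [inv_pow, ha, inv_one] }, fun u => Iff.rfl⟩
      have hΩn : Ω.Normal := by
        refine ⟨fun u hu g => ?_⟩
        rw [hΩ] at hu ⊢
        rw [conj_pow, hu, mul_one, mul_inv_cancel]
      have hΩinv : ∀ h : H, ∀ u ∈ Ω, φ h u ∈ Ω := by
        intro h u hu
        rw [hΩ] at hu ⊢
        rw [← map_pow, hu, map_one]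
      rcases hnone Ω hΩn hΩinv with h | h
      · exfalso
        have hdvd : p ∣ Nat.card P := by
          rcases hP.card_eq_or_dvd with h1 | h1
          · exact absurd (Finite.one_lt_card_iff_nontrivial.2 hsub) (by rw [h1]; exact lt_irrefl 1)
          · exact h1
        obtain ⟨u, hu⟩ := exists_prime_orderOf_dvd_card' p hdvd
        have hu1 : u ∈ Ω := by rw [hΩ, ← hu]; exact pow_orderOf_eq_one u
        rw [h, Subgroup.mem_bot] at hu1
        rw [hu1, orderOf_one] at hu
        exact hpp.one_lt.ne hu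
      · intro u
        have hu : u ∈ Ω := by rw [h]; trivial
        exact (hΩ u).1 hu
    -- the linearised action on the centre
    obtain ⟨φ', hφ'⟩ : ∃ φ' : H →* AddMonoid.End (Additive (Subgroup.center P)),
        ∀ (h : H) (w : Additive (Subgroup.center P)),
          φ' h w = Additive.ofMul (restrictAct φ (Subgroup.center P) hZinv h (Additive.toMul w)) :=
      ⟨(Cfsg.Agent.Helper1.autToEnd (Subgroup.center P)).comp
        (restrictAct φ (Subgroup.center P) hZinv), fun h w => rfl⟩
    have hW : ∀ w : Additive (Subgroup.center P), p • w = 0 := by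
      intro w
      apply Additive.toMul.injective
      rw [toMul_nsmul, toMul_zero]
      exact Subtype.ext (hexp _)
    have hquad : ∀ z : H, (∀ u : P, φ z (φ z u * u⁻¹) = φ z u * u⁻¹) →
        ∀ w : Additive (Subgroup.center P), φ' z (φ' z w - w) = φ' z w - w := by
      intro z hz w
      rw [hφ', hφ']
      apply Additive.toMul.injective
      show restrictAct φ (Subgroup.center P) hZinv z
          (restrictAct φ (Subgroup.center P) hZinv z (Additive.toMul w) / Additive.toMul w) =
        restrictAct φ (Subgroup.center P) hZinv z (Additive.toMul w) / Additive.toMul w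
      rw [div_eq_mul_inv]
      apply Subtype.ext
      exact hz ((Additive.toMul w : Subgroup.center P) : P)
    have hirr : ∀ U : AddSubgroup (Additive (Subgroup.center P)),
        (∀ h : H, ∀ u ∈ U, φ' h u ∈ U) → U = ⊥ ∨ U = ⊤ := by
      intro U hU
      obtain ⟨P₁, hP₁⟩ : ∃ P₁ : Subgroup P, ∀ u : P, u ∈ P₁ ↔
          ∃ hu : u ∈ Subgroup.center P, Additive.ofMul (⟨u, hu⟩ : Subgroup.center P) ∈ U := by
        refine ⟨(Subgroup.toAddSubgroup.symm U).map (Subgroup.center P).subtype, fun u => ?_⟩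
        constructor
        · rintro ⟨z, hz, rfl⟩
          exact ⟨z.2, hz⟩
        · rintro ⟨hu, hz⟩
          exact ⟨⟨u, hu⟩, hz, rfl⟩
      have hP₁n : P₁.Normal := by
        refine ⟨fun u hu g => ?_⟩
        have h1 : g * u * g⁻¹ = u := by rw [hcomm g u, mul_inv_cancel_right]
        rw [h1]; exact hu
      have hP₁inv : ∀ h : H, ∀ u ∈ P₁, φ h u ∈ P₁ := by
        intro h u hu
        rw [hP₁] at hu ⊢
        obtain ⟨hu1, hu2⟩ := hu
        refine ⟨hZinv h u hu1, ?_⟩
        have h1 := hU h _ hu2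
        rw [hφ'] at h1
        exact h1
      rcases hnone P₁ hP₁n hP₁inv with h | h
      · left
        rw [eq_bot_iff]
        intro w hw
        have h1 : ((Additive.toMul w : Subgroup.center P) : P) ∈ P₁ := by
          rw [hP₁]; exact ⟨(Additive.toMul w).2, hw⟩
        rw [h, Subgroup.mem_bot] at h1
        rw [AddSubgroup.mem_bot]
        apply Additive.toMul.injective
        exact Subtype.ext h1
      · right
        rw [eq_top_iff]
        intro w _
        have h1 : ((Additive.toMul w : Subgroup.center P) : P) ∈ P₁ := by rw [h]; trivial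
        rw [hP₁] at h1
        obtain ⟨_, h2⟩ := h1
        exact h2
    obtain ⟨h1, h2⟩ := quad_irr_gen p hp hW hcore φ' x y hgen (hquad x hqx) (hquad y hqy) hirr
    have hone : ∀ z : H, φ' z = 1 → φ z = 1 := by
      intro z hz
      apply MulEquiv.ext
      intro u
      have h3 := DFunLike.congr_fun hz (Additive.ofMul (⟨u, hmemZ u⟩ : Subgroup.center P))
      rw [hφ'] at h3
      exact congrArg (fun w : Additive (Subgroup.center P) =>
        ((Additive.toMul w : Subgroup.center P) : P)) h3
    have hall : ∀ h : H, φ h = 1 := by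
      apply closure_pair_induction x y hgen
      · exact map_one φ
      · intro a b ha hb; rw [map_mul, ha, hb, one_mul]
      · exact hone x h1
      · exact hone y h2
    intro h
    exact ⟨0, by rw [hall h, one_pow]⟩

/-- A finite group of odd order generated by two elements acting quadratically on a finite
`p`-group (`p` odd) induces a `p`-group of automorphisms. -/
theorem quad_pgroup_aux (p : ℕ) [Fact p.Prime] (hp : p ≠ 2) {H : Type*} [Group H] [Finite H]
    (hodd : Odd (Nat.card H)) (x y : H) (hgen : Subgroup.closure ({x, y} : Set H) = ⊤) :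
    ∀ (n : ℕ) (P : Type u) [Group P] [Finite P], Nat.card P = n → IsPGroup p P →
      ∀ (φ : H →* MulAut P),
      (∀ u : P, φ x (φ x u * u⁻¹) = φ x u * u⁻¹) → (∀ u : P, φ y (φ y u * u⁻¹) = φ y u * u⁻¹) →
      ∀ h : H, ∃ k : ℕ, (φ h) ^ (p ^ k) = 1 :=
  quad_pgroup_gen p hp (gl2Core_of_odd hodd) x y hgen

end Cfsg.Agent.Helper10
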