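import Mathlib
import Cfsg.Agent.Helper10.QuadP
import Cfsg.Agent.Helper21.BaerSuzuki
import Cfsg.Agent.Helper27.PStable

set_option autoImplicit false

universe u

namespace Cfsg.Agent.Helper10

open scoped commutatorElement

/-- Conjugates of a quadratically acting element act quadratically. -/
theorem quad_conj {G : Type*} [Group G] (P : Subgroup G) (a g : G)
    (hq : ∀ u ∈ P, a * (a * u * a⁻¹ * u⁻¹) * a⁻¹ = a * u * a⁻¹ * u⁻¹)
    (hg : ∀ u ∈ P, g⁻¹ * u * g ∈ P) :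
    ∀ u ∈ P, (g * a * g⁻¹) * ((g * a * g⁻¹) * u * (g * a * g⁻¹)⁻¹ * u⁻¹) * (g * a * g⁻¹)⁻¹ =
      (g * a * g⁻¹) * u * (g * a * g⁻¹)⁻¹ * u⁻¹ := by
  intro u hu
  have h1 := hq _ (hg u hu)
  calc (g * a * g⁻¹) * ((g * a * g⁻¹) * u * (g * a * g⁻¹)⁻¹ * u⁻¹) * (g * a * g⁻¹)⁻¹
      = g * (a * (a * (g⁻¹ * u * g) * a⁻¹ * (g⁻¹ * u * g)⁻¹) * a⁻¹) * g⁻¹ := by group
    _ = g * (a * (g⁻¹ * u * g) * a⁻¹ * (g⁻¹ * u * g)⁻¹) * g⁻¹ := by rw [h1]
    _ = (g * a * g⁻¹) * u * (g * a * g⁻¹)⁻¹ * u⁻¹ := by group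

/-- `p`-stability for a normal `p`-subgroup, for groups all of whose subgroups satisfy the
`GL₂` obstruction. -/
theorem pstab_gen_normal {N : Type u} [Group N] [Finite N]
    (hcore : ∀ H : Subgroup N, GL2Core H) (p : ℕ)
    [Fact p.Prime] (hp : p ≠ 2) (P : Subgroup N) [hPn : P.Normal] (hP : IsPGroup p P)
    (C : Subgroup N) [C.Normal] (hC : ∀ g : N, (∀ u ∈ P, g * u * g⁻¹ = u) → g ∈ C)
    (a : N) (hq : ∀ u ∈ P, a * (a * u * a⁻¹ * u⁻¹) * a⁻¹ = a * u * a⁻¹ * u⁻¹) :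
    (QuotientGroup.mk a : N ⧸ C) ∈ Cfsg.pCore p (N ⧸ C) := by
  classical
  obtain ⟨X, hX⟩ : ∃ X : Set (N ⧸ C), X = {q | ∃ g : N, q = QuotientGroup.mk (g * a * g⁻¹)} :=
    ⟨_, rfl⟩
  have hXn : ∀ (q x : N ⧸ C), x ∈ X → q * x * q⁻¹ ∈ X := by
    intro q x hx
    rw [hX] at hx ⊢
    obtain ⟨g, rfl⟩ := hx
    induction q using QuotientGroup.induction_on with | _ g' =>
    refine ⟨g' * g, ?_⟩
    rw [← QuotientGroup.mk_inv, ← QuotientGroup.mk_mul, ← QuotientGroup.mk_mul]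
    congr 1
    group
  have hXp : ∀ x ∈ X, ∀ y ∈ X, IsPGroup p (Subgroup.closure ({x, y} : Set (N ⧸ C))) := by
    intro x hx y hy
    rw [hX] at hx hy
    obtain ⟨g₁, rfl⟩ := hx
    obtain ⟨g₂, rfl⟩ := hy
    obtain ⟨b₁, hb₁⟩ : ∃ b₁ : N, b₁ = g₁ * a * g₁⁻¹ := ⟨_, rfl⟩
    obtain ⟨b₂, hb₂⟩ : ∃ b₂ : N, b₂ = g₂ * a * g₂⁻¹ := ⟨_, rfl⟩
    rw [← hb₁, ← hb₂]
    obtain ⟨H, hH⟩ : ∃ H : Subgroup N, H = Subgroup.closure ({b₁, b₂} : Set N) := ⟨_, rfl⟩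
    have hb₁H : b₁ ∈ H := by rw [hH]; exact Subgroup.subset_closure (by simp)
    have hb₂H : b₂ ∈ H := by rw [hH]; exact Subgroup.subset_closure (by simp)
    have hgen : Subgroup.closure ({⟨b₁, hb₁H⟩, ⟨b₂, hb₂H⟩} : Set H) = ⊤ := by
      subst hH
      have h1 := Subgroup.closure_closure_coe_preimage (k := ({b₁, b₂} : Set N))
      have h2 : ((↑) : Subgroup.closure ({b₁, b₂} : Set N) → N) ⁻¹' ({b₁, b₂} : Set N) =
          ({⟨b₁, hb₁H⟩, ⟨b₂, hb₂H⟩} : Set (Subgroup.closure ({b₁, b₂} : Set N))) := by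
        ext z
        simp [Subtype.ext_iff]
      rw [h2] at h1
      exact h1
    obtain ⟨φ, hφ⟩ : ∃ φ : H →* MulAut P, ∀ (h : H) (u : P),
        ((φ h u : P) : N) = (h : N) * (u : N) * (h : N)⁻¹ :=
      ⟨(MulAut.conjNormal (H := P)).comp H.subtype, fun h u => rfl⟩
    have hconjmem : ∀ g : N, ∀ u ∈ P, g⁻¹ * u * g ∈ P := by
      intro g u hu
      have h1 := hPn.conj_mem u hu g⁻¹
      rwa [inv_inv] at h1
    have hqb : ∀ (b : N) (hb : b ∈ H),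
        (∀ u ∈ P, b * (b * u * b⁻¹ * u⁻¹) * b⁻¹ = b * u * b⁻¹ * u⁻¹) →
        ∀ u : P, φ ⟨b, hb⟩ (φ ⟨b, hb⟩ u * u⁻¹) = φ ⟨b, hb⟩ u * u⁻¹ := by
      intro b hb hqb' u
      apply Subtype.ext
      rw [hφ, Subgroup.coe_mul, hφ, Subgroup.coe_inv]
      exact hqb' u u.2
    have key := quad_pgroup_gen p hp (hcore H) ⟨b₁, hb₁H⟩ ⟨b₂, hb₂H⟩ hgen (Nat.card P) P rfl hP φ
      (hqb b₁ hb₁H (by rw [hb₁]; exact quad_conj P a g₁ hq (hconjmem g₁)))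
      (hqb b₂ hb₂H (by rw [hb₂]; exact quad_conj P a g₂ hq (hconjmem g₂)))
    have hmap : Subgroup.closure ({(QuotientGroup.mk b₁ : N ⧸ C), QuotientGroup.mk b₂} :
        Set (N ⧸ C)) = H.map (QuotientGroup.mk' C) := by
      rw [hH, MonoidHom.map_closure, Set.image_pair]
      rfl
    rw [hmap]
    rintro ⟨_, h, hh, rfl⟩
    obtain ⟨k, hk⟩ := key ⟨h, hh⟩
    refine ⟨k, Subtype.ext ?_⟩
    show (QuotientGroup.mk' C h) ^ p ^ k = 1
    rw [← map_pow, QuotientGroup.mk'_apply, QuotientGroup.eq_one_iff]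
    apply hC
    intro u hu
    have h1 : φ (⟨h, hh⟩ ^ p ^ k) = 1 := by rw [map_pow, hk]
    have h3 := congrArg (fun e : MulAut P => ((e ⟨u, hu⟩ : P) : N)) h1
    simp only [hφ] at h3
    exact h3
  obtain ⟨M, hMn, hMp, hXM⟩ := Cfsg.Agent.Helper21.baer_suzuki_normal X hXn hXp
  apply Cfsg.Agent.Helper27.le_pCore hMn hMp
  apply hXM
  rw [hX]
  exact ⟨1, by simp⟩

/-- `p`-stability for groups of odd order, for a normal `p`-subgroup. -/
theorem pstab_odd_normal {N : Type u} [Group N] [Finite N] (hodd : Odd (Nat.card N)) (p : ℕ)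
    [Fact p.Prime] (hp : p ≠ 2) (P : Subgroup N) [hPn : P.Normal] (hP : IsPGroup p P)
    (C : Subgroup N) [C.Normal] (hC : ∀ g : N, (∀ u ∈ P, g * u * g⁻¹ = u) → g ∈ C)
    (a : N) (hq : ∀ u ∈ P, a * (a * u * a⁻¹ * u⁻¹) * a⁻¹ = a * u * a⁻¹ * u⁻¹) :
    (QuotientGroup.mk a : N ⧸ C) ∈ Cfsg.pCore p (N ⧸ C) :=
  pstab_gen_normal
    (fun H => gl2Core_of_odd (Odd.of_dvd_nat hodd (Subgroup.card_subgroup_dvd_card H)))
    p hp P hP C hC a hq

/-- `p`-stability for groups of odd order: an element normalising a `p`-subgroup `P` and acting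
quadratically on it maps into `O_p(N_G(P)/C_G(P))`. -/
theorem pstab_odd_elt {G : Type u} [Group G] [Finite G] (hodd : Odd (Nat.card G)) (p : ℕ)
    [Fact p.Prime] (hp : p ≠ 2) (P : Subgroup G) (hP : IsPGroup p P) (a : G)
    (ha : a ∈ Subgroup.normalizer (P : Set G))
    (hq : ∀ u ∈ P, a * (a * u * a⁻¹ * u⁻¹) * a⁻¹ = a * u * a⁻¹ * u⁻¹) :
    (QuotientGroup.mk' ((Subgroup.centralizer (P : Set G)).subgroupOf
        (Subgroup.normalizer (P : Set G))) ⟨a, ha⟩) ∈ Cfsg.pCore p _ := by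
  apply pstab_odd_normal (Odd.of_dvd_nat hodd (Subgroup.card_subgroup_dvd_card _)) p hp
    (P.subgroupOf (Subgroup.normalizer (P : Set G))) (IsPGroup.comap_subtype hP)
  · intro g hg
    rw [Subgroup.mem_subgroupOf, Subgroup.mem_centralizer_iff]
    intro u hu
    have h1 := hg ⟨u, Subgroup.le_normalizer hu⟩ hu
    have h2 : (g : G) * u * (g : G)⁻¹ = u := congrArg Subtype.val h1
    exact (mul_inv_eq_iff_eq_mul.1 h2).symm
  · intro u hu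
    apply Subtype.ext
    exact hq (u : G) hu

theorem quad_of_commutator {G : Type*} [Group G] (P A : Subgroup G) (hquad : ⁅⁅P, A⁆, A⁆ = ⊥)
    (a : G) (ha : a ∈ A) : ∀ u ∈ P, a * (a * u * a⁻¹ * u⁻¹) * a⁻¹ = a * u * a⁻¹ * u⁻¹ := by
  intro u hu
  have h1 : ⁅⁅u, a⁆, a⁆ ∈ ⁅⁅P, A⁆, A⁆ :=
    Subgroup.commutator_mem_commutator (Subgroup.commutator_mem_commutator hu ha) ha
  rw [hquad, Subgroup.mem_bot, commutatorElement_eq_one_iff_commute] at h1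
  have e : a * u * a⁻¹ * u⁻¹ = ⁅u, a⁆⁻¹ := by rw [commutatorElement_def]; group
  rw [e, mul_inv_eq_iff_eq_mul]
  exact (h1.inv_left.eq).symm

/-- `p`-stability for groups of odd order, subgroup form. -/
theorem pstab_odd_subgroup {G : Type u} [Group G] [Finite G] (hodd : Odd (Nat.card G)) (p : ℕ)
    [Fact p.Prime] (hp : p ≠ 2) (P A : Subgroup G) (hP : IsPGroup p P)
    (hquad : ⁅⁅P, A⁆, A⁆ = ⊥) :
    (A.subgroupOf (Subgroup.normalizer (P : Set G))).map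
        (QuotientGroup.mk' ((Subgroup.centralizer (P : Set G)).subgroupOf
          (Subgroup.normalizer (P : Set G))))
      ≤ Cfsg.pCore p _ := by
  rintro _ ⟨⟨a, haN⟩, haA, rfl⟩
  exact pstab_odd_elt hodd p hp P hP a haN (quad_of_commutator P A hquad a haA)

end Cfsg.Agent.Helper10
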