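import Mathlib
import Cfsg.Prelude.Def_OddOrderChar
import Cfsg.Agent.Helper2.CharInner
import Cfsg.Agent.Helper10.VirtualChar

set_option autoImplicit false

namespace Cfsg.Agent.Helper10

open Cfsg

open scoped ComplexConjugate

section ZS

variable {X : Type*}

theorem zspan_mono {S T : Set (X → ℂ)} (h : S ⊆ T) : zspan S ⊆ zspan T :=
  Submodule.span_mono h

theorem mem_zspan_of_mem {S : Set (X → ℂ)} {f : X → ℂ} (h : f ∈ S) : f ∈ zspan S :=
  Submodule.subset_span h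

theorem zspan_zero_mem (S : Set (X → ℂ)) : (0 : X → ℂ) ∈ zspan S :=
  Submodule.zero_mem _

theorem zspan_add_mem {S : Set (X → ℂ)} {f g : X → ℂ} (hf : f ∈ zspan S) (hg : g ∈ zspan S) :
    f + g ∈ zspan S :=
  Submodule.add_mem _ hf hg

theorem zspan_sub_mem {S : Set (X → ℂ)} {f g : X → ℂ} (hf : f ∈ zspan S) (hg : g ∈ zspan S) :
    f - g ∈ zspan S :=
  Submodule.sub_mem _ hf hg

theorem zspan_smul_mem {S : Set (X → ℂ)} {f : X → ℂ} (n : ℤ) (hf : f ∈ zspan S) :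
    n • f ∈ zspan S :=
  Submodule.smul_mem _ n hf

theorem zspan_union (S T : Set (X → ℂ)) {f : X → ℂ} (hf : f ∈ zspan (S ∪ T)) :
    ∃ x ∈ zspan S, ∃ y ∈ zspan T, f = x + y := by
  have h : f ∈ Submodule.span ℤ (S ∪ T) := hf
  rw [Submodule.span_union, Submodule.mem_sup] at h
  obtain ⟨x, hx, y, hy, rfl⟩ := h
  exact ⟨x, hx, y, hy, rfl⟩

theorem mem_zspanOn_one [One X] {S : Set (X → ℂ)} {f : X → ℂ} :
    f ∈ zspanOn S {1}ᶜ ↔ f ∈ zspan S ∧ f 1 = 0 := by
  constructor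
  · rintro ⟨h1, h2⟩
    exact ⟨h1, h2 1 (by simp)⟩
  · rintro ⟨h1, h2⟩
    refine ⟨h1, fun x hx => ?_⟩
    have : x = 1 := by simpa using hx
    rw [this, h2]

/-- Span induction for `zspan`. -/
theorem zspan_induction {S : Set (X → ℂ)} {p : (X → ℂ) → Prop} (mem : ∀ f ∈ S, p f) (zero : p 0)
    (add : ∀ f g, f ∈ zspan S → g ∈ zspan S → p f → p g → p (f + g))
    (smul : ∀ (n : ℤ) f, f ∈ zspan S → p f → p (n • f)) {f : X → ℂ} (hf : f ∈ zspan S) : p f := by
  have h : f ∈ Submodule.span ℤ S := hf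
  exact Submodule.span_induction (p := fun x _ => p x) (fun x hx => mem x hx) zero
    (fun x y hx hy ihx ihy => add x y hx hy ihx ihy) (fun a x hx ih => smul a x hx ih) h

theorem zspanOn_one_add [One X] {S : Set (X → ℂ)} {f g : X → ℂ} (hf : f ∈ zspanOn S {1}ᶜ)
    (hg : g ∈ zspanOn S {1}ᶜ) : f + g ∈ zspanOn S {1}ᶜ := by
  rw [mem_zspanOn_one] at hf hg ⊢
  refine ⟨zspan_add_mem hf.1 hg.1, ?_⟩
  rw [Pi.add_apply, hf.2, hg.2, add_zero]

theorem zspanOn_one_smul [One X] {S : Set (X → ℂ)} {f : X → ℂ} (n : ℤ)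
    (hf : f ∈ zspanOn S {1}ᶜ) : n • f ∈ zspanOn S {1}ᶜ := by
  rw [mem_zspanOn_one] at hf ⊢
  refine ⟨zspan_smul_mem n hf.1, ?_⟩
  rw [Pi.smul_apply, hf.2, smul_zero]

end ZS

section Inner

variable {G : Type*} [Group G] [Fintype G]

theorem classInner_zsmul_left (n : ℤ) (f g : G → ℂ) :
    classInner (n • f) g = (n : ℂ) * classInner f g := by
  rw [← Int.cast_smul_eq_zsmul ℂ n f, Helper2.classInner_smul_left]

theorem classInner_zsmul_right (n : ℤ) (f g : G → ℂ) :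
    classInner f (n • g) = (n : ℂ) * classInner f g := by
  rw [← Int.cast_smul_eq_zsmul ℂ n g, Helper2.classInner_smul_right, map_intCast]

end Inner

section LIO

variable {L : Type*} [Group L] [Fintype L] {G : Type*} [Group G] [Fintype G]

theorem lio_map_zero {S : Set (L → ℂ)} {τ : (L → ℂ) → (G → ℂ)}
    (h : IsLinearIsometryOn (zspan S) τ) : τ 0 = 0 := by
  have := h.2.1 0 (zspan_zero_mem S) 0
  simpa using this

theorem lio_map_comb {S : Set (L → ℂ)} {τ : (L → ℂ) → (G → ℂ)}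
    (h : IsLinearIsometryOn (zspan S) τ) {a b : L → ℂ} (ha : a ∈ zspan S) (hb : b ∈ zspan S)
    (m n : ℤ) : τ (m • a + n • b) = m • τ a + n • τ b := by
  rw [h.1 _ (zspan_smul_mem m ha) _ (zspan_smul_mem n hb), h.2.1 a ha m, h.2.1 b hb n]

end LIO

end Cfsg.Agent.Helper10
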