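import Mathlib
import Cfsg.Prelude.Def_OddOrderChar
import Cfsg.Agent.Helper2.CharInner
import Cfsg.Agent.Helper10.VirtualChar
import Cfsg.Agent.Helper10.IndLemmas
import Cfsg.Agent.Helper10.ZSpan

set_option autoImplicit false

namespace Cfsg.Agent.Helper10

open Cfsg

open scoped ComplexConjugate

section Bessel

variable {G : Type*} [Group G] [Fintype G]

/-- The norm of a function is a nonnegative real. -/
theorem classInner_self_real (f : G → ℂ) : ∃ r : ℝ, 0 ≤ r ∧ classInner f f = (r : ℂ) := by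
  refine ⟨(Nat.card G : ℝ)⁻¹ * ∑ g : G, ‖f g‖ ^ 2, ?_, ?_⟩
  · apply mul_nonneg
    · positivity
    · exact Finset.sum_nonneg fun g _ => by positivity
  · unfold classInner
    push_cast
    congr 1
    refine Finset.sum_congr rfl fun g _ => ?_
    rw [Complex.mul_conj, Complex.normSq_eq_norm_sq]
    push_cast
    rfl

theorem IsGeneralizedCharacter.zsmul {θ : G → ℂ} (n : ℤ) (hθ : IsGeneralizedCharacter G θ) :
    IsGeneralizedCharacter G (n • θ) := by
  induction n using Int.induction_on with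
  | zero =>
    rw [zero_smul]
    exact isGeneralizedCharacter_of_char Helper2.isCharacter_zero
  | succ i ih =>
    rw [add_smul, one_smul]
    exact IsGeneralizedCharacter.add ih hθ
  | pred i ih =>
    rw [sub_smul, one_smul]
    exact IsGeneralizedCharacter.sub ih hθ

theorem IsGeneralizedCharacter.sum {ι : Type*} (s : Finset ι) (f : ι → G → ℂ)
    (h : ∀ i ∈ s, IsGeneralizedCharacter G (f i)) : IsGeneralizedCharacter G (∑ i ∈ s, f i) := by
  classical
  induction s using Finset.induction_on with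
  | empty =>
    rw [Finset.sum_empty]
    exact isGeneralizedCharacter_of_char Helper2.isCharacter_zero
  | insert a s ha ih =>
    rw [Finset.sum_insert ha]
    exact IsGeneralizedCharacter.add (h a (Finset.mem_insert_self a s))
      (ih fun i hi => h i (Finset.mem_insert_of_mem hi))

/-- The norm of a generalized character is a nonnegative integer. -/
theorem gen_norm_nonneg {θ : G → ℂ} (hθ : IsGeneralizedCharacter G θ) :
    ∃ n : ℤ, 0 ≤ n ∧ classInner θ θ = (n : ℂ) := by
  obtain ⟨n, hn⟩ := gen_inner_int hθ hθ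
  obtain ⟨r, hr, hr'⟩ := classInner_self_real θ
  refine ⟨n, ?_, hn⟩
  rw [hn] at hr'
  have h2 : (n : ℝ) = r := by exact_mod_cast hr'
  have h3 : (0 : ℝ) ≤ (n : ℝ) := by rw [h2]; exact hr
  exact_mod_cast h3

/-- Bessel's inequality with integer coefficients, and its equality case. -/
theorem bessel_int {ι : Type*} (s : Finset ι) (e : ι → G → ℂ) (X : G → ℂ) (c : ι → ℤ)
    (h1 : ∀ i ∈ s, classInner (e i) (e i) = 1)
    (h0 : ∀ i ∈ s, ∀ j ∈ s, i ≠ j → classInner (e i) (e j) = 0)
    (hc : ∀ i ∈ s, classInner X (e i) = (c i : ℂ)) (n : ℤ) (hX : classInner X X = (n : ℂ)) :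
    ∑ i ∈ s, c i ^ 2 ≤ n ∧ (∑ i ∈ s, c i ^ 2 = n → X = ∑ i ∈ s, c i • e i) := by
  classical
  have hXY : classInner X (∑ i ∈ s, c i • e i) = ((∑ i ∈ s, c i ^ 2 : ℤ) : ℂ) := by
    rw [Helper2.classInner_sum_right]
    push_cast
    refine Finset.sum_congr rfl fun i hi => ?_
    rw [classInner_zsmul_right, hc i hi]
    ring
  have hYX : classInner (∑ i ∈ s, c i • e i) X = ((∑ i ∈ s, c i ^ 2 : ℤ) : ℂ) := by
    rw [← Helper2.classInner_conj_symm, hXY, map_intCast]
  have hYY : classInner (∑ i ∈ s, c i • e i) (∑ i ∈ s, c i • e i) =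
      ((∑ i ∈ s, c i ^ 2 : ℤ) : ℂ) := by
    rw [Helper2.classInner_sum_left]
    push_cast
    refine Finset.sum_congr rfl fun i hi => ?_
    rw [classInner_zsmul_left, Helper2.classInner_sum_right, Finset.sum_eq_single i]
    · rw [classInner_zsmul_right, h1 i hi]
      ring
    · intro j hj hji
      rw [classInner_zsmul_right, h0 i hi j hj (Ne.symm hji), mul_zero]
    · intro hi'
      exact absurd hi hi'
  have hΔ : classInner (X - ∑ i ∈ s, c i • e i) (X - ∑ i ∈ s, c i • e i) =
      ((n - ∑ i ∈ s, c i ^ 2 : ℤ) : ℂ) := by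
    rw [Helper2.classInner_sub_left, Helper2.classInner_sub_right, Helper2.classInner_sub_right,
      hX, hXY, hYX, hYY]
    push_cast
    ring
  obtain ⟨r, hr, hr'⟩ := classInner_self_real (X - ∑ i ∈ s, c i • e i)
  rw [hΔ] at hr'
  have h2 : ((n - ∑ i ∈ s, c i ^ 2 : ℤ) : ℝ) = r := by exact_mod_cast hr'
  have h3 : (0 : ℝ) ≤ ((n - ∑ i ∈ s, c i ^ 2 : ℤ) : ℝ) := by rw [h2]; exact hr
  have h4 : (0 : ℤ) ≤ n - ∑ i ∈ s, c i ^ 2 := by exact_mod_cast h3
  refine ⟨by linarith, fun heq => ?_⟩
  have h5 : classInner (X - ∑ i ∈ s, c i • e i) (X - ∑ i ∈ s, c i • e i) = 0 := by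
    rw [hΔ, heq]
    simp
  exact sub_eq_zero.1 (classInner_self_eq_zero h5)

end Bessel

end Cfsg.Agent.Helper10
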