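import Mathlib
import Cfsg.Agent.Helper10.ElemRank2
import Cfsg.Agent.Helper10.QuadP
import Cfsg.Agent.S0640

set_option autoImplicit false

universe u

namespace Cfsg.Agent.Helper10

open scoped commutatorElement

/-- For a `p`-group `R` of rank at most `2` (`p` odd) there is a two-generated subgroup `E`,
invariant under all automorphisms, on which every automorphism of prime order `q ≠ p` acts
nontrivially. -/
theorem crit_E {R : Type*} [Group R] [Finite R] {p : ℕ} [Fact p.Prime] (hp2 : p ≠ 2)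
    (hR : IsPGroup p R) (hrk : Cfsg.PRankLE p 2 R) :
    ∃ E : Subgroup R, (∀ φ : MulAut R, ∀ x ∈ E, φ x ∈ E) ∧
      (∃ x ∈ E, ∃ y ∈ E, Subgroup.closure ({x, y} : Set R) = E) ∧
      (∀ (q : ℕ), q.Prime → q ≠ p → ∀ α : MulAut R, α ^ q = 1 → (∀ x ∈ E, α x = x) → α = 1) := by
  classical
  have hp : p.Prime := Fact.out
  obtain ⟨H, hHch, hΦ, hHR, hCH⟩ := Cfsg.Agent.Helper24.exists_critical_subgroup hR
  haveI := hHch
  have hHnormal : H.Normal := inferInstance
  have hHfix : ∀ φ : MulAut R, ∀ x ∈ H, φ x ∈ H := by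
    intro φ x hx
    have h1 := (Subgroup.characteristic_iff_le_comap.mp hHch) φ
    exact h1 hx
  have hcomm : ∀ a ∈ H, ∀ b : R,
      a * b * a⁻¹ * b⁻¹ ∈ H ⊓ Subgroup.centralizer (H : Set R) := by
    intro a ha b
    have h1 : ⁅a, b⁆ ∈ ⁅H, (⊤ : Subgroup R)⁆ :=
      Subgroup.commutator_mem_commutator ha (Subgroup.mem_top b)
    rw [commutatorElement_def] at h1
    exact hHR h1
  have hcen : ∀ a ∈ H, ∀ b : R, ∀ h ∈ H,
      h * (a * b * a⁻¹ * b⁻¹) = (a * b * a⁻¹ * b⁻¹) * h := by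
    intro a ha b h hh
    exact (Subgroup.mem_centralizer_iff.mp (Subgroup.mem_inf.mp (hcomm a ha b)).2) h hh
  have hpowc : ∀ y ∈ H, ∀ h ∈ H, h * y ^ p = y ^ p * h := by
    intro y hy h hh
    have h1 : (⟨y, hy⟩ : H) ^ p ∈ frattini H := by
      rw [Cfsg.Agent.Helper1.mem_frattini_iff]
      intro M hM
      exact (Cfsg.Agent.Helper1.coatom_pgroup p (hR.to_subgroup H) M hM).2.2 _
    have h2 : y ^ p ∈ (frattini H).map H.subtype := by
      refine Subgroup.mem_map.mpr ⟨_, h1, ?_⟩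
      simp
    exact (Subgroup.mem_centralizer_iff.mp (hΦ h2)) h hh
  have hmulpow : ∀ a ∈ H, ∀ b ∈ H, (a * b) ^ p = a ^ p * b ^ p := by
    intro a ha b hb
    obtain ⟨c, hcdef⟩ : ∃ c : R, c = b * a * b⁻¹ * a⁻¹ := ⟨_, rfl⟩
    have hc : b * a = c * a * b := by rw [hcdef]; group
    have hcc : ∀ h ∈ H, h * c = c * h := by
      intro h hh
      rw [hcdef]
      exact hcen b hb a h hh
    exact Cfsg.Agent.S0640.mul_pow_p p hp hp2 a b c hc (hcc a ha).symm (hcc b hb).symm
      (hpowc b hb a ha).symm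
  obtain ⟨E, hEmem⟩ : ∃ E : Subgroup R, ∀ x, x ∈ E ↔ x ∈ H ∧ x ^ p = 1 :=
    ⟨Cfsg.Agent.S0640.omegaSub H p hmulpow, fun x => Iff.rfl⟩
  have hEH : E ≤ H := fun x hx => ((hEmem x).mp hx).1
  have hEexp : ∀ a ∈ E, a ^ p = 1 := fun a ha => ((hEmem a).mp ha).2
  have hEfix : ∀ φ : MulAut R, ∀ x ∈ E, φ x ∈ E := by
    intro φ x hx
    have hx' := (hEmem x).mp hx
    refine (hEmem _).mpr ⟨hHfix φ x hx'.1, ?_⟩
    rw [← map_pow, hx'.2, map_one]
  have hrkE : ∀ A : Subgroup R, A ≤ E → (∀ a ∈ A, ∀ b ∈ A, a * b = b * a) →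
      Nat.card A ≤ p ^ 2 := by
    intro A hAE hAab
    apply hrk A
    · exact ⟨⟨fun a b => Subtype.ext (hAab a.1 a.2 b.1 b.2)⟩⟩
    · intro a ha
      exact hEexp a (hAE ha)
  obtain ⟨x, hxE, y, hyE, hgen⟩ := Cfsg.Agent.S0640.two_gen_of_rank hR E hEexp hrkE
    (fun a ha b _ h hh => hcen a (hEH ha) b h (hEH hh))
  refine ⟨E, hEfix, ⟨x, hxE, y, hyE, hgen⟩, ?_⟩
  intro q hq hqp α hαq hfixE
  have hcop : Nat.Coprime q p := (Nat.coprime_primes hq hp).mpr hqp
  have hall : ∀ j : ℕ, ∀ x ∈ H, x ^ (p ^ j) = 1 → α x = x := by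
    intro j
    induction j with
    | zero =>
      intro x _ hx
      rw [pow_zero, pow_one] at hx
      rw [hx, map_one]
    | succ j ih =>
      intro x hxH hx
      have hxp : α (x ^ p) = x ^ p := by
        apply ih (x ^ p) (H.pow_mem hxH p)
        rw [← pow_mul, ← pow_succ']
        exact hx
      obtain ⟨t, htdef⟩ : ∃ t : R, t = x⁻¹ * α x := ⟨_, rfl⟩
      have hxt : α x = x * t := by rw [htdef, mul_inv_cancel_left]
      have htH : t ∈ H := by
        rw [htdef]
        exact H.mul_mem (H.inv_mem hxH) (hHfix α x hxH)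
      have htp : t ^ p = 1 := by
        rw [htdef, hmulpow _ (H.inv_mem hxH) _ (hHfix α x hxH), inv_pow, ← map_pow, hxp,
          inv_mul_cancel]
      have htE : t ∈ E := (hEmem t).mpr ⟨htH, htp⟩
      have ht1 : t = 1 :=
        Cfsg.Agent.S0640.aut_stab hcop α hαq x t hxt (hfixE t htE) 1 (by rw [pow_one]; exact htp)
      rw [hxt, ht1, mul_one]
  have hfix : ∀ x ∈ H, α x = x := by
    intro x hx
    obtain ⟨j, hj⟩ := hR x
    exact hall j x hx hj
  ext g
  rw [MulAut.one_apply]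
  obtain ⟨t, htdef⟩ : ∃ t : R, t = g⁻¹ * α g := ⟨_, rfl⟩
  have hgt : α g = g * t := by rw [htdef, mul_inv_cancel_left]
  have htC : t ∈ Subgroup.centralizer (H : Set R) := by
    rw [Subgroup.mem_centralizer_iff]
    intro h hh
    have h1 : g * h * g⁻¹ ∈ H := hHnormal.conj_mem h hh g
    have h2 := hfix _ h1
    rw [map_mul, map_mul, map_inv, hgt, hfix h hh] at h2
    have h3 : g * (t * h) = g * (h * t) := by
      calc g * (t * h) = g * t * h * (g * t)⁻¹ * (g * t) := by group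
        _ = g * h * g⁻¹ * (g * t) := by rw [h2]
        _ = g * (h * t) := by group
    exact (mul_left_cancel h3).symm
  have htH : t ∈ H := hCH htC
  obtain ⟨j, hj⟩ := hR t
  have ht1 : t = 1 := Cfsg.Agent.S0640.aut_stab hcop α hαq g t hgt (hfix t htH) j hj
  rw [hgt, ht1, mul_one]

/-- An automorphism of prime order `r ≠ p` of a finite `p`-group acting trivially modulo the
Frattini subgroup is trivial. -/
theorem frat_triv {Q : Type*} [Group Q] [Finite Q] (p : ℕ) [Fact p.Prime] (hQ : IsPGroup p Q)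
    (β : MulAut Q) (r : ℕ) [Fact r.Prime] (hrp : r ≠ p) (hβr : β ^ r = 1)
    (hF : ∀ x : Q, x⁻¹ * β x ∈ frattini Q) : β = 1 := by
  classical
  have hp : p.Prime := Fact.out
  have hr : r.Prime := Fact.out
  have hΦ : ∀ x : Q, β x ∈ frattini Q ↔ x ∈ frattini Q := by
    intro x
    have h1 : (frattini Q).comap β.toMonoidHom = frattini Q :=
      Subgroup.characteristic_iff_comap_eq.mp inferInstance β
    constructor
    · intro h
      have h2 : x ∈ (frattini Q).comap β.toMonoidHom := h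
      rw [h1] at h2; exact h2
    · intro h
      have h2 : x ∈ (frattini Q).comap β.toMonoidHom := by rw [h1]; exact h
      exact h2
  obtain ⟨C, hC⟩ : ∃ C : Subgroup Q, ∀ x : Q, x ∈ C ↔ β x = x :=
    ⟨{ carrier := {x | β x = x}
       one_mem' := map_one β
       mul_mem' := by
         intro a b ha hb
         show β (a * b) = a * b
         rw [map_mul, show β a = a from ha, show β b = b from hb]
       inv_mem' := by
         intro a ha
         show β a⁻¹ = a⁻¹
         rw [map_inv, show β a = a from ha] }, fun x => Iff.rfl⟩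
  have hsup : C ⊔ frattini Q = ⊤ := by
    rw [eq_top_iff]
    intro x _
    by_contra hx
    have hxF : x⁻¹ * β x ∈ frattini Q := hF x
    have hcos : ∀ y : Q, x⁻¹ * β y ∈ frattini Q ↔ x⁻¹ * y ∈ frattini Q := by
      intro y
      have h1 : x⁻¹ * β y = (x⁻¹ * β x) * β (x⁻¹ * y) := by
        rw [map_mul, map_inv]; group
      rw [h1]
      constructor
      · intro h
        have h2 : β (x⁻¹ * y) ∈ frattini Q := by
          have h3 := (frattini Q).mul_mem ((frattini Q).inv_mem hxF) h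
          rw [inv_mul_cancel_left] at h3
          exact h3
        exact (hΦ _).mp h2
      · intro h
        exact (frattini Q).mul_mem hxF ((hΦ _).mpr h)
    have hnofix : ∀ y : Q, x⁻¹ * y ∈ frattini Q → β y ≠ y := by
      intro y hy hfix
      apply hx
      have h1 : x = y * (x⁻¹ * y)⁻¹ := by group
      rw [h1]
      exact Subgroup.mul_mem_sup ((hC y).mpr hfix) ((frattini Q).inv_mem hy)
    have hdvd := Cfsg.Agent.S4419.cnt β r hβr (fun y => x⁻¹ * y ∈ frattini Q) hcos hnofix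
    have hcard : Nat.card {y : Q // x⁻¹ * y ∈ frattini Q} = Nat.card ↥(frattini Q) := by
      apply Nat.card_congr
      exact
        { toFun := fun y => ⟨x⁻¹ * y.1, y.2⟩
          invFun := fun z => ⟨x * z.1, by
              show x⁻¹ * (x * z.1) ∈ frattini Q
              rw [inv_mul_cancel_left]; exact z.2⟩
          left_inv := by
            intro y; apply Subtype.ext
            show x * (x⁻¹ * y.1) = y.1
            rw [mul_inv_cancel_left]
          right_inv := by
            intro z; apply Subtype.ext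
            show x⁻¹ * (x * z.1) = z.1
            rw [inv_mul_cancel_left] }
    rw [hcard] at hdvd
    obtain ⟨j, hj⟩ := (IsPGroup.iff_card (p := p)).mp (hQ.to_subgroup (frattini Q))
    rw [hj] at hdvd
    exact hrp ((Nat.prime_dvd_prime_iff_eq hr hp).mp (hr.dvd_of_dvd_pow hdvd))
  have hCtop : C = ⊤ := frattini_nongenerating hsup
  apply MulEquiv.ext
  intro x
  have h0 : x ∈ C := by rw [hCtop]; exact Subgroup.mem_top x
  show β x = x
  exact (hC x).mp h0

/-- A finite solvable group of odd order acting on a `p`-group of rank at most `2` (`p` odd):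
the elements of its derived subgroup act as automorphisms of `p`-power order. -/
theorem rank2_derived_pgroup {Q : Type*} [Group Q] [Finite Q] {p : ℕ} [Fact p.Prime]
    (hp : p ≠ 2) (hQ : IsPGroup p Q) (hrk : Cfsg.PRankLE p 2 Q)
    {X : Type*} [Group X] [Finite X] (hodd : Odd (Nat.card X)) [Group.IsSolvable X]
    (ψ : X →* MulAut Q) : ∀ g ∈ commutator X, ∃ k : ℕ, (ψ g) ^ (p ^ k) = 1 := by
  classical
  have hpp : p.Prime := Fact.out
  obtain ⟨E, hEfix, ⟨x, hxE, y, hyE, hgen⟩, hEtriv⟩ := crit_E hp hQ hrk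
  have hgen' : Subgroup.closure ({⟨x, hxE⟩, ⟨y, hyE⟩} : Set ↥E) = ⊤ := by
    apply Subgroup.map_injective E.subtype_injective
    rw [MonoidHom.map_closure, Set.image_pair, ← MonoidHom.range_eq_map, Subgroup.range_subtype]
    exact hgen
  obtain ⟨φ, hφ⟩ : ∃ φ : X →* MulAut ↥E,
      ∀ (g : X) (u : ↥E), ((φ g u : ↥E) : Q) = ψ g (u : Q) :=
    ⟨(Cfsg.Agent.S0640.restrictAut E hEfix).comp ψ, fun g u => rfl⟩
  have hfr : ∀ (g : X), ∀ u ∈ frattini ↥E, φ g u ∈ frattini ↥E := by
    intro g u hu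
    have h1 : (frattini ↥E).comap (φ g).toMonoidHom = frattini ↥E :=
      Subgroup.characteristic_iff_comap_eq.mp inferInstance (φ g)
    have h2 : u ∈ (frattini ↥E).comap (φ g).toMonoidHom := by rw [h1]; exact hu
    exact h2
  obtain ⟨θ, hθ⟩ : ∃ θ : X →* MulAut (↥E ⧸ frattini ↥E),
      ∀ (g : X) (u : ↥E), θ g (QuotientGroup.mk u) = QuotientGroup.mk (φ g u) :=
    ⟨quotAct φ (frattini ↥E) hfr, fun g u => quotAct_mk φ (frattini ↥E) hfr g u⟩
  have hEp : IsPGroup p ↥E := hQ.to_subgroup E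
  have hWcomm : ∀ a b : ↥E ⧸ frattini ↥E, a * b = b * a := by
    intro a b
    induction a using QuotientGroup.induction_on with | _ a =>
    induction b using QuotientGroup.induction_on with | _ b =>
    rw [← QuotientGroup.mk_mul, ← QuotientGroup.mk_mul, QuotientGroup.eq,
      Cfsg.Agent.Helper1.mem_frattini_iff]
    intro M hM
    have h := (Cfsg.Agent.Helper1.coatom_pgroup p hEp M hM).2.1 b⁻¹ a⁻¹
    have e : (a * b)⁻¹ * (b * a) = b⁻¹ * a⁻¹ * b⁻¹⁻¹ * a⁻¹⁻¹ := by group
    rw [e]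
    exact h
  have hWexp : ∀ w : ↥E ⧸ frattini ↥E, w ^ p = 1 := by
    intro w
    induction w using QuotientGroup.induction_on with | _ a =>
    rw [← QuotientGroup.mk_pow, QuotientGroup.eq_one_iff, Cfsg.Agent.Helper1.mem_frattini_iff]
    intro M hM
    exact (Cfsg.Agent.Helper1.coatom_pgroup p hEp M hM).2.2 a
  have hWcard : Nat.card (↥E ⧸ frattini ↥E) ∣ p ^ 2 := by
    obtain ⟨k, hk⟩ := (IsPGroup.iff_card (p := p)).mp hEp
    have hΦidx : (frattini ↥E).index ∣ p ^ k := by
      rw [← hk]; exact Subgroup.index_dvd_card _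
    obtain ⟨n, -, hn⟩ := (Nat.dvd_prime_pow hpp).mp hΦidx
    have hn2 : n ≤ 2 := by
      have hb := Cfsg.Agent.Helper1.burnside_lower p n hEp hn
        ({⟨x, hxE⟩, ⟨y, hyE⟩} : Finset ↥E)
      have hT : Subgroup.closure ((({⟨x, hxE⟩, ⟨y, hyE⟩} : Finset ↥E)) : Set ↥E) = ⊤ := by
        rw [Finset.coe_insert, Finset.coe_singleton]; exact hgen'
      rw [hT, top_sup_eq, Subgroup.index_top, one_mul] at hb
      have h2 : p ^ ({⟨x, hxE⟩, ⟨y, hyE⟩} : Finset ↥E).card ≤ p ^ 2 :=
        Nat.pow_le_pow_right hpp.pos Finset.card_le_two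
      exact (Nat.pow_le_pow_iff_right hpp.one_lt).mp (le_trans hb h2)
    rw [← Subgroup.index_eq_card, hn]
    exact Nat.pow_dvd_pow p hn2
  have hθder := elem_rank_le2_derived p hp hWcomm hWexp hWcard hodd θ
  have hφpow : ∀ (h : X) (k : ℕ) (u : ↥E), ((((φ h) ^ k) u : ↥E) : Q) = ((ψ h) ^ k) (u : Q) := by
    intro h k
    induction k with
    | zero => intro u; simp
    | succ k ih =>
      intro u
      rw [pow_succ, pow_succ, MulAut.mul_apply, MulAut.mul_apply, ih, hφ]
  have hker : ∀ (q : ℕ), q.Prime → q ≠ p → ∀ h : X, θ h = 1 → (ψ h) ^ q = 1 → ψ h = 1 := by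
    intro q hq hqp h hθh hq1
    have : Fact q.Prime := ⟨hq⟩
    apply hEtriv q hq hqp (ψ h) hq1
    have hφ1 : φ h = 1 := by
      apply frat_triv p hEp (φ h) q hqp
      · ext u
        rw [hφpow, hq1]
        rfl
      · intro u
        have h1 := hθ h u
        rw [hθh, MulAut.one_apply] at h1
        exact QuotientGroup.eq.1 h1
    intro u hu
    have h2 := hφ h ⟨u, hu⟩
    rw [hφ1, MulAut.one_apply] at h2
    exact h2.symm
  intro g hg
  have h1 := hθder g hg
  obtain ⟨a, ha⟩ : ∃ a : MulAut Q, a = ψ (g ^ p) := ⟨_, rfl⟩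
  have hm0 : orderOf a ≠ 0 := (orderOf_pos a).ne'
  obtain ⟨k, m', hm', hkm⟩ := Nat.exists_eq_pow_mul_and_not_dvd hm0 p hpp.ne_one
  have hm1 : m' = 1 := by
    by_contra hne
    obtain ⟨q, hq, hqm⟩ := Nat.exists_prime_and_dvd hne
    have hqp : q ≠ p := by
      rintro rfl
      exact hm' hqm
    have hqo : q ∣ orderOf a := by rw [hkm]; exact dvd_mul_of_dvd_right hqm _
    have hord : orderOf (a ^ (orderOf a / q)) = q := orderOf_pow_orderOf_div hm0 hqo
    have h2 : ψ ((g ^ p) ^ (orderOf a / q)) = a ^ (orderOf a / q) := by rw [map_pow, ← ha]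
    have h3 : θ ((g ^ p) ^ (orderOf a / q)) = 1 := by
      rw [map_pow, map_pow, h1, one_pow]
    have h5 : (a ^ (orderOf a / q)) ^ q = 1 := by
      have h6 := pow_orderOf_eq_one (a ^ (orderOf a / q))
      rwa [hord] at h6
    have h4 := hker q hq hqp ((g ^ p) ^ (orderOf a / q)) h3 (by rw [h2]; exact h5)
    rw [h2] at h4
    rw [h4, orderOf_one] at hord
    exact hq.one_lt.ne hord
  rw [hm1, mul_one] at hkm
  refine ⟨k + 1, ?_⟩
  rw [pow_succ', pow_mul, ← map_pow, ← ha, ← hkm]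
  exact pow_orderOf_eq_one a

end Cfsg.Agent.Helper10
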