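import Mathlib
import Cfsg.Agent.Helper10.Rank2Act
import Cfsg.Agent.Helper9.PComp
import Cfsg.Agent.Helper20.SolvPSolv
import Cfsg.Agent.Helper20.HallHigman
import Cfsg.Agent.Helper21.NPC
import Cfsg.Agent.Helper27.PStable
import Cfsg.Agent.Helper1.ThTrans

set_option autoImplicit false

universe u

namespace Cfsg.Agent.Helper10

open scoped commutatorElement

/-- The `p`-rank does not increase in sections `Pb ≤ G / K` with `K` a normal `p'`-subgroup. -/
theorem prank_quotient {G : Type*} [Group G] [Finite G] (p j : ℕ) [Fact p.Prime]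
    (K : Subgroup G) [K.Normal] (hKc : (Nat.card K).Coprime p) (hr : Cfsg.PRankLE p j G)
    (Pb : Subgroup (G ⧸ K)) : Cfsg.PRankLE p j ↥Pb := by
  classical
  intro B hBc hBe
  have hsurj : Function.Surjective (QuotientGroup.mk' K) := QuotientGroup.mk'_surjective K
  obtain ⟨Bb, hBb⟩ : ∃ Bb : Subgroup (G ⧸ K), Bb = B.map Pb.subtype := ⟨_, rfl⟩
  have hBbcard : Nat.card Bb = Nat.card B := by
    rw [hBb]; exact Subgroup.card_map_of_injective Pb.subtype_injective
  have hBbcomm : ∀ x ∈ Bb, ∀ y ∈ Bb, x * y = y * x := by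
    intro x hx y hy
    rw [hBb] at hx hy
    obtain ⟨a, ha, rfl⟩ := hx
    obtain ⟨b, hb, rfl⟩ := hy
    have h1 : (⟨a, ha⟩ : B) * ⟨b, hb⟩ = ⟨b, hb⟩ * ⟨a, ha⟩ := mul_comm' _ _
    have h2 : a * b = b * a := congrArg Subtype.val h1
    rw [← map_mul, ← map_mul, h2]
  have hBbexp : ∀ x ∈ Bb, x ^ p = 1 := by
    intro x hx
    rw [hBb] at hx
    obtain ⟨a, ha, rfl⟩ := hx
    rw [← map_pow, hBe a ha, map_one]
  have hBbp : IsPGroup p Bb := by
    intro x
    refine ⟨1, ?_⟩
    apply Subtype.ext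
    have h1 := hBbexp (x : G ⧸ K) x.2
    simpa using h1
  obtain ⟨Q, hQ⟩ := hBbp.exists_le_sylow
  obtain ⟨T, rfl⟩ := Sylow.mapSurjective_surjective hsurj p Q
  have hQco : ((T.mapSurjective hsurj : Sylow p (G ⧸ K)) : Subgroup (G ⧸ K)) =
      (T : Subgroup G).map (QuotientGroup.mk' K) := Sylow.coe_mapSurjective _ T
  rw [hQco] at hQ
  have hinj : ∀ t ∈ (T : Subgroup G), QuotientGroup.mk' K t = 1 → t = 1 := by
    intro t ht h1
    have h2 : t ∈ K := by
      rw [← QuotientGroup.ker_mk' K]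
      exact (MonoidHom.mem_ker).2 h1
    exact Cfsg.Agent.Helper21.eq_one_of_mem_pgroup_of_mem_coprime T.isPGroup' hKc ht h2
  obtain ⟨S, hS⟩ : ∃ S : Subgroup G, S = (T : Subgroup G) ⊓ Bb.comap (QuotientGroup.mk' K) :=
    ⟨_, rfl⟩
  have hST : ∀ s ∈ S, s ∈ (T : Subgroup G) := fun s hs => by rw [hS] at hs; exact hs.1
  have hSB : ∀ s ∈ S, QuotientGroup.mk' K s ∈ Bb := fun s hs => by rw [hS] at hs; exact hs.2
  have hScomm : IsMulCommutative S := by
    refine ⟨⟨fun s₁ s₂ => ?_⟩⟩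
    apply Subtype.ext
    have h1 := hBbcomm _ (hSB _ s₁.2) _ (hSB _ s₂.2)
    have h2 : QuotientGroup.mk' K ((s₁ : G) * s₂ * ((s₂ : G) * s₁)⁻¹) = 1 := by
      rw [map_mul, map_mul, map_inv, map_mul, h1, mul_inv_cancel]
    have h3 := hinj _ (Subgroup.mul_mem _ (Subgroup.mul_mem _ (hST _ s₁.2) (hST _ s₂.2))
      (Subgroup.inv_mem _ (Subgroup.mul_mem _ (hST _ s₂.2) (hST _ s₁.2)))) h2
    exact mul_inv_eq_one.1 h3
  have hSexp : ∀ s ∈ S, s ^ p = 1 := by
    intro s hs
    apply hinj _ (Subgroup.pow_mem _ (hST s hs) p)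
    rw [map_pow]
    exact hBbexp _ (hSB s hs)
  have hle : Bb ≤ S.map (QuotientGroup.mk' K) := by
    intro b hb
    obtain ⟨t, ht, rfl⟩ := hQ hb
    refine ⟨t, ?_, rfl⟩
    rw [hS]
    exact ⟨ht, hb⟩
  calc Nat.card B = Nat.card Bb := hBbcard.symm
    _ ≤ Nat.card (S.map (QuotientGroup.mk' K)) := Nat.le_of_dvd Nat.card_pos
        (Subgroup.card_dvd_of_le hle)
    _ ≤ Nat.card S := Nat.le_of_dvd Nat.card_pos (Subgroup.card_map_dvd _ _)
    _ ≤ p ^ j := hr S hScomm hSexp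

/-- A normal `p'`-subgroup of `p`-power index is a normal `p`-complement. -/
theorem hnpc_of_normal_hall {G : Type u} [Group G] [Finite G] (p : ℕ) [Fact p.Prime]
    (K : Subgroup G) [hKn : K.Normal] (hKc : (Nat.card K).Coprime p) (k : ℕ)
    (hidx : K.index = p ^ k) : Cfsg.HasNormalPComplement p G := by
  classical
  have hpp : p.Prime := Fact.out
  obtain ⟨P⟩ : Nonempty (Sylow p G) := inferInstance
  refine ⟨P, K, hKn, ?_⟩
  obtain ⟨a, ha⟩ := P.isPGroup'.exists_card_eq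
  have hcardG : Nat.card K * p ^ k = Nat.card G := by rw [← hidx]; exact Subgroup.card_mul_index K
  have hPidx : Nat.Coprime p (P : Subgroup G).index :=
    (Nat.Prime.coprime_iff_not_dvd hpp).2 P.not_dvd_index
  have hPmul : p ^ a * (P : Subgroup G).index = Nat.card G := by
    rw [← ha]; exact Subgroup.card_mul_index (P : Subgroup G)
  have h1 : p ^ a ∣ p ^ k := by
    have h2 : p ^ a ∣ Nat.card K * p ^ k := by rw [hcardG, ← hPmul]; exact dvd_mul_right _ _
    exact (Nat.Coprime.pow_left a hKc.symm).dvd_of_dvd_mul_left h2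
  have h3 : p ^ k ∣ p ^ a := by
    have h2 : p ^ k ∣ p ^ a * (P : Subgroup G).index := by
      rw [hPmul, ← hcardG]; exact dvd_mul_left _ _
    exact (Nat.Coprime.pow_left k hPidx).dvd_of_dvd_mul_right h2
  have h4 : p ^ a = p ^ k := Nat.dvd_antisymm h1 h3
  apply Subgroup.isComplement'_of_coprime
  · rw [ha, h4]; exact hcardG
  · rw [ha]; exact Nat.Coprime.pow_right a hKc

/-- Structure of solvable groups of odd order and `p`-rank at most `2`. -/
theorem rank2_solv {G : Type u} [Group G] [Finite G] [Group.IsSolvable G]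
    (hodd : Odd (Nat.card G)) (p : ℕ) [Fact p.Prime] (hp : p ≠ 2) (hr : Cfsg.PRankLE p 2 G) :
    (∀ q : ℕ, q.Prime → q ∣ (Cfsg.pPrimeCore p G).index → q ≤ p) ∧
      ((p = 3 ∨ ∀ q : ℕ, q.Prime → q ∣ Nat.card G → p ≤ q) → Cfsg.HasNormalPComplement p G) ∧
      Cfsg.HasNormalPComplement p ↥(commutator G) ∧
      (∀ L : Subgroup ↥(commutator G), (Nat.card L).Coprime p →
        L ≤ Cfsg.pPrimeCore p ↥(commutator G)) ∧
      commutator G ≤ Cfsg.pPrimePCore p G ∧ ((Cfsg.pPrimePCore p G).index).Coprime p := by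
  classical
  have hpp : p.Prime := Fact.out
  obtain ⟨K, hK⟩ : ∃ K : Subgroup G, K = Cfsg.pPrimeCore p G := ⟨_, rfl⟩
  have hKn : K.Normal := by rw [hK]; exact Cfsg.pPrimeCore_normal p G
  haveI := hKn
  have hKc : (Nat.card K).Coprime p := by
    rw [hK]; exact Cfsg.Agent.Helper9.pPrimeCore_coprime p
  have hsurj : Function.Surjective (QuotientGroup.mk' K) := QuotientGroup.mk'_surjective K
  have hoddq : Odd (Nat.card (G ⧸ K)) := hodd.of_dvd_nat (Subgroup.card_quotient_dvd_card K)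
  have hbot : Cfsg.pPrimeCore p (G ⧸ K) = ⊥ := by
    subst hK; exact Cfsg.Agent.Helper9.pPrimeCore_quotient_eq_bot p
  have hsol : Cfsg.IsPSolvable p (G ⧸ K) := Cfsg.Agent.Helper20.PLen.isPSolvable_of_isSolvable p
  have hcent := Cfsg.Agent.Helper20.PLen.centralizer_pCore_le_of_psolvable p hsol hbot
  obtain ⟨Pb, hPb⟩ : ∃ Pb : Subgroup (G ⧸ K), Pb = Cfsg.pCore p (G ⧸ K) := ⟨_, rfl⟩
  have hPbn : Pb.Normal := by rw [hPb]; exact Cfsg.pCore_normal p _
  haveI := hPbn
  have hPbp : IsPGroup p Pb := by rw [hPb]; exact Cfsg.Agent.Helper27.pCore_isPGroup p _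
  have hcent' : Subgroup.centralizer (Pb : Set (G ⧸ K)) ≤ Pb := by rw [hPb]; exact hcent
  have hM : Cfsg.pPrimePCore p G = Pb.comap (QuotientGroup.mk' K) := by
    rw [hPb]; subst hK; rfl
  have hrkP : Cfsg.PRankLE p 2 ↥Pb := prank_quotient p 2 K hKc hr Pb
  obtain ⟨ψ, hψ⟩ : ∃ ψ : (G ⧸ K) →* MulAut ↥Pb,
      ∀ (g : G ⧸ K) (u : ↥Pb), ((ψ g u : ↥Pb) : G ⧸ K) = g * u * g⁻¹ :=
    ⟨MulAut.conjNormal, fun g u => rfl⟩
  have hker : ∀ g : G ⧸ K, ψ g = 1 → g ∈ Pb := by
    intro g hg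
    apply hcent'
    rw [Subgroup.mem_centralizer_iff]
    intro u hu
    have h1 := hψ g ⟨u, hu⟩
    rw [hg, MulAut.one_apply] at h1
    exact (mul_inv_eq_iff_eq_mul.1 h1.symm).symm
  have hder := rank2_derived_pgroup hp hPbp hrkP hoddq ψ
  have hcomm_le : commutator (G ⧸ K) ≤ Pb := by
    rw [hPb]
    apply Cfsg.Agent.Helper27.le_pCore (inferInstance : (commutator (G ⧸ K)).Normal)
    intro g
    obtain ⟨k, hk⟩ := hder g g.2
    have h1 : (g : G ⧸ K) ^ p ^ k ∈ Pb := hker _ (by rw [map_pow, hk])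
    obtain ⟨j, hj⟩ := hPbp ⟨_, h1⟩
    refine ⟨k + j, ?_⟩
    apply Subtype.ext
    have h2 : ((g : G ⧸ K) ^ p ^ k) ^ p ^ j = 1 := congrArg Subtype.val hj
    rw [Subgroup.coe_pow, pow_add, pow_mul]
    exact h2
  have hcomm_mem : ∀ a b : G ⧸ K, ⁅a, b⁆ ∈ Pb := by
    intro a b
    apply hcomm_le
    rw [commutator_def]
    exact Subgroup.commutator_mem_commutator (Subgroup.mem_top _) (Subgroup.mem_top _)
  have hE : commutator G ≤ Cfsg.pPrimePCore p G := by
    rw [hM, commutator_def, Subgroup.commutator_le]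
    intro a _ b _
    rw [Subgroup.mem_comap, map_commutatorElement]
    exact hcomm_mem _ _
  obtain ⟨T⟩ : Nonempty (Sylow p (G ⧸ K)) := inferInstance
  have hPT : Pb ≤ (T : Subgroup (G ⧸ K)) :=
    Cfsg.Agent.Helper1.normal_pgroup_le_sylow Pb hPbp T
  have hTn : (T : Subgroup (G ⧸ K)).Normal := by
    refine ⟨fun t ht g => ?_⟩
    have h1 : g * t * g⁻¹ = ⁅g, t⁆ * t := by rw [commutatorElement_def]; group
    rw [h1]
    exact Subgroup.mul_mem _ (hPT (hcomm_mem g t)) ht
  have hTP : (T : Subgroup (G ⧸ K)) = Pb :=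
    le_antisymm (by rw [hPb]; exact Cfsg.Agent.Helper27.le_pCore hTn T.isPGroup') hPT
  have hPidx : (Pb.index).Coprime p := by
    rw [← hTP]
    exact ((Nat.Prime.coprime_iff_not_dvd hpp).2 T.not_dvd_index).symm
  have hF : ((Cfsg.pPrimePCore p G).index).Coprime p := by
    rw [hM, Subgroup.index_comap_of_surjective _ hsurj]; exact hPidx
  have hprime : ∀ q : ℕ, q.Prime → q ∣ Pb.index → q ∣ p ^ 2 - 1 ∧ q < p := by
    intro q hq hqd
    have hqp : q ≠ p := by
      rintro rfl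
      exact (Nat.Prime.coprime_iff_not_dvd hq).1 hPidx.symm hqd
    apply Cfsg.Agent.S0640.result hp hPbp hrkP q hq hqp
    have h1 : ψ.ker ≤ Pb := fun g hg => hker g ((MonoidHom.mem_ker).1 hg)
    have h2 : Pb.index ∣ ψ.ker.index := Subgroup.index_dvd_of_le h1
    rw [Subgroup.index_ker] at h2
    exact (hqd.trans h2).trans (Subgroup.card_subgroup_dvd_card _)
  have hKidx : K.index = Nat.card Pb * Pb.index := by
    rw [Subgroup.index_eq_card, Subgroup.card_mul_index]
  have hmapD : (commutator G).map (QuotientGroup.mk' K) ≤ Pb :=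
    Subgroup.map_le_iff_le_comap.2 (hM ▸ hE)
  have hDK : ∀ L : Subgroup ↥(commutator G), (Nat.card L).Coprime p →
      L ≤ K.subgroupOf (commutator G) := by
    intro L hL l hl
    rw [Subgroup.mem_subgroupOf, ← QuotientGroup.ker_mk' K, MonoidHom.mem_ker]
    have h1 : QuotientGroup.mk' K (l : G) ∈ Pb := hmapD ⟨l, l.2, rfl⟩
    obtain ⟨j, hj⟩ := hPbp ⟨_, h1⟩
    have h2 : (QuotientGroup.mk' K (l : G)) ^ p ^ j = 1 := congrArg Subtype.val hj
    have h3 : (QuotientGroup.mk' K (l : G)) ^ Nat.card L = 1 := by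
      have h4 : (⟨l, hl⟩ : L) ^ Nat.card L = 1 := pow_card_eq_one'
      have h5 : (l : G) ^ Nat.card L = 1 := by
        have h6 : (l ^ Nat.card L : ↥(commutator G)) = 1 := congrArg Subtype.val h4
        exact congrArg Subtype.val h6
      rw [← map_pow, h5, map_one]
    have h7 : orderOf (QuotientGroup.mk' K (l : G)) ∣ Nat.gcd (Nat.card L) (p ^ j) :=
      Nat.dvd_gcd (orderOf_dvd_of_pow_eq_one h3) (orderOf_dvd_of_pow_eq_one h2)
    rw [(Nat.Coprime.pow_right j hL).gcd_eq_one, Nat.dvd_one] at h7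
    exact orderOf_eq_one_iff.1 h7
  have hNc : (Nat.card (K.subgroupOf (commutator G))).Coprime p := by
    have h1 : Nat.card (K.subgroupOf (commutator G)) ∣ Nat.card K := by
      rw [← Subgroup.inf_subgroupOf_right K (commutator G),
        Nat.card_congr (Subgroup.subgroupOfEquivOfLe (inf_le_right : K ⊓ commutator G ≤
          commutator G)).toEquiv]
      exact Subgroup.card_dvd_of_le inf_le_left
    exact Nat.Coprime.coprime_dvd_left h1 hKc
  refine ⟨?_, ?_, ?_, ?_, hE, hF⟩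
  · intro q hq hqd
    rw [← hK, hKidx] at hqd
    rcases (Nat.Prime.dvd_mul hq).1 hqd with h | h
    · obtain ⟨j, hj⟩ := hPbp.exists_card_eq
      rw [hj] at h
      exact le_of_eq ((Nat.prime_dvd_prime_iff_eq hq hpp).1 (hq.dvd_of_dvd_pow h))
    · exact (hprime q hq h).2.le
  · intro hcase
    have hidx1 : Pb.index = 1 := by
      by_contra hne
      obtain ⟨q, hq, hqd⟩ := Nat.exists_prime_and_dvd hne
      obtain ⟨hq1, hq2⟩ := hprime q hq hqd
      have hqG : q ∣ Nat.card G := by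
        have h1 : q ∣ K.index := by rw [hKidx]; exact dvd_mul_of_dvd_right hqd _
        exact h1.trans (Subgroup.index_dvd_card K)
      rcases hcase with h3 | hmin
      · have hq2' : q = 2 := by have := hq.two_le; omega
        rw [hq2'] at hqG
        exact (Nat.not_even_iff_odd.2 hodd) (even_iff_two_dvd.2 hqG)
      · have := hmin q hq hqG
        omega
    obtain ⟨j, hj⟩ := hPbp.exists_card_eq
    exact hnpc_of_normal_hall p K hKc j (by rw [hKidx, hidx1, mul_one, hj])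
  · have hle : (commutator G).map (QuotientGroup.mk' K) ≤ Pb := hmapD
    obtain ⟨j, hj⟩ := (hPbp.to_le hle).exists_card_eq
    apply hnpc_of_normal_hall p (K.subgroupOf (commutator G)) hNc j
    have h := Subgroup.relIndex_comap (H := (⊥ : Subgroup (G ⧸ K))) (QuotientGroup.mk' K)
      (commutator G)
    rw [MonoidHom.comap_bot, QuotientGroup.ker_mk', Subgroup.relIndex_bot_left] at h
    rw [← hj, ← h]
    rfl
  · intro L hL
    exact (hDK L hL).trans (Cfsg.Agent.Helper9.le_pPrimeCore inferInstance hNc)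

end Cfsg.Agent.Helper10
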