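import Mathlib
import Cfsg.Agent.Helper10.Rank2Solv
import Cfsg.Agent.Helper10.ActPStab

set_option autoImplicit false

universe u

namespace Cfsg.Agent.Helper10

open scoped commutatorElement

/-- A finite group without elements of prime order `r ≠ p` is a `p`-group. -/
theorem isPGroup_of_no_prime_elt {H : Type*} [Group H] [Finite H] (p : ℕ) [Fact p.Prime]
    (h : ∀ r : ℕ, r.Prime → r ≠ p → ∀ g : H, g ^ r = 1 → g = 1) : IsPGroup p H := by
  classical
  have hpp : p.Prime := Fact.out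
  obtain ⟨k, m, hm, hkm⟩ := Nat.exists_eq_pow_mul_and_not_dvd (Nat.card_pos (α := H)).ne' p
    hpp.ne_one
  have hm1 : m = 1 := by
    by_contra hne
    obtain ⟨r, hr, hrm⟩ := Nat.exists_prime_and_dvd hne
    have hrp : r ≠ p := by
      rintro rfl
      exact hm hrm
    haveI : Fact r.Prime := ⟨hr⟩
    have hrc : r ∣ Nat.card H := by rw [hkm]; exact dvd_mul_of_dvd_right hrm _
    obtain ⟨g, hg⟩ := exists_prime_orderOf_dvd_card' r hrc
    have h1 := h r hr hrp g (by rw [← hg]; exact pow_orderOf_eq_one g)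
    rw [h1, orderOf_one] at hg
    exact hr.one_lt.ne hg
  rw [hm1, mul_one] at hkm
  exact IsPGroup.of_card hkm

/-- In a finite `p`-group, commutators of elements of a cyclic normal subgroup `C` with arbitrary
elements are `p`-th powers of elements of `C`. -/
theorem cyclic_normal_comm_pow {T : Type*} [Group T] [Finite T] (p : ℕ) [Fact p.Prime]
    (hT : IsPGroup p T) (C : Subgroup T) [hCn : C.Normal] [hCc : IsCyclic C] :
    ∀ c ∈ C, ∀ y : T, ∃ w ∈ C, ⁅c, y⁆ = w ^ p := by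
  classical
  have hpp : p.Prime := Fact.out
  obtain ⟨g, hg⟩ := IsCyclic.exists_monoid_generator (α := C)
  obtain ⟨c₀, hc₀⟩ : ∃ c₀ : T, c₀ = (g : T) := ⟨_, rfl⟩
  have hc₀C : c₀ ∈ C := by rw [hc₀]; exact g.2
  have hgen : ∀ c ∈ C, ∃ n : ℕ, c = c₀ ^ n := by
    intro c hc
    obtain ⟨n, hn⟩ := (Submonoid.mem_powers_iff _ _).1 (hg ⟨c, hc⟩)
    refine ⟨n, ?_⟩
    have h1 : ((g ^ n : C) : T) = c := congrArg Subtype.val hn
    rw [hc₀, ← h1]
    rfl
  intro c hc y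
  obtain ⟨n, rfl⟩ := hgen c hc
  obtain ⟨m, hm⟩ := hgen (y * c₀ * y⁻¹) (hCn.conj_mem c₀ hc₀C y)
  by_cases h1 : c₀ = 1
  · refine ⟨1, C.one_mem, ?_⟩
    rw [h1, one_pow, one_pow, commutatorElement_def]
    group
  have hconj : ∀ k : ℕ, y ^ k * c₀ * (y ^ k)⁻¹ = c₀ ^ (m ^ k) := by
    intro k
    induction k with
    | zero => simp
    | succ k ih =>
      have e : y ^ (k + 1) * c₀ * (y ^ (k + 1))⁻¹ = y * (y ^ k * c₀ * (y ^ k)⁻¹) * y⁻¹ := by
        rw [pow_succ']; group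
      rw [e, ih, ← conj_pow, hm, ← pow_mul, ← pow_succ']
  obtain ⟨e, he⟩ := hT y
  have h2 : c₀ ^ (m ^ (p ^ e)) = c₀ ^ 1 := by
    rw [← hconj (p ^ e), he, one_mul, inv_one, mul_one, pow_one]
  rw [pow_eq_pow_iff_modEq] at h2
  have hpo : p ∣ orderOf c₀ := by
    obtain ⟨i, hi⟩ := hT c₀
    have h3 : orderOf c₀ ∣ p ^ i := orderOf_dvd_of_pow_eq_one hi
    obtain ⟨j, hj, hj'⟩ := (Nat.dvd_prime_pow hpp).1 h3
    rcases Nat.eq_zero_or_pos j with h0 | h0
    · rw [h0, pow_zero] at hj'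
      exact absurd (orderOf_eq_one_iff.1 hj') h1
    · rw [hj']
      exact dvd_pow_self p (by omega)
  have h4 : m ^ (p ^ e) ≡ 1 [MOD p] := h2.of_dvd hpo
  have h5 : m ≡ 1 [MOD p] := by
    rw [← ZMod.natCast_eq_natCast_iff] at h4 ⊢
    push_cast at h4 ⊢
    rw [ZMod.pow_card_pow] at h4
    exact h4
  obtain ⟨t, ht⟩ : ∃ t, m = t * p + 1 := by
    have h6 : m % p = 1 := by
      have h7 : m % p = 1 % p := h5
      rw [h7]
      exact Nat.mod_eq_of_lt hpp.one_lt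
    refine ⟨m / p, ?_⟩
    have h8 := Nat.div_add_mod m p
    rw [h6] at h8
    rw [mul_comm]
    exact h8.symm
  refine ⟨(c₀ ^ (t * n))⁻¹, C.inv_mem (C.pow_mem hc₀C _), ?_⟩
  have e1 : ⁅c₀ ^ n, y⁆ = c₀ ^ n * (y * c₀ ^ n * y⁻¹)⁻¹ := by
    rw [commutatorElement_def]; group
  have e2 : y * c₀ ^ n * y⁻¹ = c₀ ^ ((t * n) * p + n) := by
    rw [← conj_pow, hm, ← pow_mul, ht]
    congr 1
    ring
  rw [e1, e2, pow_add, pow_mul, mul_inv_rev, mul_inv_cancel_left, inv_pow]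

/-- In a solvable group of odd order, a Sylow `p`-subgroup with cyclic derived subgroup `S`
satisfies `O_{p'}(X) S ⊴ X`. -/
theorem sylow_cyclic_derived_normal {X : Type u} [Group X] [Finite X] [Group.IsSolvable X]
    (hX : Odd (Nat.card X)) (p : ℕ) [Fact p.Prime] (S : Sylow p X)
    (hS : IsCyclic (commutator (S : Subgroup X))) :
    (Cfsg.pPrimeCore p X ⊔ (S : Subgroup X)).Normal := by
  classical
  have hpp : p.Prime := Fact.out
  obtain ⟨K, hK⟩ : ∃ K : Subgroup X, K = Cfsg.pPrimeCore p X := ⟨_, rfl⟩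
  have hKn : K.Normal := by rw [hK]; exact Cfsg.pPrimeCore_normal p X
  rw [← hK]
  by_cases hp2 : p = 2
  · have hS1 : (S : Subgroup X) = ⊥ := by
      obtain ⟨a, ha⟩ := S.isPGroup'.exists_card_eq
      have h1 : Nat.card (S : Subgroup X) ∣ Nat.card X := Subgroup.card_subgroup_dvd_card _
      rw [ha, hp2] at h1
      rcases Nat.eq_zero_or_pos a with h0 | h0
      · rw [h0, pow_zero] at ha
        exact Subgroup.card_eq_one.1 ha
      · exfalso
        have h2 : 2 ∣ Nat.card X := (dvd_pow_self 2 (by omega)).trans h1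
        exact (Nat.not_even_iff_odd.2 hX) (even_iff_two_dvd.2 h2)
    rw [hS1, sup_bot_eq]
    exact hKn
  haveI := hKn
  have hKc : (Nat.card K).Coprime p := by
    rw [hK]; exact Cfsg.Agent.Helper9.pPrimeCore_coprime p
  have hsurj : Function.Surjective (QuotientGroup.mk' K) := QuotientGroup.mk'_surjective K
  have hoddq : Odd (Nat.card (X ⧸ K)) := hX.of_dvd_nat (Subgroup.card_quotient_dvd_card K)
  have hbot : Cfsg.pPrimeCore p (X ⧸ K) = ⊥ := by
    subst hK; exact Cfsg.Agent.Helper9.pPrimeCore_quotient_eq_bot p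
  have hsol : Cfsg.IsPSolvable p (X ⧸ K) := Cfsg.Agent.Helper20.PLen.isPSolvable_of_isSolvable p
  have hcent := Cfsg.Agent.Helper20.PLen.centralizer_pCore_le_of_psolvable p hsol hbot
  obtain ⟨Pb, hPb⟩ : ∃ Pb : Subgroup (X ⧸ K), Pb = Cfsg.pCore p (X ⧸ K) := ⟨_, rfl⟩
  have hPbn : Pb.Normal := by rw [hPb]; exact Cfsg.pCore_normal p _
  haveI := hPbn
  have hPbp : IsPGroup p Pb := by rw [hPb]; exact Cfsg.Agent.Helper27.pCore_isPGroup p _
  have hcent' : Subgroup.centralizer (Pb : Set (X ⧸ K)) ≤ Pb := by rw [hPb]; exact hcent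
  obtain ⟨Tb, hTb⟩ : ∃ Tb : Sylow p (X ⧸ K),
      (Tb : Subgroup (X ⧸ K)) = (S : Subgroup X).map (QuotientGroup.mk' K) :=
    ⟨S.mapSurjective hsurj, Sylow.coe_mapSurjective _ S⟩
  have hPT : Pb ≤ (S : Subgroup X).map (QuotientGroup.mk' K) := by
    rw [← hTb]; exact Cfsg.Agent.Helper1.normal_pgroup_le_sylow Pb hPbp Tb
  have hTtp : IsPGroup p ((S : Subgroup X).map (QuotientGroup.mk' K)) := S.isPGroup'.map _
  suffices hTP : (S : Subgroup X).map (QuotientGroup.mk' K) ≤ Pb by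
    have h1 : (S : Subgroup X).map (QuotientGroup.mk' K) = Pb := le_antisymm hTP hPT
    have h2 : K ⊔ (S : Subgroup X) = Pb.comap (QuotientGroup.mk' K) := by
      rw [← h1, Subgroup.comap_map_eq, QuotientGroup.ker_mk', sup_comm]
    rw [h2]
    exact hPbn.comap _
  obtain ⟨Φ, hΦ⟩ : ∃ Φ : Subgroup (X ⧸ K), Φ = (frattini ↥Pb).map Pb.subtype := ⟨_, rfl⟩
  have hΦn : Φ.Normal := by rw [hΦ]; infer_instance
  haveI := hΦn
  have hΦmem : ∀ z : X ⧸ K, z ∈ Φ → ∃ w ∈ frattini ↥Pb, (w : X ⧸ K) = z := by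
    intro z hz
    rw [hΦ] at hz
    exact hz
  have hpowΦ : ∀ w ∈ Pb, w ^ p ∈ Φ := by
    intro w hw
    rw [hΦ]
    refine ⟨⟨w, hw⟩ ^ p, ?_, rfl⟩
    rw [SetLike.mem_coe, Cfsg.Agent.Helper1.mem_frattini_iff]
    intro M hM
    exact (Cfsg.Agent.Helper1.coatom_pgroup p hPbp M hM).2.2 _
  have hcoreq : ∀ H : Subgroup ((X ⧸ K) ⧸ Φ), GL2Core H := fun H =>
    gl2Core_of_odd (Odd.of_dvd_nat (hoddq.of_dvd_nat (Subgroup.card_quotient_dvd_card Φ))
      (Subgroup.card_subgroup_dvd_card H))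
  have hsec := isPStableOnSection_of_core p hp2 Pb Φ hPbp hcoreq
  have hKsec : IsPGroup p (Cfsg.sectionKernel Pb Φ) := by
    apply isPGroup_of_no_prime_elt p
    intro r hr hrp g hgr
    haveI : Fact r.Prime := ⟨hr⟩
    have hgr' : (g : X ⧸ K) ^ r = 1 := by
      have h1 := congrArg Subtype.val hgr
      simpa using h1
    have hβr : (MulAut.conjNormal (g : X ⧸ K) : MulAut ↥Pb) ^ r = 1 := by
      rw [← map_pow, hgr', map_one]
    have hβ : ∀ u : ↥Pb, (((MulAut.conjNormal (g : X ⧸ K) : MulAut ↥Pb) u : ↥Pb) : X ⧸ K) =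
        (g : X ⧸ K) * u * (g : X ⧸ K)⁻¹ := fun u => rfl
    have hF : ∀ u : ↥Pb, u⁻¹ * (MulAut.conjNormal (g : X ⧸ K) : MulAut ↥Pb) u ∈ frattini ↥Pb := by
      intro u
      have h1 : QuotientGroup.mk' Φ (g : X ⧸ K) ∈
          Subgroup.centralizer ((Pb.map (QuotientGroup.mk' Φ) : Subgroup ((X ⧸ K) ⧸ Φ)) :
            Set ((X ⧸ K) ⧸ Φ)) := g.2
      rw [Subgroup.mem_centralizer_iff] at h1
      have h2 := h1 (QuotientGroup.mk' Φ (u : X ⧸ K)) ⟨u, u.2, rfl⟩
      rw [← map_mul, ← map_mul] at h2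
      have h3 : ((u : X ⧸ K) * g)⁻¹ * ((g : X ⧸ K) * u) ∈ Φ := QuotientGroup.eq.1 h2
      have h4 : (u : X ⧸ K)⁻¹ * ((g : X ⧸ K) * u * (g : X ⧸ K)⁻¹) ∈ Φ := by
        have h5 := hΦn.conj_mem _ h3 (g : X ⧸ K)
        have e : (g : X ⧸ K) * (((u : X ⧸ K) * g)⁻¹ * ((g : X ⧸ K) * u)) * (g : X ⧸ K)⁻¹ =
            (u : X ⧸ K)⁻¹ * ((g : X ⧸ K) * u * (g : X ⧸ K)⁻¹) := by group
        rw [e] at h5
        exact h5
      obtain ⟨z, hz, hzz⟩ := hΦmem _ h4
      have h6 : z = u⁻¹ * (MulAut.conjNormal (g : X ⧸ K) : MulAut ↥Pb) u := by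
        apply Subtype.ext
        rw [Subgroup.coe_mul, Subgroup.coe_inv, hβ]
        exact hzz
      rw [← h6]
      exact hz
    have hβ1 := frat_triv p hPbp _ r hrp hβr hF
    have hgP : (g : X ⧸ K) ∈ Pb := by
      apply hcent'
      rw [Subgroup.mem_centralizer_iff]
      intro u hu
      have h1 := hβ ⟨u, hu⟩
      rw [hβ1, MulAut.one_apply] at h1
      exact (mul_inv_eq_iff_eq_mul.1 h1.symm).symm
    obtain ⟨j, hj⟩ := hPbp ⟨_, hgP⟩
    have hj' : (g : X ⧸ K) ^ p ^ j = 1 := congrArg Subtype.val hj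
    have h7 : orderOf (g : X ⧸ K) ∣ Nat.gcd r (p ^ j) :=
      Nat.dvd_gcd (orderOf_dvd_of_pow_eq_one hgr') (orderOf_dvd_of_pow_eq_one hj')
    have hcop : Nat.Coprime r (p ^ j) :=
      Nat.Coprime.pow_right j ((Nat.coprime_primes hr hpp).2 hrp)
    rw [hcop.gcd_eq_one, Nat.dvd_one] at h7
    apply Subtype.ext
    exact orderOf_eq_one_iff.1 h7
  -- the commutator subgroup of the Sylow subgroup of the quotient is cyclic
  obtain ⟨f, hf⟩ : ∃ f : ↥(S : Subgroup X) →* ↥((S : Subgroup X).map (QuotientGroup.mk' K)),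
      Function.Surjective f :=
    ⟨(QuotientGroup.mk' K).subgroupMap (S : Subgroup X),
      (QuotientGroup.mk' K).subgroupMap_surjective (S : Subgroup X)⟩
  have ecomm : commutator ↥((S : Subgroup X).map (QuotientGroup.mk' K)) =
      (commutator ↥(S : Subgroup X)).map f := by
    rw [commutator_def, commutator_def, Subgroup.map_commutator,
      Subgroup.map_top_of_surjective f hf]
  have hcyc : IsCyclic ↥(commutator ↥((S : Subgroup X).map (QuotientGroup.mk' K))) := by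
    rw [ecomm]
    exact isCyclic_of_surjective (f.subgroupMap (commutator ↥(S : Subgroup X)))
      (f.subgroupMap_surjective _)
  haveI := hcyc
  obtain ⟨C₀, hC₀⟩ : ∃ C₀ : Subgroup ↥((S : Subgroup X).map (QuotientGroup.mk' K)),
      C₀ = commutator ↥((S : Subgroup X).map (QuotientGroup.mk' K)) ⊓
        Pb.subgroupOf ((S : Subgroup X).map (QuotientGroup.mk' K)) := ⟨_, rfl⟩
  have hC₀n : C₀.Normal := by rw [hC₀]; infer_instance
  have hC₀le : C₀ ≤ commutator ↥((S : Subgroup X).map (QuotientGroup.mk' K)) := by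
    rw [hC₀]; exact inf_le_left
  have hC₀c : IsCyclic ↥C₀ :=
    isCyclic_of_surjective (Subgroup.subgroupOfEquivOfLe hC₀le)
      (Subgroup.subgroupOfEquivOfLe hC₀le).surjective
  have key := @cyclic_normal_comm_pow _ _ _ p _ hTtp C₀ hC₀n hC₀c
  intro x hx
  have hzx : Subgroup.zpowers x ≤ (S : Subgroup X).map (QuotientGroup.mk' K) :=
    (Subgroup.zpowers_le).2 hx
  have hB : ⁅Pb, Subgroup.zpowers x⁆ ≤ C₀.map (Subgroup.subtype _) := by
    rw [Subgroup.commutator_le]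
    intro u hu y hy
    refine ⟨⁅(⟨u, hPT hu⟩ : ↥((S : Subgroup X).map (QuotientGroup.mk' K))),
      (⟨y, hzx hy⟩ : ↥((S : Subgroup X).map (QuotientGroup.mk' K)))⁆, ?_, rfl⟩
    rw [SetLike.mem_coe, hC₀]
    refine ⟨?_, ?_⟩
    · rw [commutator_def]
      exact Subgroup.commutator_mem_commutator (Subgroup.mem_top _) (Subgroup.mem_top _)
    · show ⁅u, y⁆ ∈ Pb
      have e : ⁅u, y⁆ = u * (y * u⁻¹ * y⁻¹) := by rw [commutatorElement_def]; group
      rw [e]
      exact Pb.mul_mem hu (hPbn.conj_mem _ (Pb.inv_mem hu) y)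
  have hquad : ⁅⁅Pb, Subgroup.zpowers x⁆, Subgroup.zpowers x⁆ ≤ Φ := by
    rw [Subgroup.commutator_le]
    intro b hb y hy
    obtain ⟨c, hc, rfl⟩ := hB hb
    obtain ⟨w, hw, hwc⟩ := key c hc ⟨y, hzx hy⟩
    have hwP : (w : X ⧸ K) ∈ Pb := by
      rw [hC₀] at hw
      exact Subgroup.mem_subgroupOf.1 hw.2
    have h1 := hpowΦ _ hwP
    have h2 : ((⁅c, ⟨y, hzx hy⟩⁆ : ↥((S : Subgroup X).map (QuotientGroup.mk' K))) : X ⧸ K) =
        (w : X ⧸ K) ^ p := by rw [hwc]; rfl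
    rw [← h2] at h1
    exact h1
  obtain ⟨D, hDn, hKD, ⟨k, hk⟩, hxD⟩ := hsec x hquad
  have hDp : IsPGroup p D := by
    obtain ⟨a, ha⟩ := hKsec.exists_card_eq
    apply IsPGroup.of_card (n := a + k)
    have h1 : Nat.card ((Cfsg.sectionKernel Pb Φ).subgroupOf D) *
        ((Cfsg.sectionKernel Pb Φ).subgroupOf D).index = Nat.card D :=
      Subgroup.card_mul_index _
    have h2 : Nat.card ((Cfsg.sectionKernel Pb Φ).subgroupOf D) =
        Nat.card (Cfsg.sectionKernel Pb Φ) :=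
      Nat.card_congr (Subgroup.subgroupOfEquivOfLe hKD).toEquiv
    have h3 : ((Cfsg.sectionKernel Pb Φ).subgroupOf D).index = p ^ k := hk
    rw [h2, ha, h3] at h1
    rw [← h1, pow_add]
  have hDP : D ≤ Pb := by rw [hPb]; exact Cfsg.Agent.Helper27.le_pCore hDn hDp
  exact hDP hxD

end Cfsg.Agent.Helper10
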