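import Mathlib
import Cfsg.Agent.Helper1.ZJ
import Cfsg.Agent.Helper1.ZJBridge

set_option autoImplicit false

namespace Cfsg.Agent.Helper10

open scoped commutatorElement

section FullZJ

variable {G : Type*} [Group G]

/-- The full centre `Z(J_e(D))` of the `e`-Thompson subgroup, viewed in the ambient group. -/
def fullZ (e : ℕ) (D : Subgroup G) : Subgroup G :=
  Cfsg.Agent.Helper1.JE e D ⊓ Subgroup.centralizer ((Cfsg.Agent.Helper1.JE e D : Subgroup G) : Set G)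

theorem fullZ_conj_mem (e : ℕ) (D : Subgroup G) :
    ∀ g ∈ Subgroup.normalizer (D : Set G), ∀ x ∈ fullZ e D, g * x * g⁻¹ ∈ fullZ e D := by
  intro g hg x hx
  rw [Cfsg.Agent.Helper1.mem_normalizer_iff_conj_smul, Cfsg.Agent.Helper1.conj_smul_eq_map] at hg
  have hJ : (Cfsg.Agent.Helper1.JE e D).map (MulAut.conj g).toMonoidHom
      = Cfsg.Agent.Helper1.JE e D := by
    rw [Cfsg.Agent.Helper1.JE_map, hg]
  obtain ⟨hxJ, hxC⟩ := Subgroup.mem_inf.1 hx
  refine Subgroup.mem_inf.2 ⟨?_, ?_⟩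
  · have h1 : (MulAut.conj g).toMonoidHom x ∈
        (Cfsg.Agent.Helper1.JE e D).map (MulAut.conj g).toMonoidHom :=
      Subgroup.mem_map_of_mem _ hxJ
    rw [hJ] at h1
    exact h1
  · rw [Subgroup.mem_centralizer_iff]
    intro y hy
    have hy' : y ∈ (Cfsg.Agent.Helper1.JE e D).map (MulAut.conj g).toMonoidHom := by
      rw [hJ]; exact hy
    obtain ⟨y', hy'', rfl⟩ := hy'
    have h2 := Subgroup.mem_centralizer_iff.1 hxC y' hy''
    show g * y' * g⁻¹ * (g * x * g⁻¹) = g * x * g⁻¹ * (g * y' * g⁻¹)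
    calc g * y' * g⁻¹ * (g * x * g⁻¹) = g * (y' * x) * g⁻¹ := by group
      _ = g * (x * y') * g⁻¹ := by rw [h2]
      _ = g * x * g⁻¹ * (g * y' * g⁻¹) := by group

theorem centJ_conj_mem (e : ℕ) (D : Subgroup G) :
    ∀ g ∈ Subgroup.normalizer (D : Set G),
      ∀ x ∈ D ⊓ Subgroup.centralizer ((Cfsg.Agent.Helper1.JE e D : Subgroup G) : Set G),
      g * x * g⁻¹ ∈ D ⊓ Subgroup.centralizer ((Cfsg.Agent.Helper1.JE e D : Subgroup G) : Set G) := by
  intro g hg x hx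
  have hg0 := hg
  rw [Cfsg.Agent.Helper1.mem_normalizer_iff_conj_smul, Cfsg.Agent.Helper1.conj_smul_eq_map] at hg
  have hJ : (Cfsg.Agent.Helper1.JE e D).map (MulAut.conj g).toMonoidHom
      = Cfsg.Agent.Helper1.JE e D := by
    rw [Cfsg.Agent.Helper1.JE_map, hg]
  obtain ⟨hxD, hxC⟩ := Subgroup.mem_inf.1 hx
  refine Subgroup.mem_inf.2 ⟨(Subgroup.mem_normalizer_iff.1 hg0 x).1 hxD, ?_⟩
  rw [Subgroup.mem_centralizer_iff]
  intro y hy
  have hy' : y ∈ (Cfsg.Agent.Helper1.JE e D).map (MulAut.conj g).toMonoidHom := by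
    rw [hJ]; exact hy
  obtain ⟨y', hy'', rfl⟩ := hy'
  have h2 := Subgroup.mem_centralizer_iff.1 hxC y' hy''
  show g * y' * g⁻¹ * (g * x * g⁻¹) = g * x * g⁻¹ * (g * y' * g⁻¹)
  calc g * y' * g⁻¹ * (g * x * g⁻¹) = g * (y' * x) * g⁻¹ := by group
    _ = g * (x * y') * g⁻¹ := by rw [h2]
    _ = g * x * g⁻¹ * (g * y' * g⁻¹) := by group

theorem pow_class2_odd_mul (u v z : G) (huv : v * u = u * v * z) (hzu : z * u = u * z)
    (hzv : z * v = v * z) (e : ℕ) (he : Odd e) (hze : z ^ e = 1) :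
    (u * v) ^ e = u ^ e * v ^ e := by
  obtain ⟨m, hm, hmn⟩ := Cfsg.Agent.Helper1.pow_class2 u v z huv hzu hzv e
  obtain ⟨k, hk⟩ := he
  subst hk
  have h2 : (2 * k + 1) * (2 * k + 1) = 2 * ((2 * k + 1) * k) + (2 * k + 1) := by ring
  have h3 : m = (2 * k + 1) * k := by
    rw [h2] at hmn
    exact Nat.eq_of_mul_eq_mul_left (by norm_num : 0 < 2) (Nat.add_right_cancel hmn)
  rw [hm, h3, pow_mul, hze]
  simp

/-- In a normal subgroup of class at most two, for `p` odd, the normal closure of the elements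
of order dividing `p` has exponent `p`. -/
theorem normalClosure_exp {p : ℕ} (hodd : Odd p) (B : Subgroup G) [hBn : B.Normal]
    (hcl2 : ∀ x ∈ B, ∀ y ∈ B, ∀ z ∈ B, (x⁻¹ * y⁻¹ * x * y) * z = z * (x⁻¹ * y⁻¹ * x * y)) :
    ∀ x ∈ Subgroup.normalClosure {x : G | x ∈ B ∧ x ^ p = 1}, x ∈ B ∧ x ^ p = 1 := by
  intro x hx
  unfold Subgroup.normalClosure at hx
  induction hx using Subgroup.closure_induction with
  | mem y hy =>
    obtain ⟨a, ha, hay⟩ := Group.mem_conjugatesOfSet_iff.mp hy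
    obtain ⟨c, rfl⟩ := isConj_iff.mp hay
    refine ⟨hBn.conj_mem a ha.1 c, ?_⟩
    rw [conj_pow, ha.2]
    group
  | one => exact ⟨B.one_mem, one_pow p⟩
  | mul u v _ _ hu hv =>
    refine ⟨B.mul_mem hu.1 hv.1, ?_⟩
    have huv : v * u = u * v * (v⁻¹ * u⁻¹ * v * u) := by group
    exact Cfsg.Agent.Helper1.pow_class2_odd u v (v⁻¹ * u⁻¹ * v * u) huv
      (hcl2 v hv.1 u hu.1 u hu.1) (hcl2 v hv.1 u hu.1 v hv.1) p hodd hu.2 hv.2
  | inv u _ hu => exact ⟨B.inv_mem hu.1, by rw [inv_pow, hu.2, inv_one]⟩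

/-- An element of order prime to the odd prime `p` normalizing a `p`-group `B` of class at
most two and centralizing its elements of order dividing `p` centralizes `B`. -/
theorem omega_aut_aux {p : ℕ} (hodd : Odd p) (B : Subgroup G)
    (hcl2 : ∀ x ∈ B, ∀ y ∈ B, ∀ z ∈ B, (x⁻¹ * y⁻¹ * x * y) * z = z * (x⁻¹ * y⁻¹ * x * y))
    (g : G) (hgB : ∀ x ∈ B, g * x * g⁻¹ ∈ B) (m : ℕ) (hm : g ^ m = 1) (hmp : m.Coprime p)
    (hΩ : ∀ x ∈ B, x ^ p = 1 → g * x * g⁻¹ = x) :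
    ∀ k : ℕ, ∀ x ∈ B, x ^ (p ^ k) = 1 → g * x * g⁻¹ = x := by
  intro k
  induction k with
  | zero =>
    intro x _ hx
    rw [pow_zero, pow_one] at hx
    rw [hx]; group
  | succ k ih =>
    intro x hx hxk
    have hxp : (x ^ p) ^ (p ^ k) = 1 := by rw [← pow_mul, ← pow_succ']; exact hxk
    have h1 : g * x ^ p * g⁻¹ = x ^ p := ih (x ^ p) (B.pow_mem hx p) hxp
    obtain ⟨x₁, hx₁⟩ : ∃ x₁ : G, x₁ = g * x * g⁻¹ := ⟨_, rfl⟩
    have hx₁B : x₁ ∈ B := by rw [hx₁]; exact hgB x hx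
    have hx₁p : x₁ ^ p = x ^ p := by rw [hx₁, conj_pow, h1]
    obtain ⟨z, hz⟩ : ∃ z : G, z = x₁⁻¹ * x⁻¹⁻¹ * x₁ * x⁻¹ := ⟨_, rfl⟩
    have hzc : ∀ w ∈ B, z * w = w * z := by
      intro w hw
      rw [hz]
      exact hcl2 x₁ hx₁B x⁻¹ (B.inv_mem hx) w hw
    have huv : x₁ * x⁻¹ = x⁻¹ * x₁ * z := by rw [hz]; group
    have hzp : z ^ p = 1 := by
      have h2 := Cfsg.Agent.Helper1.pow_class2_aux x⁻¹ x₁ z huv (hzc x₁ hx₁B) p
      rw [hx₁p] at h2
      have h3 : x ^ p * x⁻¹ = x⁻¹ * x ^ p := by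
        have h4 : Commute (x ^ p) x⁻¹ := ((Commute.refl x).pow_left p).inv_right
        exact h4.eq
      rw [h3] at h2
      have h5 : x⁻¹ * x ^ p * 1 = x⁻¹ * x ^ p * z ^ p := by rw [mul_one]; exact h2
      exact (mul_left_cancel h5).symm
    obtain ⟨y, hy⟩ : ∃ y : G, y = x⁻¹ * x₁ := ⟨_, rfl⟩
    have hyB : y ∈ B := by rw [hy]; exact B.mul_mem (B.inv_mem hx) hx₁B
    have hyp : y ^ p = 1 := by
      rw [hy, pow_class2_odd_mul x⁻¹ x₁ z huv (hzc x⁻¹ (B.inv_mem hx)) (hzc x₁ hx₁B) p hodd hzp,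
        hx₁p, inv_pow, inv_mul_cancel]
    have hgy : g * y * g⁻¹ = y := hΩ y hyB hyp
    have hx₁y : x₁ = x * y := by rw [hy]; group
    have hpow : ∀ n : ℕ, g ^ n * x * (g ^ n)⁻¹ = x * y ^ n := by
      intro n
      induction n with
      | zero => simp
      | succ n ihn =>
        calc g ^ (n + 1) * x * (g ^ (n + 1))⁻¹ = g * (g ^ n * x * (g ^ n)⁻¹) * g⁻¹ := by
              rw [pow_succ']; group
          _ = g * (x * y ^ n) * g⁻¹ := by rw [ihn]
          _ = (g * x * g⁻¹) * (g * y * g⁻¹) ^ n := by rw [conj_pow]; group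
          _ = x * y ^ (n + 1) := by rw [hgy, ← hx₁, hx₁y, mul_assoc, ← pow_succ']
    have h6 := hpow m
    rw [hm] at h6
    have hym : y ^ m = 1 := by
      have h7 : x * 1 = x * y ^ m := by rw [← h6]; group
      exact (mul_left_cancel h7).symm
    have hy1 : y = 1 := by
      have h8 : orderOf y ∣ Nat.gcd m p :=
        Nat.dvd_gcd (orderOf_dvd_of_pow_eq_one hym) (orderOf_dvd_of_pow_eq_one hyp)
      rw [Nat.Coprime] at hmp
      rw [hmp, Nat.dvd_one] at h8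
      exact orderOf_eq_one_iff.1 h8
    rw [← hx₁, hx₁y, hy1, mul_one]

theorem omega_aut [Finite G] {p : ℕ} [hpF : Fact p.Prime] (hp2 : p ≠ 2) (B : Subgroup G)
    [hBn : B.Normal] (hB : IsPGroup p B)
    (hcl2 : ∀ x ∈ B, ∀ y ∈ B, ∀ z ∈ B, (x⁻¹ * y⁻¹ * x * y) * z = z * (x⁻¹ * y⁻¹ * x * y))
    (c : G) (hc : ∀ x ∈ B, x ^ p = 1 → c * x * c⁻¹ = x) :
    ∃ j : ℕ, ∀ x ∈ B, c ^ (p ^ j) * x * (c ^ (p ^ j))⁻¹ = x := by
  have hp : p.Prime := hpF.out
  have hodd : Odd p := hp.odd_of_ne_two hp2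
  obtain ⟨j, m, hm, hn⟩ := Nat.exists_eq_pow_mul_and_not_dvd (orderOf_pos c).ne' p hp.ne_one
  refine ⟨j, fun x hx => ?_⟩
  have hgm : (c ^ (p ^ j)) ^ m = 1 := by
    rw [← pow_mul, ← hn]; exact pow_orderOf_eq_one c
  have hmp : m.Coprime p := ((Nat.Prime.coprime_iff_not_dvd hp).2 hm).symm
  obtain ⟨k, hk⟩ := hB ⟨x, hx⟩
  have hk' : x ^ (p ^ k) = 1 := by
    have h0 := congrArg Subtype.val hk
    simpa using h0
  refine omega_aut_aux hodd B hcl2 (c ^ (p ^ j)) (fun w hw => hBn.conj_mem w hw _) m hgm hmp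
    ?_ k x hx hk'
  intro w hw hwp
  have h1 : c * w = w * c := mul_inv_eq_iff_eq_mul.1 (hc w hw hwp)
  have h2 : Commute (c ^ (p ^ j)) w := (show Commute c w from h1).pow_left _
  rw [h2.eq]; group

/-- Glauberman's ZJ-theorem for the full centre of the elementary-abelian Thompson subgroup. -/
theorem fullZ_normal [Finite G] {p : ℕ} [Fact p.Prime] (hp2 : p ≠ 2) (P : Sylow p G)
    (hc : Subgroup.centralizer ((Cfsg.pCore p G : Subgroup G) : Set G) ≤ Cfsg.pCore p G)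
    (hst : ∀ (V : Subgroup G) [V.Normal], IsPGroup p V → ∀ a ∈ (P : Subgroup G),
      ⁅⁅V, Subgroup.zpowers a⁆, Subgroup.zpowers a⁆ = ⊥ →
      (QuotientGroup.mk a : G ⧸ Subgroup.centralizer (V : Set G)) ∈
        Cfsg.pCore p (G ⧸ Subgroup.centralizer (V : Set G))) :
    (fullZ p (P : Subgroup G)).Normal := by
  classical
  have hpp : p.Prime := Fact.out
  have hodd : Odd p := hpp.odd_of_ne_two hp2
  have hQp : IsPGroup p (Cfsg.pCore p G) := Cfsg.Agent.Helper9.pCore_isPGroup p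
  have hQP : Cfsg.pCore p G ≤ (P : Subgroup G) :=
    Cfsg.Agent.Helper1.normal_pgroup_le_sylow _ hQp P
  have hPp : IsPGroup p (P : Subgroup G) := P.isPGroup'
  obtain ⟨Z, hZ⟩ : ∃ Z : Subgroup G, Z = fullZ p (P : Subgroup G) := ⟨_, rfl⟩
  have hPZ : (P : Subgroup G) ≤ Subgroup.normalizer (Z : Set G) := by
    rw [hZ]
    exact Cfsg.Agent.Helper1.le_normalizer_of_conj_mem _ _
      (fun a ha x hx => fullZ_conj_mem p _ a (Subgroup.le_normalizer ha) x hx)
  have hZJ : Z ≤ Cfsg.Agent.Helper1.JE p (P : Subgroup G) := by rw [hZ]; exact inf_le_left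
  have hZP : Z ≤ (P : Subgroup G) := hZJ.trans (Cfsg.Agent.Helper1.JE_le p _)
  have hZcJ : ∀ x ∈ Z, ∀ y ∈ Cfsg.Agent.Helper1.JE p (P : Subgroup G), y * x = x * y := by
    intro x hx y hy
    rw [hZ] at hx
    exact Subgroup.mem_centralizer_iff.1 (Subgroup.mem_inf.1 hx).2 y hy
  have hZc : ∀ x ∈ Z, ∀ y ∈ Z, x * y = y * x := fun x hx y hy => hZcJ y hy x (hZJ hx)
  have hZQ : Z ≤ Cfsg.pCore p G := by
    intro z hz
    have h1 := hst (Cfsg.pCore p G) hQp z (hZP hz)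
      (Cfsg.Agent.Helper1.quad_of_normalizes (Cfsg.pCore p G) Z hZc (hQP.trans hPZ) z hz)
    exact Cfsg.Agent.Helper1.comap_pcore_le
      (Subgroup.centralizer ((Cfsg.pCore p G : Subgroup G) : Set G))
      (hQp.to_le hc) (Subgroup.mem_comap.mpr h1)
  have main : ∀ n : ℕ, ∀ B : Subgroup G, B.Normal → IsPGroup p B → Nat.card B = n →
      (Z ⊓ B).Normal := by
    intro n
    induction n using Nat.strong_induction_on with
    | _ n IH =>
    intro B hBn hBp hBcard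
    by_contra hnot
    haveI := hBn
    have hBQ : B ≤ Cfsg.pCore p G := Cfsg.Agent.Helper9.le_pCore hBn hBp
    have hBP : B ≤ (P : Subgroup G) := hBQ.trans hQP
    have hLB : Subgroup.normalClosure ((Z ⊓ B : Subgroup G) : Set G) ≤ B :=
      Subgroup.normalClosure_le_normal (fun x hx => (Subgroup.mem_inf.mp hx).2)
    have hBcl : B ≤ Subgroup.normalClosure ((Z ⊓ B : Subgroup G) : Set G) := by
      by_contra hne
      have hlt : Nat.card ↥(Subgroup.normalClosure ((Z ⊓ B : Subgroup G) : Set G))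
          < Nat.card B := by
        by_contra h
        exact hne (le_of_eq (Subgroup.eq_of_le_of_card_ge hLB (not_lt.mp h)).symm)
      have h1 := IH _ (by rw [← hBcard]; exact hlt) _ inferInstance (hBp.to_le hLB) rfl
      have h2 : Z ⊓ Subgroup.normalClosure ((Z ⊓ B : Subgroup G) : Set G) = Z ⊓ B :=
        le_antisymm (inf_le_inf_left Z hLB) (le_inf inf_le_left Subgroup.le_normalClosure)
      rw [h2] at h1
      exact hnot h1
    have hBne : B ≠ ⊥ := by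
      intro h0
      apply hnot
      rw [h0, inf_bot_eq]
      infer_instance
    have hder_lt : ⁅B, B⁆ < B := Cfsg.Agent.Helper1.commutator_lt_of_pgroup B hBp hBne
    have hder_card : Nat.card ↥(⁅B, B⁆ : Subgroup G) < Nat.card B := by
      by_contra h
      exact hder_lt.ne (Subgroup.eq_of_le_of_card_ge hder_lt.le (not_lt.mp h))
    haveI hYn : (Z ⊓ ⁅B, B⁆).Normal :=
      IH _ (by rw [← hBcard]; exact hder_card) _ inferInstance (hBp.to_le hder_lt.le) rfl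
    have hderZ : ⁅B, B⁆ ≤ Z := by
      have h1 : ⁅B, B⁆ ≤ Z ⊓ ⁅B, B⁆ := by
        apply Cfsg.Agent.Helper1.commutator_le_of_normalClosure B (Z ⊓ ⁅B, B⁆)
          ((Z ⊓ B : Subgroup G) : Set G) _ hBcl
        intro s hs b hb
        obtain ⟨hsZ, hsB⟩ := Subgroup.mem_inf.mp hs
        refine Subgroup.mem_inf.mpr ⟨?_, ?_⟩
        · have h2 : s * b * s⁻¹ * b⁻¹ = s * (b * s⁻¹ * b⁻¹) := by group
          rw [h2]
          exact Z.mul_mem hsZ
            ((Subgroup.mem_normalizer_iff.mp (hPZ (hBP hb)) s⁻¹).mp (Z.inv_mem hsZ))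
        · have h2 : s * b * s⁻¹ * b⁻¹ = ⁅s, b⁆ := (commutatorElement_def s b).symm
          rw [h2]
          exact Subgroup.commutator_mem_commutator hsB hb
      exact h1.trans inf_le_left
    -- `B` has class at most two
    have hderc : ∀ c ∈ ⁅B, B⁆, ∀ b ∈ B, c * b = b * c := by
      have h1 : Subgroup.normalClosure ((Z ⊓ B : Subgroup G) : Set G)
          ≤ Subgroup.centralizer ((⁅B, B⁆ : Subgroup G) : Set G) := by
        apply Subgroup.normalClosure_le_normal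
        intro x hx
        show x ∈ Subgroup.centralizer ((⁅B, B⁆ : Subgroup G) : Set G)
        rw [Subgroup.mem_centralizer_iff]
        intro c hc'
        exact hZc c (hderZ hc') x (Subgroup.mem_inf.1 hx).1
      intro c hc' b hb
      exact Subgroup.mem_centralizer_iff.1 (h1 (hBcl hb)) c hc'
    have hcl2 : ∀ x ∈ B, ∀ y ∈ B, ∀ z ∈ B,
        (x⁻¹ * y⁻¹ * x * y) * z = z * (x⁻¹ * y⁻¹ * x * y) := by
      intro x hx y hy z hz
      have h1 : x⁻¹ * y⁻¹ * x * y ∈ ⁅B, B⁆ := by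
        have h2 : x⁻¹ * y⁻¹ * x * y = ⁅x⁻¹, y⁻¹⁆ := by rw [commutatorElement_def]; group
        rw [h2]
        exact Subgroup.commutator_mem_commutator (B.inv_mem hx) (B.inv_mem hy)
      exact hderc _ h1 z hz
    obtain ⟨B₁, hB₁⟩ : ∃ B₁ : Subgroup G,
        B₁ = Subgroup.normalClosure {x : G | x ∈ B ∧ x ^ p = 1} := ⟨_, rfl⟩
    haveI hB₁n : B₁.Normal := by rw [hB₁]; infer_instance
    have hB₁exp : ∀ x ∈ B₁, x ∈ B ∧ x ^ p = 1 := by
      rw [hB₁]; exact normalClosure_exp hodd B hcl2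
    have hB₁B : B₁ ≤ B := fun x hx => (hB₁exp x hx).1
    have hB₁mem : ∀ x ∈ B, x ^ p = 1 → x ∈ B₁ := by
      intro x hx hxp
      rw [hB₁]
      exact Subgroup.subset_normalClosure ⟨hx, hxp⟩
    have hB₁p : IsPGroup p B₁ := hBp.to_le hB₁B
    have hB₁P : B₁ ≤ (P : Subgroup G) := hB₁B.trans hBP
    have hB₁der : ∀ A ∈ Cfsg.Agent.Helper1.maxE p (P : Subgroup G), ⁅B₁, B₁⁆ ≤ A := by
      intro A hA c hc'
      have hcB : c ∈ ⁅B, B⁆ := Subgroup.commutator_mono hB₁B hB₁B hc'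
      have hcZ : c ∈ Z := hderZ hcB
      have hcB₁ : c ∈ B₁ := Subgroup.commutator_le_left B₁ B₁ hc'
      have hcp : c ^ p = 1 := (hB₁exp c hcB₁).2
      apply Cfsg.Agent.Helper1.ZE_le_of_mem hA
      unfold Cfsg.Agent.Helper1.ZE
      exact Subgroup.subset_closure ⟨hZJ hcZ, fun y hy => hZcJ c hcZ y hy, hcp⟩
    obtain ⟨T, hT⟩ : ∃ T : Subgroup G,
        T = (Cfsg.pCore p (G ⧸ Subgroup.centralizer (B : Set G))).comap
          (QuotientGroup.mk' (Subgroup.centralizer (B : Set G))) := ⟨_, rfl⟩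
    haveI hTn : T.Normal := by rw [hT]; infer_instance
    have hC₁T : ∀ t : G, (QuotientGroup.mk t : G ⧸ Subgroup.centralizer (B₁ : Set G)) ∈
        Cfsg.pCore p (G ⧸ Subgroup.centralizer (B₁ : Set G)) → t ∈ T := by
      obtain ⟨T₁, hT₁⟩ : ∃ T₁ : Subgroup G,
          T₁ = (Cfsg.pCore p (G ⧸ Subgroup.centralizer (B₁ : Set G))).comap
            (QuotientGroup.mk' (Subgroup.centralizer (B₁ : Set G))) := ⟨_, rfl⟩
      haveI hT₁n : T₁.Normal := by rw [hT₁]; infer_instance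
      have hpow : ∀ t ∈ T₁, ∃ k : ℕ, t ^ (p ^ k) ∈ Subgroup.centralizer (B : Set G) := by
        intro t ht
        rw [hT₁, Subgroup.mem_comap] at ht
        obtain ⟨k, hk⟩ := (Cfsg.Agent.Helper9.pCore_isPGroup
          (G := G ⧸ Subgroup.centralizer (B₁ : Set G)) p) ⟨_, ht⟩
        have hk' : (QuotientGroup.mk' (Subgroup.centralizer (B₁ : Set G)) t) ^ (p ^ k) = 1 := by
          have h0 := congrArg Subtype.val hk
          simpa using h0
        have h2 : t ^ (p ^ k) ∈ Subgroup.centralizer (B₁ : Set G) := by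
          apply Cfsg.Agent.Helper1.mk'_eq_one_iff'.mp
          rw [map_pow]; exact hk'
        have h5 : ∀ x ∈ B, x ^ p = 1 → t ^ (p ^ k) * x * (t ^ (p ^ k))⁻¹ = x := by
          intro x hx hxp
          have hxB₁ : x ∈ B₁ := hB₁mem x hx hxp
          have h4 := Subgroup.mem_centralizer_iff.1 h2 x hxB₁
          rw [← h4]; group
        obtain ⟨j, hj⟩ := omega_aut hp2 B hBp hcl2 (t ^ (p ^ k)) h5
        refine ⟨k + j, ?_⟩
        rw [Subgroup.mem_centralizer_iff]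
        intro x hx
        have h3 := hj x hx
        rw [pow_add, pow_mul]
        exact (mul_inv_eq_iff_eq_mul.1 h3).symm
      have himg : IsPGroup p (T₁.map (QuotientGroup.mk' (Subgroup.centralizer (B : Set G)))) := by
        rintro ⟨_, t, ht, rfl⟩
        obtain ⟨k, hk⟩ := hpow t ht
        refine ⟨k, Subtype.ext ?_⟩
        show (QuotientGroup.mk' (Subgroup.centralizer (B : Set G)) t) ^ (p ^ k) = 1
        rw [← map_pow]
        exact Cfsg.Agent.Helper1.mk'_eq_one_iff'.mpr hk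
      have himgn : (T₁.map (QuotientGroup.mk' (Subgroup.centralizer (B : Set G)))).Normal :=
        Subgroup.Normal.map hT₁n _ (QuotientGroup.mk'_surjective _)
      intro t ht
      rw [hT, Subgroup.mem_comap]
      exact Cfsg.Agent.Helper9.le_pCore himgn himg
        (Subgroup.mem_map_of_mem _ (by rw [hT₁]; exact ht))
    have hquad : ∀ X : Subgroup G, X ≤ (P : Subgroup G) →
        (∀ x ∈ X, ∀ y ∈ X, x * y = y * x) →
        B₁ ≤ Subgroup.normalizer (X : Set G) → X ≤ T := by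
      intro X hXP hX hBX x hx
      exact hC₁T x (hst B₁ hB₁p x (hXP hx)
        (Cfsg.Agent.Helper1.quad_of_normalizes B₁ X hX hBX x hx))
    have hZT : Z ≤ T := by
      intro z hz
      rw [hT]
      exact Subgroup.mem_comap.mpr (hst B hBp z (hZP hz)
        (Cfsg.Agent.Helper1.quad_of_normalizes B Z hZc (hBP.trans hPZ) z hz))
    obtain ⟨A₀, hA₀⟩ := Cfsg.Agent.Helper1.maxE_nonempty p (P : Subgroup G)
    obtain ⟨A, hA, hAmax⟩ := Set.exists_max_image (Cfsg.Agent.Helper1.maxE p (P : Subgroup G))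
      (fun A => Nat.card ↥(A ⊓ B₁)) (Set.toFinite _) ⟨A₀, hA₀⟩
    have hBNA : B₁ ≤ Subgroup.normalizer (A : Set G) := by
      by_contra h
      obtain ⟨A', hA', hlt, -⟩ := Cfsg.Agent.Helper1.replacement hp2 (Or.inr hodd)
        (P : Subgroup G) B₁ A hPp hB₁P hA (hB₁der A hA) h
      exact absurd (hAmax A' hA') (not_le.mpr hlt)
    have hAT : A ≤ T := hquad A hA.1 hA.2.1.1 hBNA
    obtain ⟨D₁, hD₁⟩ : ∃ D₁ : Subgroup G, D₁ = (P : Subgroup G) ⊓ T := ⟨_, rfl⟩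
    have hD₁D : D₁ ≤ (P : Subgroup G) := by rw [hD₁]; exact inf_le_left
    have hAD₁ : A ≤ D₁ := by rw [hD₁]; exact le_inf hA.1 hAT
    have hfr : ∀ g : G, ∃ n ∈ Subgroup.normalizer ((D₁ : Subgroup G) : Set G),
        ∃ c ∈ Subgroup.centralizer (B : Set G), g = n * c := by
      intro g
      obtain ⟨n, hn, c, hc', hg⟩ :=
        Cfsg.Agent.Helper1.frattini_central P (Subgroup.centralizer (B : Set G)) g
      rw [← hT, ← hD₁] at hn
      exact ⟨n, hn, c, hc', hg⟩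
    have hJ₁ : Cfsg.Agent.Helper1.JE p D₁ ≤ Cfsg.Agent.Helper1.JE p (P : Subgroup G) := by
      unfold Cfsg.Agent.Helper1.JE
      exact sSup_le_sSup
        (fun A' hA' => ((Cfsg.Agent.Helper1.maxE_sub_iff hD₁D hA hAD₁ A').mp hA').1)
    obtain ⟨W, hW⟩ : ∃ W : Subgroup G, W = D₁ ⊓
        Subgroup.centralizer ((Cfsg.Agent.Helper1.JE p D₁ : Subgroup G) : Set G) := ⟨_, rfl⟩
    haveI hWn : (W ⊓ B).Normal := by
      refine ⟨fun x hx g => ?_⟩
      obtain ⟨hx1, hx2⟩ := Subgroup.mem_inf.mp hx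
      obtain ⟨n, hn, c, hc', rfl⟩ := hfr g
      have h1 : c * x * c⁻¹ = x := by
        have h2 := Subgroup.mem_centralizer_iff.mp hc' x hx2
        rw [← h2]; group
      have h3 : n * c * x * (n * c)⁻¹ = n * (c * x * c⁻¹) * n⁻¹ := by group
      rw [h3, h1]
      refine Subgroup.mem_inf.mpr ⟨?_, hBn.conj_mem x hx2 n⟩
      rw [hW] at hx1 ⊢
      exact centJ_conj_mem p D₁ n hn x hx1
    have hZW : Z ≤ W := by
      intro z hz
      rw [hW]
      refine Subgroup.mem_inf.2 ⟨?_, ?_⟩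
      · rw [hD₁]; exact Subgroup.mem_inf.2 ⟨hZP hz, hZT hz⟩
      · rw [Subgroup.mem_centralizer_iff]
        intro y hy
        exact hZcJ z hz y (hJ₁ hy)
    have hBW : B ≤ W := by
      have h1 : Subgroup.normalClosure ((Z ⊓ B : Subgroup G) : Set G) ≤ W ⊓ B :=
        Subgroup.normalClosure_le_normal (fun x hx => Subgroup.mem_inf.mpr
          ⟨hZW (Subgroup.mem_inf.mp hx).1, (Subgroup.mem_inf.mp hx).2⟩)
      exact (hBcl.trans h1).trans inf_le_left
    have hB₁A : ∀ A₃ ∈ Cfsg.Agent.Helper1.maxE p D₁, B₁ ≤ A₃ := by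
      intro A₃ hA₃ x hx
      obtain ⟨hxB, hxp⟩ := hB₁exp x hx
      have hxW := hBW hxB
      rw [hW] at hxW
      obtain ⟨hxD₁, hxC⟩ := Subgroup.mem_inf.1 hxW
      have h1 : Cfsg.Agent.Helper1.IsEAb p (A₃ ⊔ Subgroup.zpowers x) :=
        Cfsg.Agent.Helper1.isEAb_sup_zpowers hA₃.2.1 x
          (fun a ha => Subgroup.mem_centralizer_iff.1 hxC a (Cfsg.Agent.Helper1.le_JE hA₃ ha)) hxp
      have h2 : A₃ ⊔ Subgroup.zpowers x ≤ D₁ :=
        sup_le hA₃.1 (by rw [Subgroup.zpowers_le]; exact hxD₁)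
      have h3 := hA₃.2.2 _ h2 h1
      have h4 : A₃ = A₃ ⊔ Subgroup.zpowers x := Subgroup.eq_of_le_of_card_ge le_sup_left h3
      rw [h4]
      exact Subgroup.mem_sup_right (Subgroup.mem_zpowers x)
    have hall : ∀ A' ∈ Cfsg.Agent.Helper1.maxE p (P : Subgroup G), A' ≤ D₁ := by
      by_contra hcon
      have hne : {A' : Subgroup G | A' ∈ Cfsg.Agent.Helper1.maxE p (P : Subgroup G) ∧
          ¬ A' ≤ D₁}.Nonempty := by
        by_contra hemp
        apply hcon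
        intro A' hA'
        by_contra h
        exact hemp ⟨A', hA', h⟩
      obtain ⟨A₂, hA₂, hA₂max⟩ := Set.exists_max_image
        {A' : Subgroup G | A' ∈ Cfsg.Agent.Helper1.maxE p (P : Subgroup G) ∧ ¬ A' ≤ D₁}
        (fun A => Nat.card ↥(A ⊓ B₁)) (Set.toFinite _) hne
      have hnN : ¬ B₁ ≤ Subgroup.normalizer (A₂ : Set G) := by
        intro hN
        apply hA₂.2
        rw [hD₁]
        exact le_inf hA₂.1.1 (hquad A₂ hA₂.1.1 hA₂.1.2.1.1 hN)
      obtain ⟨A₃, hA₃, hlt, hA₃N⟩ := Cfsg.Agent.Helper1.replacement hp2 (Or.inr hodd)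
        (P : Subgroup G) B₁ A₂ hPp hB₁P hA₂.1 (hB₁der A₂ hA₂.1) hnN
      have hA₃D₁ : A₃ ≤ D₁ := by
        by_contra h
        exact absurd (hA₂max A₃ ⟨hA₃, h⟩) (not_le.mpr hlt)
      have hA₃' : A₃ ∈ Cfsg.Agent.Helper1.maxE p D₁ :=
        (Cfsg.Agent.Helper1.maxE_sub_iff hD₁D hA hAD₁ A₃).mpr ⟨hA₃, hA₃D₁⟩
      exact hnN ((hB₁A A₃ hA₃').trans hA₃N)
    have hmax : Cfsg.Agent.Helper1.maxE p D₁ = Cfsg.Agent.Helper1.maxE p (P : Subgroup G) := by
      ext A'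
      rw [Cfsg.Agent.Helper1.maxE_sub_iff hD₁D hA hAD₁ A']
      exact ⟨fun h => h.1, fun h => ⟨h, hall A' h⟩⟩
    have hZeq : fullZ p D₁ = Z := by
      rw [hZ]
      unfold fullZ Cfsg.Agent.Helper1.JE
      rw [hmax]
    apply hnot
    refine ⟨fun x hx g => ?_⟩
    obtain ⟨hx1, hx2⟩ := Subgroup.mem_inf.mp hx
    obtain ⟨n, hn, c, hc', rfl⟩ := hfr g
    have h1 : c * x * c⁻¹ = x := by
      have h2 := Subgroup.mem_centralizer_iff.mp hc' x hx2
      rw [← h2]; group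
    have h3 : n * c * x * (n * c)⁻¹ = n * (c * x * c⁻¹) * n⁻¹ := by group
    rw [h3, h1]
    refine Subgroup.mem_inf.mpr ⟨?_, hBn.conj_mem x hx2 n⟩
    rw [← hZeq] at hx1 ⊢
    exact fullZ_conj_mem p D₁ n hn x hx1
  have hfin := main _ (Cfsg.pCore p G) inferInstance hQp rfl
  rw [inf_of_le_left hZQ, hZ] at hfin
  exact hfin

theorem JE_map_of_injOn {G' : Type*} [Group G'] (e : ℕ) (π : G →* G') (D : Subgroup G)
    (hinj : ∀ x ∈ D, π x = 1 → x = 1) :
    Cfsg.Agent.Helper1.JE e (D.map π) = (Cfsg.Agent.Helper1.JE e D).map π := by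
  have hbij : Function.Bijective (π.subgroupMap D) := by
    refine ⟨?_, π.subgroupMap_surjective D⟩
    rw [injective_iff_map_eq_one]
    intro x hx
    apply Subtype.ext
    have h1 : π (x : G) = 1 := congrArg Subtype.val hx
    exact hinj x x.2 h1
  obtain ⟨φ, hφ⟩ : ∃ φ : ↥D ≃* ↥(D.map π), φ = MulEquiv.ofBijective (π.subgroupMap D) hbij :=
    ⟨_, rfl⟩
  have hcomp : (D.map π).subtype.comp φ.toMonoidHom = π.comp D.subtype := by
    rw [hφ]; ext x; rfl
  have h1 := Cfsg.Agent.Helper1.JE_map e φ (⊤ : Subgroup ↥D)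
  rw [Subgroup.map_top_of_surjective _ φ.surjective] at h1
  rw [← Cfsg.Agent.Helper1.JE_subtype e (D.map π), ← h1, Subgroup.map_map, hcomp,
    ← Subgroup.map_map, Cfsg.Agent.Helper1.JE_subtype]

theorem fullZ_map_of_injOn {G' : Type*} [Group G'] (e : ℕ) (π : G →* G') (D : Subgroup G)
    (hinj : ∀ x ∈ D, π x = 1 → x = 1) :
    fullZ e (D.map π) = (fullZ e D).map π := by
  unfold fullZ
  rw [JE_map_of_injOn e π D hinj]
  obtain ⟨J, hJ⟩ : ∃ J : Subgroup G, J = Cfsg.Agent.Helper1.JE e D := ⟨_, rfl⟩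
  rw [← hJ]
  have hJD : J ≤ D := by rw [hJ]; exact Cfsg.Agent.Helper1.JE_le e D
  ext y
  constructor
  · intro hy
    obtain ⟨hy1, hy2⟩ := Subgroup.mem_inf.1 hy
    obtain ⟨x, hx, rfl⟩ := hy1
    refine ⟨x, Subgroup.mem_inf.2 ⟨hx, ?_⟩, rfl⟩
    rw [Subgroup.mem_centralizer_iff]
    intro j hj
    have h1 := Subgroup.mem_centralizer_iff.1 hy2 (π j) (Subgroup.mem_map_of_mem π hj)
    have h2 : π (j * x * (x * j)⁻¹) = 1 := by
      rw [map_mul, map_inv, map_mul, map_mul, h1, mul_inv_cancel]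
    have h3 := hinj _ (D.mul_mem (D.mul_mem (hJD hj) (hJD hx))
      (D.inv_mem (D.mul_mem (hJD hx) (hJD hj)))) h2
    exact mul_inv_eq_one.1 h3
  · rintro ⟨x, hx, rfl⟩
    obtain ⟨hx1, hx2⟩ := Subgroup.mem_inf.1 hx
    refine Subgroup.mem_inf.2 ⟨Subgroup.mem_map_of_mem π hx1, ?_⟩
    rw [Subgroup.mem_centralizer_iff]
    rintro _ ⟨j, hj, rfl⟩
    rw [← map_mul, ← map_mul, Subgroup.mem_centralizer_iff.1 hx2 j hj]

theorem centerThompsonOf_eq_fullZ {G₀ : Type*} [Group G₀] (p : ℕ) (D : Subgroup G₀) :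
    Cfsg.centerThompsonOf p D = fullZ p D := by
  unfold Cfsg.centerThompsonOf fullZ
  rw [Cfsg.Agent.Helper1.thompsonOf_eq]

end FullZJ

end Cfsg.Agent.Helper10
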