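import Mathlib
import Cfsg.Agent.Helper10.FullZJ
import Cfsg.Agent.Helper1.ZJNpc

set_option autoImplicit false

namespace Cfsg.Agent.Helper10

universe u

open Cfsg

/-- The functor `Q ↦ Z(J_e(Q))` (full centre). -/
def WF (e : ℕ) (Q : Type u) [Group Q] : Subgroup Q := fullZ e (⊤ : Subgroup Q)

theorem ZE_le_fullZ {Q : Type*} [Group Q] (e : ℕ) (D : Subgroup Q) :
    Cfsg.Agent.Helper1.ZE e D ≤ fullZ e D := by
  unfold Cfsg.Agent.Helper1.ZE fullZ
  rw [Subgroup.closure_le]
  rintro x ⟨hxJ, hxc, -⟩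
  exact Subgroup.mem_inf.2 ⟨hxJ, Subgroup.mem_centralizer_iff.2 (fun y hy => hxc y hy)⟩

theorem inducedFunctor_WF {G : Type u} [Group G] (e : ℕ) (R : Subgroup G) :
    Cfsg.inducedFunctor (WF e) R = fullZ e R := by
  show (fullZ e (⊤ : Subgroup ↥R)).map R.subtype = fullZ e R
  rw [← fullZ_map_of_injOn e R.subtype ⊤ (fun x _ hx => Subtype.ext hx)]
  congr 1
  rw [← MonoidHom.range_eq_map, Subgroup.range_subtype]

theorem WF_char (p : ℕ) [Fact p.Prime] : Cfsg.IsCharPFunctor.{u} p (WF p) := by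
  refine ⟨fun Q _ _ hQ hnt => ?_, fun Q R _ _ _ _ φ => ?_⟩
  · have h1 := Cfsg.Agent.Helper1.WZ_ne_bot (p := p) (e := p) (Or.inr rfl) Q hQ hnt
    intro h
    apply h1
    rw [eq_bot_iff, ← h]
    exact ZE_le_fullZ p ⊤
  · show (fullZ p (⊤ : Subgroup Q)).map φ.toMonoidHom = fullZ p (⊤ : Subgroup R)
    rw [← fullZ_map_of_injOn p φ.toMonoidHom ⊤
      (fun x _ hx => φ.injective (hx.trans (map_one φ).symm)),
      Subgroup.map_top_of_surjective _ φ.surjective]

/-- The Glauberman–Thompson normal `p`-complement criterion for the full centre of the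
elementary-abelian Thompson subgroup. -/
theorem npc_of_fullZ {p : ℕ} [Fact p.Prime] (hp2 : p ≠ 2) {G : Type u} [Group G] [Finite G]
    (P : Sylow p G)
    (h : HasNormalPComplement p
      (Subgroup.normalizer ((fullZ p (P : Subgroup G) : Subgroup G) : Set G))) :
    HasNormalPComplement p G := by
  have hW : Cfsg.IsCharPFunctor.{u} p (WF p) := WF_char p
  refine Cfsg.Agent.Helper1.gen_npc p (Cfsg.Agent.Helper1.funLoc_npcLoc (WF p) hW)
    (Good := fun _ _ => True)
    (fun _ _ _ _ _ => trivial) (fun _ _ _ _ _ _ => trivial) ?_ (Nat.card G) G rfl trivial P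
    (by unfold Cfsg.Agent.Helper1.FunLoc; rw [inducedFunctor_WF]; exact h)
  intro G' _ _ _ hG' P' hP' H _ hH hD2 hCH Mb _ hMb j₀ hj₀ h5a habel
  apply hG'
  have hstr : Cfsg.Agent.Helper1.PStr p G' := by
    refine ⟨H, Mb.comap (QuotientGroup.mk' H), inferInstance, inferInstance, hH, habel,
      ⟨Nat.card Mb, hMb, fun a ha => Cfsg.Agent.Helper1.comap_pow_card_mem H Mb a ha⟩, j₀,
      fun z => ?_⟩
    rw [Subgroup.mem_comap, map_pow]; exact hj₀ _
  have hHeq : H = Cfsg.pCore p G' :=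
    le_antisymm (Cfsg.Agent.Helper9.le_pCore inferInstance hH)
      (hD2 _ inferInstance (Cfsg.Agent.Helper9.pCore_isPGroup p))
  have hcen : Subgroup.centralizer ((Cfsg.pCore p G' : Subgroup G') : Set G')
      ≤ Cfsg.pCore p G' := by
    rw [← hHeq]; exact hCH
  have hst := Cfsg.Agent.Helper1.normalizerPStable_of_pStr hp2 hstr
  have hn : (fullZ p (P' : Subgroup G')).Normal := by
    refine fullZ_normal hp2 P' hcen ?_
    intro V hVn hV a _ hq
    have ha : a ∈ Subgroup.normalizer (V : Set G') := by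
      rw [Subgroup.normalizer_eq_top_iff.mpr hVn]; exact Subgroup.mem_top a
    exact Cfsg.Agent.Helper1.pstable_of_normalizer V a ha (hst V hV a ha hq)
  unfold Cfsg.Agent.Helper1.FunLoc at hP'
  rw [inducedFunctor_WF] at hP'
  exact Cfsg.Agent.Helper1.npc_of_eq_top _ (Subgroup.normalizer_eq_top_iff.mpr hn) hP'

end Cfsg.Agent.Helper10
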