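import Mathlib

set_option autoImplicit false

open Matrix

namespace Cfsg.Agent.Helper10

/-- an alternating matrix (skew with zero diagonal) gives `v ⬝ S v = 0`, in every characteristic -/
theorem ja_dot_self {F : Type*} [Field F] {n : ℕ} (S : Matrix (Fin n) (Fin n) F) (hS : Sᵀ = -S)
    (hdiag : ∀ i, S i i = 0) (v : Fin n → F) : v ⬝ᵥ (S *ᵥ v) = 0 := by
  have hS' : ∀ i j, S j i = - S i j := by
    intro i j
    have h := congrFun (congrFun hS i) j
    simpa [Matrix.transpose_apply] using h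
  have h1 : v ⬝ᵥ (S *ᵥ v) = ∑ p : Fin n × Fin n, v p.1 * (S p.1 p.2 * v p.2) := by
    rw [← Finset.univ_product_univ, Finset.sum_product]
    simp only [dotProduct, Matrix.mulVec, Finset.mul_sum]
  rw [h1]
  refine Finset.sum_involution (fun p _ => (p.2, p.1)) ?_ ?_ (fun p _ => Finset.mem_univ _)
    (fun p _ => rfl)
  · intro p _
    show v p.1 * (S p.1 p.2 * v p.2) + v p.2 * (S p.2 p.1 * v p.1) = 0
    rw [hS' p.1 p.2]
    ring
  · intro p _ hne heq
    apply hne
    have h12 : p.2 = p.1 := congrArg Prod.fst heq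
    rw [h12, hdiag]
    ring

/-- an alternating matrix of odd size is singular, in every characteristic -/
theorem ja_det_odd {F : Type*} [Field F] {r : ℕ} (hr : Odd r) (G : Matrix (Fin r) (Fin r) F)
    (hG : Gᵀ = -G) (hdiag : ∀ i, G i i = 0) : G.det = 0 := by
  classical
  have hG' : ∀ i j, G j i = - G i j := by
    intro i j
    have h := congrFun (congrFun hG i) j
    simpa [Matrix.transpose_apply] using h
  rw [Matrix.det_apply]
  refine Finset.sum_involution (fun σ _ => σ⁻¹) ?_ ?_ (fun σ _ => Finset.mem_univ _)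
    (fun σ _ => inv_inv σ)
  · intro σ _
    have hprod : ∏ i, G (σ⁻¹ i) i = ∏ i, G i (σ i) := by
      rw [← Equiv.prod_comp σ (fun i => G (σ⁻¹ i) i)]
      simp
    have hprod2 : ∏ i, G i (σ i) = (-1) ^ r * ∏ i, G (σ i) i := by
      have hterm : ∀ i, G i (σ i) = (-1) * G (σ i) i := by
        intro i
        rw [hG' (σ i) i]
        ring
      rw [Finset.prod_congr rfl (fun i _ => hterm i), Finset.prod_mul_distrib, Finset.prod_const,
        Finset.card_univ, Fintype.card_fin]
    rw [Equiv.Perm.sign_inv, hprod, hprod2, hr.neg_one_pow]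
    simp
  · intro σ _ hne heq
    apply hne
    have hsq : σ ^ 2 = 1 := by
      have h' : σ * σ = 1 := by
        have h'' : σ⁻¹ * σ = 1 := inv_mul_cancel σ
        rwa [heq] at h''
      rw [pow_two]; exact h'
    have h2 : 2 ∣ σ.support.card := Equiv.Perm.two_dvd_card_support hsq
    have hex : ∃ i, σ i = i := by
      by_contra hcon
      have hsupp : σ.support = Finset.univ := by
        ext i
        simp only [Equiv.Perm.mem_support, Finset.mem_univ, iff_true]
        intro hi
        exact hcon ⟨i, hi⟩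
      rw [hsupp, Finset.card_univ, Fintype.card_fin] at h2
      exact (Nat.not_even_iff_odd.mpr hr) (even_iff_two_dvd.mpr h2)
    obtain ⟨i, hi⟩ := hex
    have hz : ∏ j, G (σ j) j = 0 :=
      Finset.prod_eq_zero (Finset.mem_univ i) (by rw [hi, hdiag])
    rw [hz, smul_zero]

/-- An alternating matrix (`Sᵀ = -S` with zero diagonal) over any field has even rank. -/
theorem rank_even_of_alt {F : Type*} [Field F] {n : ℕ}
    (S : Matrix (Fin n) (Fin n) F) (hS : Sᵀ = -S) (hdiag : ∀ i, S i i = 0) : Even S.rank := by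
  classical
  obtain ⟨W, hW⟩ := Submodule.exists_isCompl (LinearMap.ker S.mulVecLin)
  have hrank : Module.finrank F W = S.rank := by
    have h1 := LinearMap.finrank_range_add_finrank_ker S.mulVecLin
    have h2' := Submodule.finrank_add_eq_of_isCompl hW
    have h3 : S.rank = Module.finrank F (LinearMap.range S.mulVecLin) := rfl
    omega
  obtain ⟨r, hr⟩ : ∃ r, r = S.rank := ⟨_, rfl⟩
  rw [← hr]
  rw [← hr] at hrank
  obtain ⟨g, hg_inj, hg_mem, hg_surj⟩ : ∃ g : (Fin r → F) →ₗ[F] (Fin n → F),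
      Function.Injective g ∧ (∀ x, g x ∈ W) ∧ ∀ u ∈ W, ∃ y, g y = u := by
    refine ⟨W.subtype ∘ₗ (Module.finBasisOfFinrankEq F W hrank).equivFun.symm.toLinearMap,
      ?_, ?_, ?_⟩
    · intro x y hxy
      have h' : (((Module.finBasisOfFinrankEq F W hrank).equivFun.symm x : W) : Fin n → F)
          = (((Module.finBasisOfFinrankEq F W hrank).equivFun.symm y : W) : Fin n → F) := hxy
      exact (Module.finBasisOfFinrankEq F W hrank).equivFun.symm.injective (Subtype.ext h')
    · intro x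
      exact ((Module.finBasisOfFinrankEq F W hrank).equivFun.symm x).2
    · intro u hu
      refine ⟨(Module.finBasisOfFinrankEq F W hrank).equivFun ⟨u, hu⟩, ?_⟩
      show (((Module.finBasisOfFinrankEq F W hrank).equivFun.symm
        ((Module.finBasisOfFinrankEq F W hrank).equivFun ⟨u, hu⟩) : W) : Fin n → F) = u
      rw [LinearEquiv.symm_apply_apply]
  obtain ⟨Gm, hG⟩ : ∃ Gm : Matrix (Fin n) (Fin r) F, ∀ x, Gm *ᵥ x = g x :=
    ⟨LinearMap.toMatrix' g, fun x => by rw [← Matrix.toLin'_apply, Matrix.toLin'_toMatrix']⟩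
  have hskew : (Gmᵀ * S * Gm)ᵀ = -(Gmᵀ * S * Gm) := by
    rw [Matrix.transpose_mul, Matrix.transpose_mul, Matrix.transpose_transpose, hS,
      Matrix.neg_mul, Matrix.mul_neg, Matrix.mul_assoc]
  have hGdiag : ∀ i, (Gmᵀ * S * Gm) i i = 0 := by
    intro i
    have h := ja_dot_self S hS hdiag (fun a => Gm a i)
    have e : (Gmᵀ * S * Gm) i i = (fun a => Gm a i) ⬝ᵥ (S *ᵥ (fun a => Gm a i)) := by
      rw [Matrix.mul_assoc]
      simp only [Matrix.mul_apply, Matrix.transpose_apply, dotProduct, Matrix.mulVec]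
    rw [e, h]
  have hdet : (Gmᵀ * S * Gm).det ≠ 0 := by
    intro h0
    obtain ⟨x, hx0, hx⟩ := Matrix.exists_mulVec_eq_zero_iff.mpr h0
    have hw0 : g x ≠ 0 := by
      intro h
      apply hx0
      apply hg_inj
      rw [h, map_zero]
    have h1 : Gmᵀ *ᵥ (S *ᵥ (g x)) = 0 := by
      have e : (Gmᵀ * S * Gm) *ᵥ x = Gmᵀ *ᵥ (S *ᵥ (Gm *ᵥ x)) := by
        rw [← Matrix.mulVec_mulVec, ← Matrix.mulVec_mulVec]
      rw [← hG x, ← e]
      exact hx
    have hWz : ∀ u ∈ W, u ⬝ᵥ (S *ᵥ (g x)) = 0 := by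
      intro u hu
      obtain ⟨y, rfl⟩ := hg_surj u hu
      rw [← hG y, dotProduct_comm, Matrix.dotProduct_mulVec, ← Matrix.mulVec_transpose, h1,
        zero_dotProduct]
    have hker : ∀ u ∈ LinearMap.ker S.mulVecLin, u ⬝ᵥ (S *ᵥ (g x)) = 0 := by
      intro u hu
      have hSu : S *ᵥ u = 0 := by
        have h := LinearMap.mem_ker.mp hu
        rwa [Matrix.mulVecLin_apply] at h
      rw [Matrix.dotProduct_mulVec, ← Matrix.mulVec_transpose, hS, Matrix.neg_mulVec, hSu,
        neg_zero, zero_dotProduct]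
    have hall : ∀ v : Fin n → F, v ⬝ᵥ (S *ᵥ (g x)) = 0 := by
      intro v
      have hv : v ∈ LinearMap.ker S.mulVecLin ⊔ W := by
        rw [hW.sup_eq_top]; exact Submodule.mem_top
      obtain ⟨u₁, hu₁, u₂, hu₂, rfl⟩ := Submodule.mem_sup.mp hv
      rw [add_dotProduct, hker u₁ hu₁, hWz u₂ hu₂, add_zero]
    have hSw : S *ᵥ (g x) = 0 := by
      funext i
      have h := hall (Pi.single i 1)
      simpa using h
    have hmemker : g x ∈ LinearMap.ker S.mulVecLin := by
      rw [LinearMap.mem_ker, Matrix.mulVecLin_apply]; exact hSw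
    exact hw0 (Submodule.disjoint_def.mp hW.disjoint (g x) hmemker (hg_mem x))
  by_contra hodd
  rw [Nat.not_even_iff_odd] at hodd
  exact hdet (ja_det_odd hodd _ hskew hGdiag)

end Cfsg.Agent.Helper10
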