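import Mathlib
import Cfsg.Agent.Helper10.JordOrth

set_option autoImplicit false

namespace Cfsg.Agent.Helper10

open Matrix

theorem js_combine {F : Type*} [Field F] {κ₁ κ₂ : Type} [Fintype κ₁] [DecidableEq κ₁]
    [Fintype κ₂] [DecidableEq κ₂]
    (A₁ M₁ : Matrix κ₁ κ₁ F) (A₂ M₂ : Matrix κ₂ κ₂ F)
    (h1s : ∀ v, v ⬝ᵥ M₁ *ᵥ v = 0) (h1d : M₁.det ≠ 0) (h1a : A₁ᵀ * M₁ * A₁ = M₁)
    (h2s : ∀ v, v ⬝ᵥ M₂ *ᵥ v = 0) (h2d : M₂.det ≠ 0) (h2a : A₂ᵀ * M₂ * A₂ = M₂) :
    (∀ v, v ⬝ᵥ (Matrix.fromBlocks M₁ 0 0 M₂) *ᵥ v = 0) ∧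
    (Matrix.fromBlocks M₁ 0 0 M₂).det ≠ 0 ∧
    (Matrix.fromBlocks A₁ 0 0 A₂)ᵀ * Matrix.fromBlocks M₁ 0 0 M₂ * Matrix.fromBlocks A₁ 0 0 A₂ =
      Matrix.fromBlocks M₁ 0 0 M₂ ∧
    ∀ k, ((Matrix.fromBlocks A₁ 0 0 A₂ - 1) ^ k).rank =
      ((A₁ - 1) ^ k).rank + ((A₂ - 1) ^ k).rank := by
  refine ⟨?_, ?_, ?_, ?_⟩
  · intro v
    have h : v ⬝ᵥ (Matrix.fromBlocks M₁ 0 0 M₂ *ᵥ v) =
        (v ∘ Sum.inl) ⬝ᵥ (M₁ *ᵥ (v ∘ Sum.inl)) + (v ∘ Sum.inr) ⬝ᵥ (M₂ *ᵥ (v ∘ Sum.inr)) := by
      rw [Matrix.fromBlocks_mulVec]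
      simp [dotProduct, Fintype.sum_sum_type]
    rw [h, h1s, h2s, add_zero]
  · rw [Matrix.det_fromBlocks_zero₂₁]; exact mul_ne_zero h1d h2d
  · rw [Matrix.fromBlocks_transpose, Matrix.transpose_zero, Matrix.transpose_zero,
      Matrix.fromBlocks_multiply, Matrix.fromBlocks_multiply]
    simp [h1a, h2a]
  · intro k
    have hsub : Matrix.fromBlocks A₁ 0 0 A₂ - 1 = Matrix.fromBlocks (A₁ - 1) 0 0 (A₂ - 1) := by
      ext (i | i) (j | j) <;> simp [Matrix.sub_apply, Matrix.one_apply]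
    rw [hsub, Matrix.fromBlocks_diagonal_pow, jo_rank_fromBlocks]

theorem exists_of_blocks_alt {F : Type*} [Field F] (s : Multiset ℕ)
    (hpar : ∀ j, Odd j → Even (s.count j))
    (heven : ∀ m, ∃ A M : Matrix (Fin m ⊕ Fin m) (Fin m ⊕ Fin m) F,
      (∀ v, v ⬝ᵥ M *ᵥ v = 0) ∧ M.det ≠ 0 ∧ Aᵀ * M * A = M ∧
      ∀ k, ((A - 1) ^ k).rank = 2 * m - k)
    (hpair : ∀ d, ∃ A M : Matrix (Fin d ⊕ Fin d) (Fin d ⊕ Fin d) F,
      (∀ v, v ⬝ᵥ M *ᵥ v = 0) ∧ M.det ≠ 0 ∧ Aᵀ * M * A = M ∧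
      ∀ k, ((A - 1) ^ k).rank = (d - k) + (d - k)) :
    ∃ (κ : Type) (_ : Fintype κ) (_ : DecidableEq κ) (A M : Matrix κ κ F),
      (∀ v, v ⬝ᵥ M *ᵥ v = 0) ∧ M.det ≠ 0 ∧ Aᵀ * M * A = M ∧ Fintype.card κ = s.sum ∧
      ∀ k, ((A - 1) ^ k).rank = (s.map (fun a => a - k)).sum := by
  obtain ⟨N, hN⟩ : ∃ N, Multiset.card s = N := ⟨_, rfl⟩
  induction N using Nat.strong_induction_on generalizing s with
  | _ N ih =>
    rcases Multiset.empty_or_exists_mem s with rfl | ⟨a, has⟩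
    · refine ⟨Fin 0, inferInstance, inferInstance, 1, 1, ?_, ?_, ?_, ?_, ?_⟩
      · intro v
        simp [dotProduct]
      · simp
      · simp
      · simp
      · intro k
        have h := Matrix.rank_le_card_width ((1 - 1 : Matrix (Fin 0) (Fin 0) F) ^ k)
        simp only [Fintype.card_fin] at h
        simp only [Multiset.map_zero, Multiset.sum_zero]
        omega
    · rcases Nat.even_or_odd a with hae | hao
      · -- an even part `a = r + r` is a single block
        obtain ⟨r, hr⟩ := hae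
        obtain ⟨s1, hs1⟩ := Multiset.exists_cons_of_mem has
        subst hs1
        have hpar1 : ∀ j, Odd j → Even (s1.count j) := by
          intro j hj
          have h' := hpar j hj
          have hja : j ≠ a := by
            rintro rfl
            exact (Nat.not_even_iff_odd.mpr hj) ⟨r, hr⟩
          rwa [Multiset.count_cons_of_ne hja] at h'
        have hN' : Multiset.card s1 + 1 = N := by
          rw [Multiset.card_cons] at hN
          omega
        obtain ⟨κ', i1, i2, A', M', hs', hd', ha', hcard', hrank'⟩ :=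
          ih (N - 1) (by omega) s1 hpar1 (by omega)
        obtain ⟨A₀, M₀, hs₀, hd₀, ha₀, hrank₀⟩ := heven r
        obtain ⟨c1, c2, c3, c4⟩ := js_combine A₀ M₀ A' M' hs₀ hd₀ ha₀ hs' hd' ha'
        refine ⟨(Fin r ⊕ Fin r) ⊕ κ', inferInstance, inferInstance, _, _, c1, c2, c3, ?_, ?_⟩
        · rw [Fintype.card_sum, Fintype.card_sum, Fintype.card_fin, hcard', Multiset.sum_cons, hr]
        · intro k
          rw [c4 k, hrank₀ k, hrank' k, Multiset.map_cons, Multiset.sum_cons, hr, two_mul]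
      · -- odd parts come in pairs
        have hc := hpar a hao
        have hc2 : 2 ≤ s.count a := by
          have hc1 : 0 < s.count a := Multiset.count_pos.mpr has
          obtain ⟨r, hr⟩ := hc
          omega
        obtain ⟨s1, hs1⟩ := Multiset.exists_cons_of_mem has
        have ha1 : a ∈ s1 := by
          have h' : s.count a = s1.count a + 1 := by rw [hs1, Multiset.count_cons_self]
          exact Multiset.count_pos.mp (by omega)
        obtain ⟨s2, hs2⟩ := Multiset.exists_cons_of_mem ha1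
        subst hs2
        subst hs1
        have hpar2 : ∀ j, Odd j → Even (s2.count j) := by
          intro j hj
          have h' := hpar j hj
          by_cases hja : j = a
          · subst hja
            rw [Multiset.count_cons_self, Multiset.count_cons_self] at h'
            obtain ⟨r, hr⟩ := h'
            exact ⟨r - 1, by omega⟩
          · rwa [Multiset.count_cons_of_ne hja, Multiset.count_cons_of_ne hja] at h'
        have hN' : Multiset.card s2 + 2 = N := by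
          rw [Multiset.card_cons, Multiset.card_cons] at hN
          omega
        obtain ⟨κ', i1, i2, A', M', hs', hd', ha', hcard', hrank'⟩ :=
          ih (N - 2) (by omega) s2 hpar2 (by omega)
        obtain ⟨A₀, M₀, hs₀, hd₀, ha₀, hrank₀⟩ := hpair a
        obtain ⟨c1, c2, c3, c4⟩ := js_combine A₀ M₀ A' M' hs₀ hd₀ ha₀ hs' hd' ha'
        refine ⟨(Fin a ⊕ Fin a) ⊕ κ', inferInstance, inferInstance, _, _, c1, c2, c3, ?_, ?_⟩
        · rw [Fintype.card_sum, Fintype.card_sum, Fintype.card_fin, hcard', Multiset.sum_cons,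
            Multiset.sum_cons, add_assoc]
        · intro k
          rw [c4 k, hrank₀ k, hrank' k, Multiset.map_cons, Multiset.map_cons, Multiset.sum_cons,
            Multiset.sum_cons, add_assoc]

end Cfsg.Agent.Helper10
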