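import Mathlib
import Cfsg.Agent.Helper10.NoThreeStep
import Cfsg.Agent.S1483
import Cfsg.Agent.S0035
import Cfsg.Agent.S4040

set_option autoImplicit false

/-!
# Maximal nilpotent subgroups of a minimal simple CN-group of odd order, helper10
-/

open Cfsg
open scoped commutatorElement

namespace Cfsg.Agent.Helper10

section MaxNil

variable {G : Type*} [Group G]

/-- a proper non-nilpotent subgroup is a Frobenius group with kernel its `fittingHall` -/
theorem cn_proper_structure [Finite G] (hG : IsMinSimpleOddOrder G) (hCN : IsCNGroup G)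
    (M : Subgroup G) (hM : M ≠ ⊤) (hnil : ¬ Group.IsNilpotent ↥M) :
    fittingHall ↥M ≠ ⊥ ∧ ∃ E : Subgroup ↥M, Subgroup.IsComplement' (fittingHall ↥M) E ∧
      IsFrobeniusComplement E ∧
      (∀ e ∈ E, e ≠ 1 → fittingHall ↥M ⊓ Subgroup.centralizer ({e} : Set ↥M) = ⊥) ∧
      Group.IsNilpotent E := by
  haveI hsolv : Group.IsSolvable ↥M := hG.2.2.2 M hM
  have hCN' := cn_subgroup hCN M
  have hF : fittingHall ↥M ≠ ⊥ := by
    intro hF
    haveI : Nontrivial ↥M := by
      by_contra hnt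
      rw [not_nontrivial_iff_subsingleton] at hnt
      exact hnil (ts_nilpotent_of_comm (fun a b => Subsingleton.elim _ _))
    obtain ⟨q, hq, hq0⟩ := exists_prime_pCore_ne_bot (M := ↥M)
    haveI : Fact q.Prime := ⟨hq⟩
    exact no_three_step hG hCN M q (cn_three_step_aux hCN' hF hq0)
  exact ⟨hF, cn_frob_of_fittingHall hCN' hnil hF⟩

/-- Sylow subgroups are TI -/
theorem sylow_TI [Finite G] (hG : IsMinSimpleOddOrder G) (hCN : IsCNGroup G) {p : ℕ}
    [hp : Fact p.Prime] (P₁ P₂ : Sylow p G) (hne : P₁ ≠ P₂) :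
    (P₁ : Subgroup G) ⊓ (P₂ : Subgroup G) = ⊥ := by
  classical
  by_contra hcon
  haveI : Nonempty {x : Sylow p G × Sylow p G // x.1 ≠ x.2} := ⟨⟨(P₁, P₂), hne⟩⟩
  obtain ⟨⟨⟨Q₁, Q₂⟩, hQne⟩, hmax⟩ := Finite.exists_max
    (fun x : {x : Sylow p G × Sylow p G // x.1 ≠ x.2} =>
      Nat.card ((x.1.1 : Subgroup G) ⊓ (x.1.2 : Subgroup G) : Subgroup G))
  have hQne' : Q₁ ≠ Q₂ := hQne
  obtain ⟨D, hD⟩ : ∃ D : Subgroup G, D = (Q₁ : Subgroup G) ⊓ (Q₂ : Subgroup G) := ⟨_, rfl⟩
  have hmax' : ∀ R₁ R₂ : Sylow p G, R₁ ≠ R₂ →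
      Nat.card ((R₁ : Subgroup G) ⊓ (R₂ : Subgroup G) : Subgroup G) ≤ Nat.card D := by
    intro R₁ R₂ hR
    rw [hD]
    exact hmax ⟨(R₁, R₂), hR⟩
  have hD1 : D ≠ ⊥ := by
    intro h
    have h1 := hmax' P₁ P₂ hne
    rw [h, Subgroup.card_bot] at h1
    exact hcon (Subgroup.eq_bot_of_card_le _ h1)
  have hDp : IsPGroup p D := by rw [hD]; exact Q₁.2.to_le inf_le_left
  have hDQ₁ : D < (Q₁ : Subgroup G) := by
    rw [hD]
    refine lt_of_le_of_ne inf_le_left (fun h => hQne' ?_)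
    have h1 : (Q₁ : Subgroup G) ≤ Q₂ := by rw [← h]; exact inf_le_right
    exact Sylow.ext (Q₁.is_maximal' Q₂.2 h1).symm
  have hDQ₂ : D < (Q₂ : Subgroup G) := by
    rw [hD]
    refine lt_of_le_of_ne inf_le_right (fun h => hQne' ?_)
    have h1 : (Q₂ : Subgroup G) ≤ Q₁ := by rw [← h]; exact inf_le_left
    exact Sylow.ext (Q₂.is_maximal' Q₁.2 h1)
  obtain ⟨r₁, hr₁Q, hr₁D, hr₁N⟩ := exists_normalizer_of_lt Q₁.2 hDQ₁
  obtain ⟨r₂, hr₂Q, hr₂D, hr₂N⟩ := exists_normalizer_of_lt Q₂.2 hDQ₂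
  rcases ts_local_normalizer hG hCN hDp hD1 with h3 | ⟨R, hRN, hNR, hRp, hRall⟩
  · exact no_three_step_prime hG hCN _ h3
  · obtain ⟨P₃, hP₃⟩ := hRp.exists_le_sylow
    have hDR : D ≤ R := by
      intro x hx
      obtain ⟨k, hk⟩ := ts_pow_eq_one hDp hx
      exact hRall x (Subgroup.le_normalizer hx) k hk
    have hr₁R : r₁ ∈ R := by
      obtain ⟨k, hk⟩ := ts_pow_eq_one Q₁.2 hr₁Q
      exact hRall r₁ hr₁N k hk
    have hr₂R : r₂ ∈ R := by
      obtain ⟨k, hk⟩ := ts_pow_eq_one Q₂.2 hr₂Q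
      exact hRall r₂ hr₂N k hk
    have key : ∀ (Q : Sylow p G) (r : G), D ≤ (Q : Subgroup G) → r ∈ (Q : Subgroup G) →
        r ∉ D → r ∈ R → P₃ = Q := by
      intro Q r hDQ hrQ hrD hrR
      by_contra hne3
      have h1 := hmax' P₃ Q hne3
      have h2 : D ⊔ Subgroup.zpowers r ≤ (P₃ : Subgroup G) ⊓ (Q : Subgroup G) :=
        sup_le (le_inf (hDR.trans hP₃) hDQ)
          (Subgroup.zpowers_le.2 (Subgroup.mem_inf.2 ⟨hP₃ hrR, hrQ⟩))
      have h3 : Nat.card (D ⊔ Subgroup.zpowers r : Subgroup G) ≤ Nat.card D :=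
        (Subgroup.card_le_of_le h2).trans h1
      have h4 : D = D ⊔ Subgroup.zpowers r := Subgroup.eq_of_le_of_card_ge le_sup_left h3
      apply hrD
      rw [h4]
      exact Subgroup.mem_sup_right (Subgroup.mem_zpowers r)
    have e1 := key Q₁ r₁ (by rw [hD]; exact inf_le_left) hr₁Q hr₁D hr₁R
    have e2 := key Q₂ r₂ (by rw [hD]; exact inf_le_right) hr₂Q hr₂D hr₂R
    exact hQne' (e1.symm.trans e2)

theorem max_nil_ne_bot [Nontrivial G] {H : Subgroup G}
    (hmax : ∀ L : Subgroup G, Group.IsNilpotent L → H ≤ L → L = H) : H ≠ ⊥ := by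
  rintro rfl
  obtain ⟨x, hx⟩ := exists_ne (1 : G)
  have h1 : Group.IsNilpotent (Subgroup.zpowers x) := by
    apply ts_nilpotent_of_comm
    rintro ⟨a, ha⟩ ⟨b, hb⟩
    obtain ⟨m, rfl⟩ := Subgroup.mem_zpowers_iff.1 ha
    obtain ⟨n, rfl⟩ := Subgroup.mem_zpowers_iff.1 hb
    apply Subtype.ext
    show x ^ m * x ^ n = x ^ n * x ^ m
    rw [← zpow_add, ← zpow_add, add_comm]
  exact hx (Subgroup.zpowers_eq_bot.1 (hmax _ h1 bot_le))

/-- maximal nilpotent subgroups are TI -/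
theorem max_nil_TI [Finite G] (hG : IsMinSimpleOddOrder G) (hCN : IsCNGroup G) {H : Subgroup G}
    (hH : Group.IsNilpotent H) (hmax : ∀ L : Subgroup G, Group.IsNilpotent L → H ≤ L → L = H) :
    ∀ g : G, H.map (MulAut.conj g).toMonoidHom ≠ H →
      H ⊓ H.map (MulAut.conj g).toMonoidHom = ⊥ := by
  obtain ⟨-, h2, -⟩ := Cfsg.Agent.S1477.result hCN H hH hmax
  by_cases hpp : IsPrimePow (Nat.card H)
  · obtain ⟨p, k, hp, hk, hpk⟩ := (isPrimePow_nat_iff _).1 hpp
    haveI : Fact p.Prime := ⟨hp⟩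
    have hHp : IsPGroup p H := IsPGroup.of_card hpk.symm
    obtain ⟨P, hP⟩ := hHp.exists_le_sylow
    have hPH : (P : Subgroup G) = H := hmax P (P.2.isNilpotent) hP
    intro g hg
    have h3 : ((g • P : Sylow p G) : Subgroup G) = H.map (MulAut.conj g).toMonoidHom := by
      rw [Sylow.coe_subgroup_smul, Cfsg.Agent.Helper1.conj_smul_eq_map, hPH]
    have hne : P ≠ g • P := by
      intro h
      apply hg
      rw [← h3, ← h, hPH]
    have h4 := sylow_TI hG hCN P (g • P) hne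
    rw [h3, hPH] at h4
    exact h4
  · by_cases h1 : Nat.card H = 1
    · intro g _
      rw [Subgroup.eq_bot_of_card_eq H h1, bot_inf_eq]
    · exact h2 hpp h1

theorem exists_normalizer_of_lt_nil {D R : Subgroup G} (hR : Group.IsNilpotent R)
    (hDR : D < R) : ∃ r ∈ R, r ∉ D ∧ r ∈ Subgroup.normalizer (D : Set G) := by
  haveI := hR
  have hnc : NormalizerCondition R := Group.normalizerCondition_of_isNilpotent
  have h1 : D.subgroupOf R < ⊤ := by
    rw [lt_top_iff_ne_top]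
    intro h
    exact (not_le_of_gt hDR) (Subgroup.subgroupOf_eq_top.1 h)
  obtain ⟨r, hr1, hr2⟩ := SetLike.exists_of_lt (hnc _ h1)
  refine ⟨r.1, r.2, fun h => hr2 (Subgroup.mem_subgroupOf.2 h), ?_⟩
  have h2 := Cfsg.Agent.Helper1.map_subtype_mem_normalizer R (D.subgroupOf R) r hr1
  rw [Subgroup.map_subgroupOf_eq_of_le hDR.le] at h2
  exact h2

/-- the structure of a maximal subgroup -/
theorem coatom_frob [Finite G] (hG : IsMinSimpleOddOrder G) (hCN : IsCNGroup G)
    {M : Subgroup G} (hM : IsCoatom M) :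
    ∃ E : Subgroup G, E ≤ M ∧ E ≠ ⊥ ∧ fittingHallOf M ≠ ⊥ ∧
      Group.IsNilpotent (fittingHallOf M) ∧
      (∀ L : Subgroup G, Group.IsNilpotent L → fittingHallOf M ≤ L → L = fittingHallOf M) ∧
      Subgroup.normalizer ((fittingHallOf M : Subgroup G) : Set G) = M ∧
      IsComplIn (fittingHallOf M) E M ∧
      (∀ e ∈ E, e ≠ 1 → fittingHallOf M ⊓ Subgroup.centralizer ({e} : Set G) = ⊥) ∧
      (∀ x ∈ M, orderOf x ∣ Nat.card (fittingHallOf M) → x ∈ fittingHallOf M) ∧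
      (∀ N' : Subgroup G, N' ≤ M → N' ⊓ fittingHallOf M = ⊥ → Group.IsNilpotent N') := by
  classical
  haveI hsimp := hG.2.1
  have hMtop : M ≠ ⊤ := hM.1
  have hnil : ¬ Group.IsNilpotent ↥M := by
    intro h
    have hodd : Odd (Nat.card M) := Odd.of_dvd_nat hG.1 (Subgroup.card_subgroup_dvd_card M)
    have hsolv : Group.IsSolvable G := Cfsg.Agent.S4040.result M hM h hodd
    exact hG.2.2.1 ⟨⟨IsSimpleGroup.comm_iff_isSolvable.2 hsolv⟩⟩
  obtain ⟨hF0, E₀, hcompl, hfrobE, hfpf, hEnil⟩ := cn_proper_structure hG hCN M hMtop hnil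
  obtain ⟨hFnil, hFcop⟩ := Cfsg.Agent.Helper9.fittingHall_nilpotent_coprime ↥M
  haveI hFn : (fittingHall ↥M).Normal := fittingHall_normal ↥M
  obtain ⟨F, hF⟩ : ∃ F : Subgroup G, F = fittingHallOf M := ⟨_, rfl⟩
  have hFdef : F = (fittingHall ↥M).map M.subtype := hF
  rw [← hF]
  have hFM : F ≤ M := by rw [hFdef]; exact Subgroup.map_subtype_le _
  have hmemF : ∀ x : M, (x : G) ∈ F ↔ x ∈ fittingHall ↥M := by
    intro x
    rw [hFdef]
    constructor
    · rintro ⟨y, hy, hyx⟩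
      have h1 : y = x := Subtype.ext hyx
      rw [← h1]; exact hy
    · intro hx
      exact ⟨x, hx, rfl⟩
  have hF1 : F ≠ ⊥ := by
    rw [hFdef]
    intro h
    exact hF0 ((Subgroup.map_eq_bot_iff_of_injective _ M.subtype_injective).1 h)
  have hFnilG : Group.IsNilpotent F := by
    rw [hFdef]
    haveI := hFnil
    exact Group.nilpotent_of_mulEquiv
      ((fittingHall ↥M).equivMapOfInjective M.subtype M.subtype_injective)
  have hMF : M ≤ Subgroup.normalizer (F : Set G) := by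
    intro m hm
    have h1 : (⟨m, hm⟩ : M) ∈ Subgroup.normalizer ((fittingHall ↥M : Subgroup M) : Set M) := by
      rw [Subgroup.normalizer_eq_top]; exact Subgroup.mem_top _
    have h2 := Cfsg.Agent.Helper1.map_subtype_mem_normalizer M (fittingHall ↥M) ⟨m, hm⟩ h1
    rw [hFdef]; exact h2
  have hNF : Subgroup.normalizer (F : Set G) = M := by
    by_contra hne
    have hlt : M < Subgroup.normalizer (F : Set G) := lt_of_le_of_ne hMF (Ne.symm hne)
    have htop := hM.2 _ hlt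
    have hFn' : F.Normal := Subgroup.normalizer_eq_top_iff.1 htop
    have hFtop : F = ⊤ := (hFn'.eq_bot_or_eq_top).resolve_left hF1
    apply hMtop
    rw [eq_top_iff, ← hFtop]
    exact hFM
  obtain ⟨E, hE⟩ : ∃ E : Subgroup G, E = E₀.map M.subtype := ⟨_, rfl⟩
  have hEM : E ≤ M := by rw [hE]; exact Subgroup.map_subtype_le _
  have hmemE : ∀ x : M, (x : G) ∈ E ↔ x ∈ E₀ := by
    intro x
    rw [hE]
    constructor
    · rintro ⟨y, hy, hyx⟩
      have h1 : y = x := Subtype.ext hyx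
      rw [← h1]; exact hy
    · intro hx
      exact ⟨x, hx, rfl⟩
  have hE1 : E ≠ ⊥ := by
    rw [hE]
    intro h
    exact hfrobE.1 ((Subgroup.map_eq_bot_iff_of_injective _ M.subtype_injective).1 h)
  have hdec : ∀ m ∈ M, ∃ a ∈ F, ∃ b ∈ E, m = a * b := by
    intro m hm
    obtain ⟨⟨⟨f, hf⟩, ⟨e, he⟩⟩, hg⟩ := hcompl.2 ⟨m, hm⟩
    have hg' : f * e = ⟨m, hm⟩ := hg
    refine ⟨f, (hmemF f).2 hf, e, (hmemE e).2 he, ?_⟩
    have h1 : ((f * e : M) : G) = m := congrArg Subtype.val hg'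
    exact h1.symm
  have hFE : F ⊓ E = ⊥ := by
    rw [eq_bot_iff]
    intro x hx
    obtain ⟨hxF, hxE⟩ := Subgroup.mem_inf.1 hx
    have hxM : x ∈ M := hFM hxF
    have h1 : (⟨x, hxM⟩ : M) ∈ fittingHall ↥M ⊓ E₀ :=
      Subgroup.mem_inf.2 ⟨(hmemF ⟨x, hxM⟩).1 hxF, (hmemE ⟨x, hxM⟩).1 hxE⟩
    rw [hcompl.isCompl.inf_eq_bot] at h1
    exact Subgroup.mem_bot.2 (congrArg Subtype.val (Subgroup.mem_bot.1 h1))
  have hfpfG : ∀ e ∈ E, e ≠ 1 → F ⊓ Subgroup.centralizer ({e} : Set G) = ⊥ := by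
    intro e he he1
    rw [eq_bot_iff]
    intro x hx
    obtain ⟨hxF, hxc⟩ := Subgroup.mem_inf.1 hx
    have hxM : x ∈ M := hFM hxF
    have heM : e ∈ M := hEM he
    have h1 : (⟨x, hxM⟩ : M) ∈
        fittingHall ↥M ⊓ Subgroup.centralizer ({(⟨e, heM⟩ : M)} : Set M) := by
      refine Subgroup.mem_inf.2
        ⟨(hmemF ⟨x, hxM⟩).1 hxF, Subgroup.mem_centralizer_iff.2 ?_⟩
      intro h hh
      rw [Set.mem_singleton_iff.1 hh]
      exact Subtype.ext (Subgroup.mem_centralizer_iff.1 hxc e (Set.mem_singleton e))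
    rw [hfpf ⟨e, heM⟩ ((hmemE ⟨e, heM⟩).1 he) (fun h => he1 (congrArg Subtype.val h))] at h1
    exact Subgroup.mem_bot.2 (congrArg Subtype.val (Subgroup.mem_bot.1 h1))
  have hFmax : ∀ L : Subgroup G, Group.IsNilpotent L → F ≤ L → L = F := by
    intro L hL hFL
    by_contra hne
    have hlt : F < L := lt_of_le_of_ne hFL (Ne.symm hne)
    obtain ⟨r, hrL, hrF, hrN⟩ := exists_normalizer_of_lt_nil hL hlt
    have hrM : r ∈ M := by rw [← hNF]; exact hrN
    obtain ⟨H₁, hH₁⟩ : ∃ H₁ : Subgroup G, H₁ = F ⊔ Subgroup.zpowers r := ⟨_, rfl⟩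
    have hFH₁ : F ≤ H₁ := by rw [hH₁]; exact le_sup_left
    have hrH₁ : r ∈ H₁ := by
      rw [hH₁]; exact Subgroup.mem_sup_right (Subgroup.mem_zpowers r)
    have hH₁L : H₁ ≤ L := by rw [hH₁]; exact sup_le hFL (Subgroup.zpowers_le.2 hrL)
    have hH₁M : H₁ ≤ M := by rw [hH₁]; exact sup_le hFM (Subgroup.zpowers_le.2 hrM)
    haveI hH₁nil : Group.IsNilpotent H₁ := Cfsg.Agent.S1474.nil_of_le hH₁L hL
    haveI hnorm : (F.subgroupOf H₁).Normal :=
      Subgroup.normal_subgroupOf_of_le_normalizer (hH₁M.trans hMF)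
    have hne1 : F.subgroupOf H₁ ≠ ⊥ := by
      intro h
      obtain ⟨f, hfF, hf1⟩ := ts_exists_ne_one hF1
      have h1 : (⟨f, hFH₁ hfF⟩ : H₁) ∈ F.subgroupOf H₁ := Subgroup.mem_subgroupOf.2 hfF
      rw [h, Subgroup.mem_bot] at h1
      exact hf1 (congrArg Subtype.val h1)
    obtain ⟨z, hzF, hz1, hzc⟩ :=
      Cfsg.Agent.S1477.exists_center_of_normal (F.subgroupOf H₁) hne1
    have hzF' : (z : G) ∈ F := Subgroup.mem_subgroupOf.1 hzF
    have hz1' : (z : G) ≠ 1 := fun h => hz1 (Subtype.ext h)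
    have hzc' : ∀ g ∈ H₁, g * (z : G) = (z : G) * g :=
      fun g hg => congrArg Subtype.val (hzc ⟨g, hg⟩)
    obtain ⟨f, hf, e, he, hre⟩ := hdec r hrM
    have he1 : e ≠ 1 := by
      intro h
      rw [h, mul_one] at hre
      exact hrF (hre ▸ hf)
    have hez : e * (z : G) = (z : G) * e := by
      have h1 : e = f⁻¹ * r := by rw [hre]; group
      have h2 := hzc' r hrH₁
      have h3 := hzc' f⁻¹ (inv_mem (hFH₁ hf))
      rw [h1]
      calc f⁻¹ * r * (z : G) = f⁻¹ * (r * z) := by group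
        _ = f⁻¹ * (z * r) := by rw [h2]
        _ = f⁻¹ * z * r := by group
        _ = z * f⁻¹ * r := by rw [h3]
        _ = z * (f⁻¹ * r) := by group
    have h4 : (z : G) ∈ F ⊓ Subgroup.centralizer ({e} : Set G) := by
      refine Subgroup.mem_inf.2 ⟨hzF', Subgroup.mem_centralizer_iff.2 ?_⟩
      intro h hh
      rw [Set.mem_singleton_iff.1 hh]
      exact hez
    rw [hfpfG e he he1] at h4
    exact hz1' (Subgroup.mem_bot.1 h4)
  have hhall : ∀ x ∈ M, orderOf x ∣ Nat.card F → x ∈ F := by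
    intro x hxM hx
    have hcardF : Nat.card F = Nat.card (fittingHall ↥M) := by
      rw [hFdef]; exact Subgroup.card_map_of_injective M.subtype_injective
    rw [hcardF, ← Subgroup.orderOf_mk x hxM] at hx
    have h1 : orderOf (QuotientGroup.mk' (fittingHall ↥M) ⟨x, hxM⟩) ∣
        Nat.card (fittingHall ↥M) := (orderOf_map_dvd _ _).trans hx
    have h2 : orderOf (QuotientGroup.mk' (fittingHall ↥M) ⟨x, hxM⟩) ∣
        (fittingHall ↥M).index := by
      rw [Subgroup.index_eq_card]; exact orderOf_dvd_natCard _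
    have h3 := Nat.eq_one_of_dvd_coprimes hFcop h1 h2
    exact (hmemF ⟨x, hxM⟩).2 ((QuotientGroup.eq_one_iff _).1 (orderOf_eq_one_iff.1 h3))
  have hquot : ∀ N' : Subgroup G, N' ≤ M → N' ⊓ F = ⊥ → Group.IsNilpotent N' := by
    intro N' hN'M hN'F
    haveI := hEnil
    have hsurj : Function.Surjective
        ((QuotientGroup.mk' (fittingHall ↥M)).comp E₀.subtype) := by
      intro q
      obtain ⟨h, rfl⟩ := QuotientGroup.mk'_surjective (fittingHall ↥M) q
      obtain ⟨⟨⟨f, hf⟩, ⟨e, he⟩⟩, hg⟩ := hcompl.2 h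
      have hg' : f * e = h := hg
      refine ⟨⟨e, he⟩, ?_⟩
      show QuotientGroup.mk' (fittingHall ↥M) e = QuotientGroup.mk' (fittingHall ↥M) h
      have hf1 : QuotientGroup.mk' (fittingHall ↥M) f = 1 := (QuotientGroup.eq_one_iff f).2 hf
      rw [← hg', map_mul, hf1, one_mul]
    haveI hQnil : Group.IsNilpotent (↥M ⧸ fittingHall ↥M) :=
      Group.nilpotent_of_surjective _ hsurj
    have hinj : Function.Injective
        ((QuotientGroup.mk' (fittingHall ↥M)).comp (N'.subgroupOf M).subtype) := by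
      rw [injective_iff_map_eq_one]
      intro x hx
      have hx' : QuotientGroup.mk' (fittingHall ↥M) (x : M) = 1 := hx
      have h1 : (x : M) ∈ fittingHall ↥M := (QuotientGroup.eq_one_iff _).1 hx'
      have h2 : ((x : M) : G) ∈ N' ⊓ F :=
        Subgroup.mem_inf.2 ⟨Subgroup.mem_subgroupOf.1 x.2, (hmemF _).2 h1⟩
      rw [hN'F, Subgroup.mem_bot] at h2
      exact Subtype.ext (Subtype.ext h2)
    haveI : Group.IsNilpotent (N'.subgroupOf M) :=
      Group.nilpotent_of_mulEquiv (MonoidHom.ofInjective hinj).symm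
    exact Group.nilpotent_of_mulEquiv (Subgroup.subgroupOfEquivOfLe hN'M)
  exact ⟨E, hEM, hE1, hF1, hFnilG, hFmax, hNF, ⟨hFM, hEM, hFE, hdec⟩, hfpfG, hhall, hquot⟩

/-- a maximal nilpotent subgroup is the `fittingHallOf` of any maximal subgroup containing its
normalizer -/
theorem max_nil_eq_fittingHallOf [Finite G] (hG : IsMinSimpleOddOrder G) (hCN : IsCNGroup G)
    {H : Subgroup G} (hH : Group.IsNilpotent H)
    (hmax : ∀ L : Subgroup G, Group.IsNilpotent L → H ≤ L → L = H) {M : Subgroup G}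
    (hM : IsCoatom M) (hNM : Subgroup.normalizer (H : Set G) ≤ M) : H = fittingHallOf M := by
  obtain ⟨E, hEM, hE1, hF1, hFnil, hFmax, hNF, hcomplIn, hfpf, hhall, hquot⟩ :=
    coatom_frob hG hCN hM
  obtain ⟨F, hF⟩ : ∃ F : Subgroup G, F = fittingHallOf M := ⟨_, rfl⟩
  rw [← hF] at hF1 hFnil hFmax hNF hcomplIn hfpf hhall hquot ⊢
  haveI hsimp := hG.2.1
  have hHM : H ≤ M := Subgroup.le_normalizer.trans hNM
  rcases Cfsg.Agent.S1483.conj_or_coprime hCN F H hFnil hFmax hH hmax with ⟨g, hg⟩ | hcop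
  · have hcard : Nat.card H = Nat.card F := by
      rw [hg]; exact Subgroup.card_map_of_injective (MulAut.conj g).injective
    have hle : H ≤ F := by
      intro x hx
      apply hhall x (hHM hx)
      rw [← hcard]
      exact Subgroup.orderOf_dvd_natCard H hx
    exact Subgroup.eq_of_le_of_card_ge hle (le_of_eq hcard.symm)
  · exfalso
    have hHF : ∀ x ∈ H, x ∈ F → x = 1 := by
      intro x hxH hxF
      have h1 := Subgroup.orderOf_dvd_natCard H hxH
      have h2 := Subgroup.orderOf_dvd_natCard F hxF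
      exact orderOf_eq_one_iff.1 (Nat.eq_one_of_dvd_coprimes hcop h2 h1)
    have hH1 : H ≠ ⊥ := max_nil_ne_bot hmax
    obtain ⟨h0, hh0, hh01⟩ := ts_exists_ne_one hH1
    have hTI := max_nil_TI hG hCN hH hmax
    have hcent : Subgroup.centralizer ({h0} : Set G) ≤ H :=
      (Cfsg.Agent.S1477.result hCN H hH hmax).2.2 hTI h0 hh0 hh01
    obtain ⟨N, hN⟩ : ∃ N : Subgroup G, N = Subgroup.normalizer (H : Set G) := ⟨_, rfl⟩
    have hNF' : N ⊓ F = ⊥ := by
      rw [eq_bot_iff]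
      intro x hx
      obtain ⟨hxN, hxF⟩ := Subgroup.mem_inf.1 hx
      rw [hN] at hxN
      have h1 : x * h0 * x⁻¹ * h0⁻¹ = 1 := by
        apply hHF
        · exact mul_mem ((Subgroup.mem_normalizer_iff.1 hxN h0).1 hh0) (inv_mem hh0)
        · have h2 : h0 ∈ Subgroup.normalizer (F : Set G) := by rw [hNF]; exact hHM hh0
          have h3 : h0 * x⁻¹ * h0⁻¹ ∈ F :=
            (Subgroup.mem_normalizer_iff.1 h2 x⁻¹).1 (inv_mem hxF)
          have h4 : x * h0 * x⁻¹ * h0⁻¹ = x * (h0 * x⁻¹ * h0⁻¹) := by group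
          rw [h4]; exact mul_mem hxF h3
      have h5 : x ∈ Subgroup.centralizer ({h0} : Set G) := by
        refine Subgroup.mem_centralizer_iff.2 ?_
        intro h hh
        rw [Set.mem_singleton_iff.1 hh]
        calc h0 * x = (x * h0 * x⁻¹ * h0⁻¹)⁻¹ * (x * h0) := by group
          _ = x * h0 := by rw [h1, inv_one, one_mul]
      exact Subgroup.mem_bot.2 (hHF x (hcent h5) hxF)
    have hNnil : Group.IsNilpotent N := hquot N (by rw [hN]; exact hNM) hNF'
    have hNH : N = H := hmax N hNnil (by rw [hN]; exact Subgroup.le_normalizer)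
    have hHtop : H ≠ ⊤ := by
      intro h
      apply hM.1
      rw [eq_top_iff, ← h]
      exact hHM
    have hfrob : IsFrobeniusComplement H := by
      refine ⟨hH1, hHtop, ?_⟩
      intro g hg
      rw [Cfsg.Agent.Helper1.conj_smul_eq_map]
      apply hTI
      intro heq
      apply hg
      rw [← hNH, hN, Subgroup.mem_normalizer_iff]
      intro h
      constructor
      · intro hh
        rw [← heq]
        exact ⟨h, hh, rfl⟩
      · intro hh
        rw [← heq] at hh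
        obtain ⟨h', hh', he⟩ := hh
        have h6 : h' = h := (MulAut.conj g).injective he
        rw [← h6]; exact hh'
    obtain ⟨N₀, -, hN₀n, hN₀c⟩ := Cfsg.Agent.S0035.result H hfrob
    rcases hN₀n.eq_bot_or_eq_top with h | h
    · rw [h, Subgroup.isComplement'_bot_left] at hN₀c
      exact hHtop hN₀c
    · rw [h, Subgroup.isComplement'_top_left] at hN₀c
      exact hH1 hN₀c

theorem max_nil_structure [Finite G] (hG : IsMinSimpleOddOrder G) (hCN : IsCNGroup G)
    {H : Subgroup G} (hH : Group.IsNilpotent H)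
    (hmax : ∀ L : Subgroup G, Group.IsNilpotent L → H ≤ L → L = H) :
    ∃ M : Subgroup G, IsCoatom M ∧ H = fittingHallOf M ∧
      Subgroup.normalizer (H : Set G) = M := by
  haveI hsimp := hG.2.1
  have hH1 : H ≠ ⊥ := max_nil_ne_bot hmax
  have hNtop : Subgroup.normalizer (H : Set G) ≠ ⊤ := by
    intro h
    have hHn : H.Normal := Subgroup.normalizer_eq_top_iff.1 h
    have hHtop : H = ⊤ := (hHn.eq_bot_or_eq_top).resolve_left hH1
    haveI := hH
    have hnilG : Group.IsNilpotent G := by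
      have h1 : Group.IsNilpotent (⊤ : Subgroup G) := by rw [← hHtop]; exact hH
      haveI := h1
      exact Group.nilpotent_of_mulEquiv Subgroup.topEquiv
    haveI := hnilG
    have hsolv : Group.IsSolvable G := inferInstance
    exact hG.2.2.1 ⟨⟨IsSimpleGroup.comm_iff_isSolvable.2 hsolv⟩⟩
  rcases eq_top_or_exists_le_coatom (Subgroup.normalizer (H : Set G)) with h | ⟨M, hM, hNM⟩
  · exact absurd h hNtop
  · have hHF := max_nil_eq_fittingHallOf hG hCN hH hmax hM hNM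
    obtain ⟨E, hEM, hE1, hF1, hFnil, hFmax, hNF, -⟩ := coatom_frob hG hCN hM
    refine ⟨M, hM, hHF, ?_⟩
    rw [hHF]
    exact hNF

end MaxNil

end Cfsg.Agent.Helper10
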