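import Mathlib
import Cfsg.Prelude.Def_OddOrderLocal
import Cfsg.Agent.Helper10.Rank2Act
import Cfsg.Agent.Helper10.PSolvSL2
import Cfsg.Agent.S0640
import Cfsg.Agent.S1474
import Cfsg.Agent.Helper9.Fitting
import Cfsg.Agent.Helper9.Layer3
import Cfsg.Agent.Helper9.Layer
import Cfsg.Agent.Helper1.ThTrans

/-!
Solvable groups of odd order whose Fitting subgroup has rank at most 2: the derived subgroup is
nilpotent, and there is a Sylow tower.
-/

set_option autoImplicit false

universe u

namespace Cfsg.Agent.Helper10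

open scoped commutatorElement

theorem prankLE_of_injective {H K : Type*} [Group H] [Group K] (f : H →* K)
    (hf : Function.Injective f) (p k : ℕ) (h : Cfsg.PRankLE p k K) : Cfsg.PRankLE p k H := by
  intro A hA hexp
  have hcomm : IsMulCommutative ↥(A.map f) := by
    refine ⟨⟨fun x y => ?_⟩⟩
    obtain ⟨x, hx⟩ := x
    obtain ⟨y, hy⟩ := y
    obtain ⟨a, ha, rfl⟩ := hx
    obtain ⟨b, hb, rfl⟩ := hy
    have h1 : (⟨a, ha⟩ : A) * ⟨b, hb⟩ = ⟨b, hb⟩ * ⟨a, ha⟩ := mul_comm' _ _
    have h2 : a * b = b * a := congrArg Subtype.val h1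
    apply Subtype.ext
    show f a * f b = f b * f a
    rw [← map_mul, ← map_mul, h2]
  have hexp' : ∀ x ∈ A.map f, x ^ p = 1 := by
    rintro x ⟨a, ha, rfl⟩
    rw [← map_pow, hexp a ha, map_one]
  have h1 := h (A.map f) hcomm hexp'
  rwa [Subgroup.card_map_of_injective hf] at h1

theorem pow_card_of_mem {G : Type*} [Group G] (A : Subgroup G) {x : G} (hx : x ∈ A) :
    x ^ Nat.card A = 1 := by
  have h1 : (⟨x, hx⟩ : A) ^ Nat.card A = 1 := pow_card_eq_one'
  have h2 : ((⟨x, hx⟩ : A) : G) ^ Nat.card A = 1 := by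
    rw [← Subgroup.coe_pow, h1]; rfl
  exact h2

theorem eq_one_of_pow_pow_coprime {G : Type*} [Group G] (x : G) (a b : ℕ)
    (ha : x ^ a = 1) (hb : x ^ b = 1) (hab : Nat.Coprime a b) : x = 1 := by
  have h := mem_of_pow_mem_coprime ⊥ x a b (by rw [ha]; exact Subgroup.one_mem _)
    (by rw [hb]; exact Subgroup.one_mem _) hab
  exact Subgroup.mem_bot.1 h

/-- Variant of `mem_of_coprime_relIndex` where `N` is only assumed normal in `M`. -/
theorem mem_of_coprime_relIndex' {G : Type*} [Group G] (N M : Subgroup G)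
    (hN : (N.subgroupOf M).Normal) (x : G)
    (hx : x ∈ M) (a : ℕ) (hxa : x ^ a = 1) (hcop : Nat.Coprime a (N.relIndex M)) : x ∈ N := by
  haveI := hN
  have h1 : orderOf (QuotientGroup.mk (⟨x, hx⟩ : M) : M ⧸ N.subgroupOf M) ∣ a := by
    apply orderOf_dvd_of_pow_eq_one
    rw [← QuotientGroup.mk_pow]
    have h2 : (⟨x, hx⟩ : M) ^ a = 1 := Subtype.ext (by simpa using hxa)
    rw [h2, QuotientGroup.mk_one]
  have h2 : orderOf (QuotientGroup.mk (⟨x, hx⟩ : M) : M ⧸ N.subgroupOf M) ∣ N.relIndex M :=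
    orderOf_dvd_natCard _
  have h3 : orderOf (QuotientGroup.mk (⟨x, hx⟩ : M) : M ⧸ N.subgroupOf M) = 1 :=
    Nat.eq_one_of_dvd_one (hcop ▸ Nat.dvd_gcd h1 h2)
  have h4 := (QuotientGroup.eq_one_iff _).1 (orderOf_eq_one_iff.1 h3)
  exact Subgroup.mem_subgroupOf.1 h4

theorem pCore_two_eq_bot {G : Type*} [Group G] [Finite G] (hodd : Odd (Nat.card G)) :
    Cfsg.pCore 2 G = ⊥ := by
  rw [eq_bot_iff]
  intro x hx
  have h1 : IsPGroup 2 ↥(Cfsg.pCore 2 G) := Helper9.pCore_isPGroup 2
  obtain ⟨k, hk⟩ := h1 ⟨x, hx⟩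
  have hk' : x ^ (2 ^ k) = 1 := by simpa using congrArg Subtype.val hk
  have h2 : x ^ Nat.card G = 1 := pow_card_eq_one'
  have hcop : Nat.Coprime (2 ^ k) (Nat.card G) :=
    Nat.Coprime.pow_left k (Nat.coprime_two_left.mpr hodd)
  exact Subgroup.mem_bot.2 (eq_one_of_pow_pow_coprime x _ _ hk' h2 hcop)

theorem conj_trivial_mem_centralizer {G : Type*} [Group G] (N : Subgroup G) [N.Normal] (x : G)
    (h : (MulAut.conjNormal x : MulAut N) = 1) : x ∈ Subgroup.centralizer (N : Set G) := by
  rw [Subgroup.mem_centralizer_iff]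
  intro n hn
  have h1 : ((MulAut.conjNormal x : MulAut N) ⟨n, hn⟩ : G) = n := by rw [h]; rfl
  rw [MulAut.conjNormal_apply] at h1
  calc n * x = (x * n * x⁻¹) * x := by rw [h1]
    _ = x * n := by group

theorem pow_card_mem_of_sup {G : Type*} [Group G] (A B : Subgroup G) [B.Normal] {x : G}
    (hx : x ∈ A ⊔ B) : x ^ Nat.card A ∈ B := by
  obtain ⟨a, ha, b, hb, rfl⟩ := Subgroup.mem_sup_of_normal_right.1 hx
  rw [← QuotientGroup.eq_one_iff, QuotientGroup.mk_pow, QuotientGroup.mk_mul,
    (QuotientGroup.eq_one_iff b).2 hb, mul_one, ← QuotientGroup.mk_pow, pow_card_of_mem A ha,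
    QuotientGroup.mk_one]

/-- A `q`-element of the derived subgroup centralizes `O_r(G)` for `r ≠ q`. -/
theorem derived_centralizes {G : Type u} [Group G] [Finite G] [Group.IsSolvable G]
    (hodd : Odd (Nat.card G))
    (hrk : ∀ r : ℕ, r.Prime → Cfsg.PRankLE r 2 ↥(Cfsg.pCore r G))
    (q : ℕ) (hq : q.Prime) (g : G) (hg : g ∈ commutator G) (k : ℕ) (hgk : g ^ (q ^ k) = 1)
    (r : ℕ) (hr : r.Prime) (hrq : r ≠ q) :
    g ∈ Subgroup.centralizer (Cfsg.pCore r G : Set G) := by
  by_cases hr2 : r = 2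
  · subst hr2
    rw [Subgroup.mem_centralizer_iff]
    intro h hh
    rw [pCore_two_eq_bot hodd] at hh
    rw [Subgroup.mem_bot.1 hh]
    simp
  · haveI : Fact r.Prime := ⟨hr⟩
    obtain ⟨m, hm⟩ := rank2_derived_pgroup hr2 (Helper9.pCore_isPGroup r) (hrk r hr) hodd
      (MulAut.conjNormal : G →* MulAut ↥(Cfsg.pCore r G)) g hg
    have h2 : (MulAut.conjNormal g : MulAut ↥(Cfsg.pCore r G)) ^ (q ^ k) = 1 := by
      rw [← map_pow, hgk, map_one]
    have hcop : Nat.Coprime (r ^ m) (q ^ k) :=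
      Nat.Coprime.pow _ _ ((Nat.coprime_primes hr hq).2 hrq)
    exact conj_trivial_mem_centralizer _ g (eq_one_of_pow_pow_coprime _ _ _ hm h2 hcop)

/-- A `q`-element centralizes `O_r(G)` for `r < q` when `O_r(G)` has rank at most 2. -/
theorem big_prime_centralizes {G : Type u} [Group G] [Finite G]
    (hodd : Odd (Nat.card G))
    (hrk : ∀ r : ℕ, r.Prime → Cfsg.PRankLE r 2 ↥(Cfsg.pCore r G))
    (q : ℕ) (hq : q.Prime) (x : G) (k : ℕ) (hxk : x ^ (q ^ k) = 1)
    (r : ℕ) (hr : r.Prime) (hrq : r < q) :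
    x ∈ Subgroup.centralizer (Cfsg.pCore r G : Set G) := by
  by_cases hr2 : r = 2
  · subst hr2
    rw [Subgroup.mem_centralizer_iff]
    intro h hh
    rw [pCore_two_eq_bot hodd] at hh
    rw [Subgroup.mem_bot.1 hh]
    simp
  · haveI : Fact r.Prime := ⟨hr⟩
    apply conj_trivial_mem_centralizer
    by_contra hne
    have h2 : (MulAut.conjNormal x : MulAut ↥(Cfsg.pCore r G)) ^ (q ^ k) = 1 := by
      rw [← map_pow, hxk, map_one]
    have h3 : orderOf (MulAut.conjNormal x : MulAut ↥(Cfsg.pCore r G)) ∣ q ^ k :=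
      orderOf_dvd_of_pow_eq_one h2
    obtain ⟨j, hj, hj'⟩ := (Nat.dvd_prime_pow hq).1 h3
    have hj0 : j ≠ 0 := by
      rintro rfl
      rw [pow_zero, orderOf_eq_one_iff] at hj'
      exact hne hj'
    have h4 : q ∣ orderOf (MulAut.conjNormal x : MulAut ↥(Cfsg.pCore r G)) := by
      rw [hj']; exact dvd_pow_self q hj0
    have h5 : q ∣ Nat.card (MulAut ↥(Cfsg.pCore r G)) := h4.trans (orderOf_dvd_natCard _)
    have h6 := Cfsg.Agent.S0640.result hr2 (Helper9.pCore_isPGroup r) (hrk r hr) q hq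
      (by omega) h5
    have h7 := h6.2
    omega

/-- The join of the `O_r(G)` over the primes `r` satisfying `C`. -/
def coreJoin (G : Type*) [Group G] (C : ℕ → Prop) : Subgroup G :=
  sSup {A | ∃ r : ℕ, r.Prime ∧ C r ∧ A = Cfsg.pCore r G}

instance coreJoin_normal (G : Type*) [Group G] (C : ℕ → Prop) : (coreJoin G C).Normal :=
  Subgroup.sSup_normal _ (by rintro A ⟨r, -, -, rfl⟩; infer_instance)

theorem le_coreJoin {G : Type*} [Group G] (C : ℕ → Prop) (r : ℕ) (hr : r.Prime) (hC : C r) :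
    Cfsg.pCore r G ≤ coreJoin G C := le_sSup ⟨r, hr, hC, rfl⟩

theorem coreJoin_le {G : Type*} [Group G] (C : ℕ → Prop) (K : Subgroup G)
    (h : ∀ r : ℕ, r.Prime → C r → Cfsg.pCore r G ≤ K) : coreJoin G C ≤ K := by
  apply sSup_le
  rintro A ⟨r, hr, hC, rfl⟩
  exact h r hr hC

theorem coreJoin_primes {G : Type*} [Group G] [Finite G] (C : ℕ → Prop) (s : ℕ) (hs : s.Prime)
    (hdvd : s ∣ Nat.card ↥(coreJoin G C)) : C s := by
  have key : ∀ s : ℕ, s.Prime → s ∣ Nat.card ↥(coreJoin G C) → C s := by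
    unfold coreJoin
    refine Helper9.sSup_normal_induction
      (fun A => ∀ s : ℕ, s.Prime → s ∣ Nat.card ↥A → C s) ?_ ?_ _ ?_
    · intro s hs hd
      rw [Subgroup.card_bot] at hd
      exact absurd (Nat.dvd_one.1 hd) hs.ne_one
    · intro A B hA hB pA pB s hs hd
      haveI := hB
      have h1 := hd.trans (Helper9.card_sup_dvd A B)
      rcases (Nat.Prime.dvd_mul hs).1 h1 with h | h
      · exact pA s hs h
      · exact pB s hs h
    · rintro A ⟨r, hr, hC, rfl⟩
      refine ⟨inferInstance, ?_⟩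
      intro s hs hd
      haveI : Fact r.Prime := ⟨hr⟩
      obtain ⟨j, hj⟩ := (Helper9.pCore_isPGroup (G := G) r).exists_card_eq
      rw [hj] at hd
      have h1 := (Nat.prime_dvd_prime_iff_eq hs hr).1 (hs.dvd_of_dvd_pow hd)
      rw [h1]; exact hC
  exact key s hs hdvd

/-- `C_G(F(G)) ≤ F(G)` for solvable `G`. -/
theorem centralizer_fitting_le {G : Type*} [Group G] [Finite G] [Group.IsSolvable G] :
    Subgroup.centralizer (Cfsg.fittingSubgroup G : Set G) ≤ Cfsg.fittingSubgroup G := by
  have h := Helper9.solvable_le_center_fitting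
    (Subgroup.centralizer (Cfsg.fittingSubgroup G : Set G)) le_rfl Subgroup.le_normalizer
    inferInstance
  intro x hx
  obtain ⟨y, -, rfl⟩ := h hx
  exact y.2

theorem fitting_le_core_sup {G : Type*} [Group G] [Finite G] (q : ℕ) :
    Cfsg.fittingSubgroup G ≤ Cfsg.pCore q G ⊔ coreJoin G (fun r => r ≠ q) := by
  rw [Helper9.fitting_eq_iSup_pCore]
  apply iSup_le
  intro r
  by_cases h : (r : ℕ) = q
  · rw [h]; exact le_sup_left
  · exact (le_coreJoin _ (r : ℕ) r.2 h).trans le_sup_right

theorem mem_centralizer_coreJoin {G : Type*} [Group G] (C : ℕ → Prop) (g : G)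
    (h : ∀ r : ℕ, r.Prime → C r → g ∈ Subgroup.centralizer (Cfsg.pCore r G : Set G)) :
    g ∈ Subgroup.centralizer (coreJoin G C : Set G) := by
  have h1 : coreJoin G C ≤ Subgroup.centralizer ({g} : Set G) := by
    apply coreJoin_le
    intro r hr hC x hx
    rw [Subgroup.mem_centralizer_iff]
    intro y hy
    rw [Set.mem_singleton_iff] at hy
    rw [hy]
    exact (Subgroup.mem_centralizer_iff.1 (h r hr hC) x hx).symm
  rw [Subgroup.mem_centralizer_iff]
  intro x hx
  have h2 := Subgroup.mem_centralizer_iff.1 (h1 hx) g (Set.mem_singleton g)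
  exact h2.symm

theorem normal_of_commutator_le {G : Type*} [Group G] (M : Subgroup G)
    (h : commutator G ≤ M) : M.Normal := by
  refine ⟨fun m hm g => ?_⟩
  have h1 : ⁅g, m⁆ ∈ commutator G := by
    rw [commutator_def]
    exact Subgroup.commutator_mem_commutator (Subgroup.mem_top g) (Subgroup.mem_top m)
  have h2 : g * m * g⁻¹ = ⁅g, m⁆ * m := by
    rw [commutatorElement_def]; group
  rw [h2]
  exact M.mul_mem (h h1) hm

/-- A `q`-element of the derived subgroup lies in `O_q(G)`. -/
theorem derived_pelt_mem_pCore {G : Type u} [Group G] [Finite G] [Group.IsSolvable G]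
    (hodd : Odd (Nat.card G))
    (hrk : ∀ r : ℕ, r.Prime → Cfsg.PRankLE r 2 ↥(Cfsg.pCore r G))
    (q : ℕ) (hq : q.Prime) (g : G) (hg : g ∈ commutator G) (k : ℕ) (hgk : g ^ (q ^ k) = 1) :
    g ∈ Cfsg.pCore q G := by
  classical
  haveI : Fact q.Prime := ⟨hq⟩
  by_cases hq2 : q = 2
  · subst hq2
    have h2 : g ^ Nat.card G = 1 := pow_card_eq_one'
    have hcop : Nat.Coprime (2 ^ k) (Nat.card G) :=
      Nat.Coprime.pow_left k (Nat.coprime_two_left.mpr hodd)
    rw [eq_one_of_pow_pow_coprime g _ _ hgk h2 hcop]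
    exact Subgroup.one_mem _
  obtain ⟨L, hL⟩ : ∃ L : Subgroup G, L = coreJoin G (fun r => r ≠ q) := ⟨_, rfl⟩
  haveI hLn : L.Normal := by rw [hL]; infer_instance
  have hFle : Cfsg.fittingSubgroup G ≤ Cfsg.pCore q G ⊔ L := by
    rw [hL]; exact fitting_le_core_sup q
  obtain ⟨D, hD⟩ : ∃ D : Subgroup G, D = commutator G ⊓ Subgroup.centralizer (L : Set G) :=
    ⟨_, rfl⟩
  haveI hDn : D.Normal := by rw [hD]; infer_instance
  have hDle : D ≤ Subgroup.centralizer (L : Set G) := by rw [hD]; exact inf_le_right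
  have hDle' : D ≤ commutator G := by rw [hD]; exact inf_le_left
  have hgD : g ∈ D := by
    rw [hD]
    refine ⟨hg, ?_⟩
    rw [hL]
    exact mem_centralizer_coreJoin _ g
      (fun r hr hrq => derived_centralizes hodd hrk q hq g hg k hgk r hr hrq)
  -- every element of D has a q-power in L
  have hpow : ∀ x ∈ D, ∃ m : ℕ, x ^ (q ^ m) ∈ L := by
    intro x hx
    obtain ⟨m, hm⟩ := rank2_derived_pgroup hq2 (Helper9.pCore_isPGroup q) (hrk q hq) hodd
      (MulAut.conjNormal : G →* MulAut ↥(Cfsg.pCore q G)) x (hDle' hx)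
    have h1 : x ^ (q ^ m) ∈ Subgroup.centralizer (Cfsg.pCore q G : Set G) := by
      apply conj_trivial_mem_centralizer
      rw [map_pow]; exact hm
    have h2 : x ^ (q ^ m) ∈ Subgroup.centralizer (L : Set G) := hDle (D.pow_mem hx _)
    have h3 : x ^ (q ^ m) ∈ Subgroup.centralizer (Cfsg.fittingSubgroup G : Set G) := by
      rw [Subgroup.mem_centralizer_iff]
      intro f hf
      obtain ⟨a, ha, b, hb, rfl⟩ := Subgroup.mem_sup_of_normal_right.1 (hFle hf)
      have e1 := Subgroup.mem_centralizer_iff.1 h1 a ha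
      have e2 := Subgroup.mem_centralizer_iff.1 h2 b hb
      rw [mul_assoc, e2, ← mul_assoc, e1, mul_assoc]
    have h4 : x ^ (q ^ m) ∈ Cfsg.pCore q G ⊔ L := hFle (centralizer_fitting_le h3)
    obtain ⟨j, hj⟩ := (Helper9.pCore_isPGroup (G := G) q).exists_card_eq
    have h5 := pow_card_mem_of_sup _ L h4
    rw [hj, ← pow_mul, ← pow_add] at h5
    exact ⟨_, h5⟩
  -- D is nilpotent
  have hDnil : Group.IsNilpotent ↥D := by
    have hqgrp : IsPGroup q (↥D ⧸ L.subgroupOf D) := by
      intro y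
      obtain ⟨x, rfl⟩ := QuotientGroup.mk_surjective y
      obtain ⟨m, hm⟩ := hpow (x : G) x.2
      refine ⟨m, ?_⟩
      rw [← QuotientGroup.mk_pow, QuotientGroup.eq_one_iff]
      exact Subgroup.mem_subgroupOf.2 (by rw [Subgroup.coe_pow]; exact hm)
    haveI : Group.IsNilpotent (↥D ⧸ L.subgroupOf D) := hqgrp.isNilpotent
    apply Subgroup.isNilpotent_of_ker_le_center (QuotientGroup.mk' (L.subgroupOf D))
    rw [QuotientGroup.ker_mk']
    intro z hz
    rw [Subgroup.mem_center_iff]
    intro w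
    have hzL : (z : G) ∈ L := Subgroup.mem_subgroupOf.1 hz
    have hwC := hDle w.2
    apply Subtype.ext
    exact (Subgroup.mem_centralizer_iff.1 hwC (z : G) hzL).symm
  have hz : IsPGroup q ↥(Subgroup.zpowers (⟨g, hgD⟩ : ↥D)) := by
    have h1 : orderOf (⟨g, hgD⟩ : ↥D) ∣ q ^ k :=
      orderOf_dvd_of_pow_eq_one (Subtype.ext (by simpa using hgk))
    obtain ⟨j, -, hj⟩ := (Nat.dvd_prime_pow hq).1 h1
    exact IsPGroup.of_card (by rw [Nat.card_zpowers, hj])
  obtain ⟨Q', hQ'⟩ := hz.exists_le_sylow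
  have h1 := Helper9.normal_sylow_map_le_pCore D hDnil q Q'
  exact h1 ⟨⟨g, hgD⟩, hQ' (Subgroup.mem_zpowers _), rfl⟩

/-- The derived subgroup lies in the Fitting subgroup. -/
theorem rank2_derived_le_fitting {G : Type u} [Group G] [Finite G] [Group.IsSolvable G]
    (hodd : Odd (Nat.card G))
    (hrk : ∀ r : ℕ, r.Prime → Cfsg.PRankLE r 2 ↥(Cfsg.pCore r G)) :
    commutator G ≤ Cfsg.fittingSubgroup G := by
  have h1 : commutator G = (⊤ : Subgroup ↥(commutator G)).map (commutator G).subtype := by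
    rw [← MonoidHom.range_eq_map, Subgroup.range_subtype]
  rw [h1, ← Helper9.iSup_sylow_eq_top ↥(commutator G), Subgroup.map_iSup]
  apply iSup_le
  intro q
  rw [Subgroup.map_iSup]
  apply iSup_le
  intro P
  have hq : (q : ℕ).Prime := Nat.prime_of_mem_primeFactors q.2
  haveI : Fact (q : ℕ).Prime := ⟨hq⟩
  rintro x ⟨y, hy, rfl⟩
  obtain ⟨k, hk⟩ := P.isPGroup' ⟨y, hy⟩
  have hk1 : (y : ↥(commutator G)) ^ ((q : ℕ) ^ k) = 1 := by
    have := congrArg Subtype.val hk
    simpa using this
  have hk' : ((y : ↥(commutator G)) : G) ^ ((q : ℕ) ^ k) = 1 := by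
    rw [← Subgroup.coe_pow, hk1]; rfl
  exact Helper9.pCore_le_fitting (q : ℕ)
    (derived_pelt_mem_pCore hodd hrk q hq _ y.2 k hk')

/-- Characteristic subgroups of a Sylow subgroup inside the derived subgroup are normal. -/
theorem rank2_char_normal {G : Type u} [Group G] [Finite G] [Group.IsSolvable G]
    (hodd : Odd (Nat.card G))
    (hrk : ∀ r : ℕ, r.Prime → Cfsg.PRankLE r 2 ↥(Cfsg.pCore r G))
    (q : ℕ) [Fact q.Prime] (S : Sylow q G) (T : Subgroup ↥(S : Subgroup G))
    (hT : T.Characteristic)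
    (hle : T.map (S : Subgroup G).subtype ≤ ⁅(S : Subgroup G), (S : Subgroup G)⁆) :
    (T.map (S : Subgroup G).subtype).Normal := by
  classical
  have hq : q.Prime := Fact.out
  obtain ⟨T', hT'⟩ : ∃ T' : Subgroup G, T' = T.map (S : Subgroup G).subtype := ⟨_, rfl⟩
  rw [← hT'] at hle ⊢
  have hT'S : T' ≤ (S : Subgroup G) := by
    rw [hT']; rintro x ⟨y, -, rfl⟩; exact y.2
  have hT'G : T' ≤ commutator G := by
    refine hle.trans ?_
    rw [commutator_def]
    exact Subgroup.commutator_mono le_top le_top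
  have hT'O : T' ≤ Cfsg.pCore q G := by
    intro x hx
    obtain ⟨k, hk⟩ := S.isPGroup' ⟨x, hT'S hx⟩
    have hk' : x ^ (q ^ k) = 1 := by
      have := congrArg Subtype.val hk
      simpa using this
    exact derived_pelt_mem_pCore hodd hrk q hq x (hT'G hx) k hk'
  have hOS : Cfsg.pCore q G ≤ (S : Subgroup G) :=
    Helper1.normal_pgroup_le_sylow (Cfsg.pCore q G) (Helper9.pCore_isPGroup q) S
  have hNSN : Subgroup.normalizer ((S : Subgroup G) : Set G) ≤
      Subgroup.normalizer (T' : Set G) := by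
    rw [hT']
    haveI := hT
    exact Helper9.char_map_normalizer (S : Subgroup G) T
  have hSN : (S : Subgroup G) ≤ Subgroup.normalizer (T' : Set G) :=
    Subgroup.le_normalizer.trans hNSN
  have hFN : Cfsg.fittingSubgroup G ≤ Subgroup.normalizer (T' : Set G) := by
    rw [Helper9.fitting_eq_iSup_pCore]
    apply iSup_le
    intro r
    by_cases h : (r : ℕ) = q
    · rw [h]; exact hOS.trans hSN
    · haveI : Fact (r : ℕ).Prime := ⟨r.2⟩
      have hdis : Disjoint (Cfsg.pCore (r : ℕ) G) (Cfsg.pCore q G) :=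
        IsPGroup.disjoint_of_ne (r : ℕ) q h _ _ (Helper9.pCore_isPGroup _)
          (Helper9.pCore_isPGroup _)
      have hcz : Cfsg.pCore (r : ℕ) G ≤ Subgroup.centralizer (T' : Set G) := by
        intro x hx
        rw [Subgroup.mem_centralizer_iff]
        intro t ht
        exact (Subgroup.commute_of_normal_of_disjoint _ _ inferInstance inferInstance hdis
          x t hx (hT'O ht)).eq.symm
      exact hcz.trans (Subgroup.centralizer_le_normalizer _)
  obtain ⟨M, hM⟩ : ∃ M : Subgroup G, M = (S : Subgroup G) ⊔ Cfsg.fittingSubgroup G :=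
    ⟨_, rfl⟩
  have hGM : commutator G ≤ M := by
    rw [hM]; exact (rank2_derived_le_fitting hodd hrk).trans le_sup_right
  haveI hMn : M.Normal := normal_of_commutator_le M hGM
  have hSM : (S : Subgroup G) ≤ M := by rw [hM]; exact le_sup_left
  have hMN : M ≤ Subgroup.normalizer (T' : Set G) := by
    rw [hM]; exact sup_le hSN hFN
  have hfr := Sylow.normalizer_sup_eq_top' S hSM
  rw [← Subgroup.normalizer_eq_top_iff, eq_top_iff, ← hfr]
  exact sup_le hNSN hMN

theorem normal_hall_char {G : Type*} [Group G] [Finite G] (π : Set ℕ) (N : Subgroup G)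
    (hN : N.Normal) (hH : Cfsg.IsPiHall π N) : N.Characteristic := by
  haveI := hN
  rw [Subgroup.characteristic_iff_map_le]
  intro φ
  rintro x ⟨y, hy, rfl⟩
  have h1 : (φ.toMonoidHom y) ^ Nat.card N = 1 := by
    rw [← map_pow, pow_card_of_mem N hy, map_one]
  have hcop : Nat.Coprime (Nat.card N) (N.relIndex ⊤) := by
    rw [Subgroup.relIndex_top_right]
    apply Nat.coprime_of_dvd
    intro s hs hs1 hs2
    exact hH.2 s hs (hH.1 s hs hs1) hs2
  exact mem_of_coprime_relIndex N ⊤ _ (Subgroup.mem_top _) _ h1 hcop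

/-- The Sylow tower: normal Hall subgroups for the primes greater than `p`. -/
theorem rank2_tower {G : Type u} [Group G] [Finite G] [Group.IsSolvable G]
    (hodd : Odd (Nat.card G))
    (hrk : ∀ r : ℕ, r.Prime → Cfsg.PRankLE r 2 ↥(Cfsg.pCore r G)) :
    ∀ (d p : ℕ), Nat.card G ≤ p + d →
      ∃ N : Subgroup G, N.Normal ∧ Cfsg.IsPiHall {q | q.Prime ∧ p < q} N := by
  classical
  intro d
  induction d with
  | zero =>
    intro p hp
    refine ⟨⊥, inferInstance, ?_, ?_⟩
    · intro s hs hd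
      rw [Subgroup.card_bot] at hd
      exact absurd (Nat.dvd_one.1 hd) hs.ne_one
    · rintro s hs ⟨-, hps⟩ hd
      rw [Subgroup.index_bot] at hd
      have := Nat.le_of_dvd Nat.card_pos hd
      omega
  | succ d ih =>
    intro p hp
    obtain ⟨N', hN'n, hN'1, hN'2⟩ := ih (p + 1) (by omega)
    by_cases hpr : (p + 1).Prime
    · obtain ⟨q₀, hq₀⟩ : ∃ q₀ : ℕ, q₀ = p + 1 := ⟨_, rfl⟩
      rw [← hq₀] at hpr hN'1 hN'2
      haveI : Fact q₀.Prime := ⟨hpr⟩
      obtain ⟨S⟩ : Nonempty (Sylow q₀ G) := inferInstance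
      haveI := hN'n
      obtain ⟨N, hN⟩ : ∃ N : Subgroup G, N = (S : Subgroup G) ⊔ N' := ⟨_, rfl⟩
      have hSN : (S : Subgroup G) ≤ N := by rw [hN]; exact le_sup_left
      have hN'N : N' ≤ N := by rw [hN]; exact le_sup_right
      have hNpr : ∀ s : ℕ, s.Prime → s ∣ Nat.card N → q₀ ≤ s := by
        intro s hs hd
        rw [hN] at hd
        have h1 := hd.trans (Helper9.card_sup_dvd (S : Subgroup G) N')
        rcases (Nat.Prime.dvd_mul hs).1 h1 with h | h
        · obtain ⟨j, hj⟩ := S.isPGroup'.exists_card_eq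
          rw [hj] at h
          exact le_of_eq ((Nat.prime_dvd_prime_iff_eq hs hpr).1 (hs.dvd_of_dvd_pow h)).symm
        · exact le_of_lt (hN'1 s hs h).2
      have hHall : Cfsg.IsPiHall {q | q.Prime ∧ p < q} N := by
        refine ⟨fun s hs hd => ⟨hs, by have := hNpr s hs hd; omega⟩, ?_⟩
        rintro s hs ⟨-, hps⟩ hd
        by_cases hsq : s = q₀
        · rw [hsq] at hd
          exact S.not_dvd_index (hd.trans (Subgroup.index_dvd_of_le hSN))
        · exact hN'2 s hs ⟨hs, by omega⟩ (hd.trans (Subgroup.index_dvd_of_le hN'N))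
      obtain ⟨L, hL⟩ : ∃ L : Subgroup G, L = coreJoin G (fun r => r < q₀) := ⟨_, rfl⟩
      haveI hLn : L.Normal := by rw [hL]; infer_instance
      obtain ⟨M, hM⟩ : ∃ M : Subgroup G, M = N ⊔ L := ⟨_, rfl⟩
      have hNM : N ≤ M := by rw [hM]; exact le_sup_left
      have hLM : L ≤ M := by rw [hM]; exact le_sup_right
      have hFM : Cfsg.fittingSubgroup G ≤ M := by
        rw [Helper9.fitting_eq_iSup_pCore]
        apply iSup_le
        intro r
        haveI : Fact (r : ℕ).Prime := ⟨r.2⟩
        rcases lt_trichotomy (r : ℕ) q₀ with h | h | h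
        · rw [hL] at hLM; exact (le_coreJoin _ (r : ℕ) r.2 h).trans hLM
        · rw [h]
          exact ((Helper1.normal_pgroup_le_sylow (Cfsg.pCore q₀ G)
            (Helper9.pCore_isPGroup q₀) S).trans hSN).trans hNM
        · have hON' : Cfsg.pCore (r : ℕ) G ≤ N' := by
            intro x hx
            obtain ⟨j, hj⟩ := (Helper9.pCore_isPGroup (G := G) (r : ℕ)).exists_card_eq
            have h1 : x ^ ((r : ℕ) ^ j) = 1 := by rw [← hj]; exact pow_card_of_mem _ hx
            have hcop : Nat.Coprime ((r : ℕ) ^ j) (N'.relIndex ⊤) := by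
              rw [Subgroup.relIndex_top_right]
              apply Nat.Coprime.pow_left
              rw [Nat.Prime.coprime_iff_not_dvd r.2]
              exact hN'2 (r : ℕ) r.2 ⟨r.2, h⟩
            exact mem_of_coprime_relIndex N' ⊤ x (Subgroup.mem_top _) _ h1 hcop
          exact hON'.trans (hN'N.trans hNM)
      have hGM : commutator G ≤ M := (rank2_derived_le_fitting hodd hrk).trans hFM
      haveI hMn : M.Normal := normal_of_commutator_le M hGM
      have hLcN : L ≤ Subgroup.centralizer (N : Set G) := by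
        rw [hL]
        apply coreJoin_le
        intro r hr hrq
        haveI : Fact r.Prime := ⟨hr⟩
        have hcS : (S : Subgroup G) ≤ Subgroup.centralizer (Cfsg.pCore r G : Set G) := by
          intro x hx
          obtain ⟨k, hk⟩ := S.isPGroup' ⟨x, hx⟩
          have hk' : x ^ (q₀ ^ k) = 1 := by
            have := congrArg Subtype.val hk
            simpa using this
          exact big_prime_centralizes hodd hrk q₀ hpr x k hk' r hr hrq
        have hcN' : N' ≤ Subgroup.centralizer (Cfsg.pCore r G : Set G) := by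
          have hdis : Disjoint N' (Cfsg.pCore r G) := by
            rw [Subgroup.disjoint_def]
            intro x hx1 hx2
            obtain ⟨j, hj⟩ := (Helper9.pCore_isPGroup (G := G) r).exists_card_eq
            have h1 : x ^ (r ^ j) = 1 := by rw [← hj]; exact pow_card_of_mem _ hx2
            have h2 : x ^ Nat.card N' = 1 := pow_card_of_mem _ hx1
            have hcop : Nat.Coprime (r ^ j) (Nat.card N') := by
              apply Nat.Coprime.pow_left
              rw [Nat.Prime.coprime_iff_not_dvd hr]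
              intro hd
              have := (hN'1 r hr hd).2
              omega
            exact eq_one_of_pow_pow_coprime x _ _ h1 h2 hcop
          intro x hx
          rw [Subgroup.mem_centralizer_iff]
          intro t ht
          exact (Subgroup.commute_of_normal_of_disjoint _ _ hN'n inferInstance hdis
            x t hx ht).eq.symm
        have hNc : N ≤ Subgroup.centralizer (Cfsg.pCore r G : Set G) := by
          rw [hN]; exact sup_le hcS hcN'
        exact Subgroup.le_centralizer_iff.1 hNc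
      have hMnorm : M ≤ Subgroup.normalizer (N : Set G) := by
        rw [hM]
        exact sup_le Subgroup.le_normalizer (hLcN.trans (Subgroup.centralizer_le_normalizer _))
      have hNsub : (N.subgroupOf M).Normal :=
        (Subgroup.normal_subgroupOf_iff_le_normalizer hNM).2 hMnorm
      have hidx : N.relIndex M ∣ Nat.card L := by
        have h1 : (⊥ : Subgroup G).relIndex N * N.relIndex M = (⊥ : Subgroup G).relIndex M :=
          Subgroup.relIndex_mul_relIndex _ _ _ bot_le hNM
        rw [Subgroup.relIndex_bot_left, Subgroup.relIndex_bot_left] at h1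
        have h2 : Nat.card M ∣ Nat.card N * Nat.card L := by
          rw [hM]; exact Helper9.card_sup_dvd N L
        rw [← h1] at h2
        exact Nat.dvd_of_mul_dvd_mul_left Nat.card_pos h2
      have hcopNM : Nat.Coprime (Nat.card N) (N.relIndex M) := by
        apply Nat.coprime_of_dvd
        intro s hs hs1 hs2
        have h1 := hNpr s hs hs1
        have h2 : s < q₀ := by
          have h3 := hs2.trans hidx
          rw [hL] at h3
          exact coreJoin_primes _ s hs h3
        omega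
      have hNn : N.Normal := by
        refine ⟨fun n hn g => ?_⟩
        have h1 : g * n * g⁻¹ ∈ M := hMn.conj_mem n (hNM hn) g
        have h2 : (g * n * g⁻¹) ^ Nat.card N = 1 := by
          rw [conj_pow, pow_card_of_mem N hn]; group
        exact mem_of_coprime_relIndex' N M hNsub _ h1 _ h2 hcopNM
      exact ⟨N, hNn, hHall⟩
    · refine ⟨N', hN'n, ?_, ?_⟩
      · intro s hs hd
        exact ⟨hs, by have := (hN'1 s hs hd).2; omega⟩
      · rintro s hs ⟨-, hps⟩ hd
        have hne : s ≠ p + 1 := by rintro rfl; exact hpr hs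
        exact hN'2 s hs ⟨hs, by omega⟩ hd

/-- Solvable groups of odd order whose Fitting subgroup has rank at most 2. -/
theorem rank2_fit {G : Type u} [Group G] [Finite G] [Group.IsSolvable G]
    (hodd : Odd (Nat.card G))
    (hr : Cfsg.RankLE 2 G ∨ Cfsg.RankLE 2 (Cfsg.fittingSubgroup G)) :
    Group.IsNilpotent ↥(commutator G) ∧
      (∀ (q : ℕ) [Fact q.Prime] (S : Sylow q G) (T : Subgroup ↥(S : Subgroup G)),
        T.Characteristic →
        T.map (S : Subgroup G).subtype ≤ ⁅(S : Subgroup G), (S : Subgroup G)⁆ →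
        (T.map (S : Subgroup G).subtype).Normal) ∧
      ∀ p : ℕ, ∃ N : Subgroup G, N.Characteristic ∧ Cfsg.IsPiHall {q | q.Prime ∧ p < q} N := by
  have hrk : ∀ r : ℕ, r.Prime → Cfsg.PRankLE r 2 ↥(Cfsg.pCore r G) := by
    intro r hr'
    haveI : Fact r.Prime := ⟨hr'⟩
    rcases hr with h | h
    · exact prankLE_of_injective (Cfsg.pCore r G).subtype (Subgroup.subtype_injective _) r 2
        (h r hr')
    · exact prankLE_of_injective (Subgroup.inclusion (Helper9.pCore_le_fitting r))
        (Subgroup.inclusion_injective _) r 2 (h r hr')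
  refine ⟨Cfsg.Agent.S1474.nil_of_le (rank2_derived_le_fitting hodd hrk)
    Helper9.fitting_nilpotent, ?_, ?_⟩
  · intro q _ S T hT hle
    exact rank2_char_normal hodd hrk q S T hT hle
  · intro p
    obtain ⟨N, hNn, hNH⟩ := rank2_tower hodd hrk (Nat.card G) p (by omega)
    exact ⟨N, normal_hall_char _ N hNn hNH, hNH⟩

end Cfsg.Agent.Helper10
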