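import Mathlib
import Cfsg.Prelude.Def_OddOrderLocal
import Cfsg.Agent.Helper10.Rank2Act
import Cfsg.Agent.Helper10.Rank2Fit
import Cfsg.Agent.S1453

/-!
Automorphisms of narrow `p`-groups: the derived subgroup of any group of automorphisms of a
narrow `p`-group of rank at least 3 is a `p`-group (Bender–Glauberman, Theorem 5.5(a)).
-/

set_option autoImplicit false

universe u

namespace Cfsg.Agent.Helper10

open scoped commutatorElement

/-- For a `p`-group `R` (`p` odd) there is a subgroup `E` of exponent `p`, invariant under all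
automorphisms, on which every automorphism of order prime to `p` acts nontrivially. -/
theorem crit_omega {R : Type*} [Group R] [Finite R] {p : ℕ} [Fact p.Prime] (hp2 : p ≠ 2)
    (hR : IsPGroup p R) :
    ∃ E : Subgroup R, (∀ φ : MulAut R, ∀ x ∈ E, φ x ∈ E) ∧ (∀ a ∈ E, a ^ p = 1) ∧
      (∀ (q : ℕ), Nat.Coprime q p → ∀ α : MulAut R, α ^ q = 1 → (∀ x ∈ E, α x = x) → α = 1) := by
  classical
  have hp : p.Prime := Fact.out
  obtain ⟨H, hHch, hΦ, hHR, hCH⟩ := Cfsg.Agent.Helper24.exists_critical_subgroup hR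
  haveI := hHch
  have hHnormal : H.Normal := inferInstance
  have hHfix : ∀ φ : MulAut R, ∀ x ∈ H, φ x ∈ H := by
    intro φ x hx
    have h1 := (Subgroup.characteristic_iff_le_comap.mp hHch) φ
    exact h1 hx
  have hcomm : ∀ a ∈ H, ∀ b : R,
      a * b * a⁻¹ * b⁻¹ ∈ H ⊓ Subgroup.centralizer (H : Set R) := by
    intro a ha b
    have h1 : ⁅a, b⁆ ∈ ⁅H, (⊤ : Subgroup R)⁆ :=
      Subgroup.commutator_mem_commutator ha (Subgroup.mem_top b)
    rw [commutatorElement_def] at h1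
    exact hHR h1
  have hcen : ∀ a ∈ H, ∀ b : R, ∀ h ∈ H,
      h * (a * b * a⁻¹ * b⁻¹) = (a * b * a⁻¹ * b⁻¹) * h := by
    intro a ha b h hh
    exact (Subgroup.mem_centralizer_iff.mp (Subgroup.mem_inf.mp (hcomm a ha b)).2) h hh
  have hpowc : ∀ y ∈ H, ∀ h ∈ H, h * y ^ p = y ^ p * h := by
    intro y hy h hh
    have h1 : (⟨y, hy⟩ : H) ^ p ∈ frattini H := by
      rw [Cfsg.Agent.Helper1.mem_frattini_iff]
      intro M hM
      exact (Cfsg.Agent.Helper1.coatom_pgroup p (hR.to_subgroup H) M hM).2.2 _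
    have h2 : y ^ p ∈ (frattini H).map H.subtype := by
      refine Subgroup.mem_map.mpr ⟨_, h1, ?_⟩
      simp
    exact (Subgroup.mem_centralizer_iff.mp (hΦ h2)) h hh
  have hmulpow : ∀ a ∈ H, ∀ b ∈ H, (a * b) ^ p = a ^ p * b ^ p := by
    intro a ha b hb
    obtain ⟨c, hcdef⟩ : ∃ c : R, c = b * a * b⁻¹ * a⁻¹ := ⟨_, rfl⟩
    have hc : b * a = c * a * b := by rw [hcdef]; group
    have hcc : ∀ h ∈ H, h * c = c * h := by
      intro h hh
      rw [hcdef]
      exact hcen b hb a h hh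
    exact Cfsg.Agent.S0640.mul_pow_p p hp hp2 a b c hc (hcc a ha).symm (hcc b hb).symm
      (hpowc b hb a ha).symm
  obtain ⟨E, hEmem⟩ : ∃ E : Subgroup R, ∀ x, x ∈ E ↔ x ∈ H ∧ x ^ p = 1 :=
    ⟨Cfsg.Agent.S0640.omegaSub H p hmulpow, fun x => Iff.rfl⟩
  have hEexp : ∀ a ∈ E, a ^ p = 1 := fun a ha => ((hEmem a).mp ha).2
  have hEfix : ∀ φ : MulAut R, ∀ x ∈ E, φ x ∈ E := by
    intro φ x hx
    have hx' := (hEmem x).mp hx
    refine (hEmem _).mpr ⟨hHfix φ x hx'.1, ?_⟩
    rw [← map_pow, hx'.2, map_one]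
  refine ⟨E, hEfix, hEexp, ?_⟩
  intro q hcop α hαq hfixE
  have hall : ∀ j : ℕ, ∀ x ∈ H, x ^ (p ^ j) = 1 → α x = x := by
    intro j
    induction j with
    | zero =>
      intro x _ hx
      rw [pow_zero, pow_one] at hx
      rw [hx, map_one]
    | succ j ih =>
      intro x hxH hx
      have hxp : α (x ^ p) = x ^ p := by
        apply ih (x ^ p) (H.pow_mem hxH p)
        rw [← pow_mul, ← pow_succ']
        exact hx
      obtain ⟨t, htdef⟩ : ∃ t : R, t = x⁻¹ * α x := ⟨_, rfl⟩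
      have hxt : α x = x * t := by rw [htdef, mul_inv_cancel_left]
      have htH : t ∈ H := by
        rw [htdef]
        exact H.mul_mem (H.inv_mem hxH) (hHfix α x hxH)
      have htp : t ^ p = 1 := by
        rw [htdef, hmulpow _ (H.inv_mem hxH) _ (hHfix α x hxH), inv_pow, ← map_pow, hxp,
          inv_mul_cancel]
      have htE : t ∈ E := (hEmem t).mpr ⟨htH, htp⟩
      have ht1 : t = 1 :=
        Cfsg.Agent.S0640.aut_stab hcop α hαq x t hxt (hfixE t htE) 1 (by rw [pow_one]; exact htp)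
      rw [hxt, ht1, mul_one]
  have hfix : ∀ x ∈ H, α x = x := by
    intro x hx
    obtain ⟨j, hj⟩ := hR x
    exact hall j x hx hj
  ext g
  rw [MulAut.one_apply]
  obtain ⟨t, htdef⟩ : ∃ t : R, t = g⁻¹ * α g := ⟨_, rfl⟩
  have hgt : α g = g * t := by rw [htdef, mul_inv_cancel_left]
  have htC : t ∈ Subgroup.centralizer (H : Set R) := by
    rw [Subgroup.mem_centralizer_iff]
    intro h hh
    have h1 : g * h * g⁻¹ ∈ H := hHnormal.conj_mem h hh g
    have h2 := hfix _ h1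
    rw [map_mul, map_mul, map_inv, hgt, hfix h hh] at h2
    have h3 : g * (t * h) = g * (h * t) := by
      calc g * (t * h) = g * t * h * (g * t)⁻¹ * (g * t) := by group
        _ = g * h * g⁻¹ * (g * t) := by rw [h2]
        _ = g * (h * t) := by group
    exact (mul_left_cancel h3).symm
  have htH : t ∈ H := hCH htC
  obtain ⟨j, hj⟩ := hR t
  have ht1 : t = 1 := Cfsg.Agent.S0640.aut_stab hcop α hαq g t hgt (hfix t htH) j hj
  rw [hgt, ht1, mul_one]

/-- The join of two elementwise commuting elementary abelian subgroups is elementary abelian. -/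
theorem elemAb_sup {G : Type*} [Group G] (p : ℕ) (X Y : Subgroup G)
    (hX : Cfsg.IsElementaryAbelian p X) (hY : Cfsg.IsElementaryAbelian p Y)
    (hXY : ∀ a ∈ X, ∀ b ∈ Y, a * b = b * a) : Cfsg.IsElementaryAbelian p (X ⊔ Y) := by
  have hXc : ∀ a ∈ X, ∀ b ∈ X, a * b = b * a := by
    intro a ha b hb
    haveI := hX.1
    exact congrArg Subtype.val (mul_comm' (⟨a, ha⟩ : X) ⟨b, hb⟩)
  have hYc : ∀ a ∈ Y, ∀ b ∈ Y, a * b = b * a := by
    intro a ha b hb
    haveI := hY.1
    exact congrArg Subtype.val (mul_comm' (⟨a, ha⟩ : Y) ⟨b, hb⟩)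
  have h1 : X ⊔ Y ≤ Subgroup.centralizer ((X ⊔ Y : Subgroup G) : Set G) := by
    have hX1 : X ≤ Subgroup.centralizer ((X ⊔ Y : Subgroup G) : Set G) := by
      rw [Subgroup.le_centralizer_iff]
      apply sup_le
      · intro a ha
        rw [Subgroup.mem_centralizer_iff]
        intro b hb
        exact hXc b hb a ha
      · intro b hb
        rw [Subgroup.mem_centralizer_iff]
        intro a ha
        exact hXY a ha b hb
    have hY1 : Y ≤ Subgroup.centralizer ((X ⊔ Y : Subgroup G) : Set G) := by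
      rw [Subgroup.le_centralizer_iff]
      apply sup_le
      · intro a ha
        rw [Subgroup.mem_centralizer_iff]
        intro b hb
        exact (hXY a ha b hb).symm
      · intro b hb
        rw [Subgroup.mem_centralizer_iff]
        intro a ha
        exact hYc a ha b hb
    exact sup_le hX1 hY1
  have hcomm : ∀ a ∈ X ⊔ Y, ∀ b ∈ X ⊔ Y, a * b = b * a := by
    intro a ha b hb
    exact Subgroup.mem_centralizer_iff.1 (h1 hb) a ha
  have hexp : ∀ a ∈ X ⊔ Y, a ^ p = 1 := by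
    have hle : X ⊔ Y ≤ ({ carrier := {g | g ∈ X ⊔ Y ∧ g ^ p = 1}
                          mul_mem' := by
                            rintro a b ⟨ha, ha'⟩ ⟨hb, hb'⟩
                            refine ⟨Subgroup.mul_mem _ ha hb, ?_⟩
                            have hc : Commute a b := hcomm a ha b hb
                            rw [hc.mul_pow, ha', hb', one_mul]
                          one_mem' := ⟨Subgroup.one_mem _, one_pow p⟩
                          inv_mem' := by
                            rintro a ⟨ha, ha'⟩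
                            exact ⟨Subgroup.inv_mem _ ha, by rw [inv_pow, ha', inv_one]⟩ } :
                        Subgroup G) := by
      apply sup_le
      · intro a ha; exact ⟨Subgroup.mem_sup_left ha, hX.2 a ha⟩
      · intro a ha; exact ⟨Subgroup.mem_sup_right ha, hY.2 a ha⟩
    intro a ha
    exact (hle ha).2
  exact ⟨⟨⟨fun a b => Subtype.ext (hcomm a.1 a.2 b.1 b.2)⟩⟩, hexp⟩

theorem elemAb_zpowers {G : Type*} [Group G] (p : ℕ) (u : G) (hu : u ^ p = 1) :
    Cfsg.IsElementaryAbelian p (Subgroup.zpowers u) := by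
  refine ⟨⟨⟨fun a b => ?_⟩⟩, ?_⟩
  · obtain ⟨a, ha⟩ := a
    obtain ⟨b, hb⟩ := b
    obtain ⟨n, rfl⟩ := Subgroup.mem_zpowers_iff.1 ha
    obtain ⟨m, rfl⟩ := Subgroup.mem_zpowers_iff.1 hb
    apply Subtype.ext
    show u ^ n * u ^ m = u ^ m * u ^ n
    rw [← zpow_add, ← zpow_add, add_comm]
  · intro a ha
    obtain ⟨n, rfl⟩ := Subgroup.mem_zpowers_iff.1 ha
    rw [← zpow_natCast, ← zpow_mul, mul_comm, zpow_mul, zpow_natCast, hu, one_zpow]

/-- Commutators of automorphisms act trivially on an invariant cyclic section. -/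
theorem comm_triv_section {R : Type*} [Group R] (M N : Subgroup R)
    (hM : ∀ φ : MulAut R, ∀ u ∈ M, φ u ∈ M) (hN : ∀ φ : MulAut R, ∀ u ∈ N, φ u ∈ N)
    [hMn : (M.subgroupOf N).Normal] (hcyc : IsCyclic (↥N ⧸ M.subgroupOf N))
    (φ₁ φ₂ : MulAut R) (u : R) (hu : u ∈ N) : u⁻¹ * (⁅φ₁, φ₂⁆ u) ∈ M := by
  haveI := hcyc
  have key : ∀ φ : MulAut R, ∃ f : (↥N ⧸ M.subgroupOf N) →* (↥N ⧸ M.subgroupOf N),
      ∀ (v : R) (hv : v ∈ N),
        f (QuotientGroup.mk ⟨v, hv⟩) = QuotientGroup.mk ⟨φ v, hN φ v hv⟩ := by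
    intro φ
    refine ⟨QuotientGroup.map (M.subgroupOf N) (M.subgroupOf N)
      ((Cfsg.Agent.S0640.restrictAut N hN φ).toMonoidHom) ?_, ?_⟩
    · intro v hv
      rw [Subgroup.mem_comap]
      exact Subgroup.mem_subgroupOf.2 (hM φ _ (Subgroup.mem_subgroupOf.1 hv))
    · intro v hv
      rfl
  obtain ⟨f₁, hf₁⟩ := key φ₁
  obtain ⟨f₂, hf₂⟩ := key φ₂
  obtain ⟨m₁, hm₁⟩ := MonoidHom.map_cyclic f₁
  obtain ⟨m₂, hm₂⟩ := MonoidHom.map_cyclic f₂
  obtain ⟨v, hv⟩ : ∃ v : R, v = φ₁⁻¹ (φ₂⁻¹ u) := ⟨_, rfl⟩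
  have hvN : v ∈ N := by rw [hv]; exact hN _ _ (hN _ _ hu)
  have h1 : f₁ (f₂ (QuotientGroup.mk ⟨v, hvN⟩)) = f₂ (f₁ (QuotientGroup.mk ⟨v, hvN⟩)) := by
    rw [hm₁, hm₂, hm₂, hm₁, ← zpow_mul, ← zpow_mul, mul_comm]
  rw [hf₂, hf₁, hf₁, hf₂] at h1
  have h2 := QuotientGroup.eq.1 h1.symm
  have h3 : (φ₂ (φ₁ v))⁻¹ * φ₁ (φ₂ v) ∈ M := Subgroup.mem_subgroupOf.1 h2
  have e1 : φ₂ (φ₁ v) = u := by rw [hv]; simp
  have e2 : ⁅φ₁, φ₂⁆ u = φ₁ (φ₂ v) := by
    rw [hv, commutatorElement_def]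
    simp only [MulAut.mul_apply]
  rw [e2, ← e1]
  exact h3

/-- Automorphisms acting trivially on the invariant section `N / M`. -/
def sectStab {R : Type*} [Group R] (M N : Subgroup R)
    (hM : ∀ φ : MulAut R, ∀ u ∈ M, φ u ∈ M) (hN : ∀ φ : MulAut R, ∀ u ∈ N, φ u ∈ N) :
    Subgroup (MulAut R) where
  carrier := {φ | ∀ u ∈ N, u⁻¹ * φ u ∈ M}
  mul_mem' := by
    intro φ₁ φ₂ h1 h2 u hu
    have e : u⁻¹ * (φ₁ * φ₂) u = (u⁻¹ * φ₁ u) * φ₁ (u⁻¹ * φ₂ u) := by
      rw [MulAut.mul_apply, map_mul, map_inv]; group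
    rw [e]
    exact M.mul_mem (h1 u hu) (hM φ₁ _ (h2 u hu))
  one_mem' := by
    intro u hu
    simp
  inv_mem' := by
    intro φ h u hu
    have hv : φ⁻¹ u ∈ N := hN _ _ hu
    have h1 := h _ hv
    rw [MulAut.apply_inv_self] at h1
    have e : u⁻¹ * φ⁻¹ u = ((φ⁻¹ u)⁻¹ * u)⁻¹ := by group
    rw [e]
    exact M.inv_mem h1

theorem mem_sectStab {R : Type*} [Group R] (M N : Subgroup R)
    (hM : ∀ φ : MulAut R, ∀ u ∈ M, φ u ∈ M) (hN : ∀ φ : MulAut R, ∀ u ∈ N, φ u ∈ N)
    (φ : MulAut R) : φ ∈ sectStab M N hM hN ↔ ∀ u ∈ N, u⁻¹ * φ u ∈ M := Iff.rfl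

/-- Counting fibres of `u ↦ [u, x]`. -/
theorem card_le_of_comm_fiber {R : Type*} [Group R] [Finite R] (M N Ω : Subgroup R) (x : R)
    (h1 : ∀ u ∈ N, u * x * u⁻¹ * x⁻¹ ∈ M)
    (h2 : ∀ u ∈ N, ∀ u' ∈ N, u * x * u⁻¹ * x⁻¹ = u' * x * u'⁻¹ * x⁻¹ → u'⁻¹ * u ∈ Ω) :
    Nat.card N ≤ Nat.card Ω * Nat.card M := by
  classical
  obtain ⟨c, hc⟩ : ∃ c : R → R, ∀ u, c u = u * x * u⁻¹ * x⁻¹ := ⟨fun u => u * x * u⁻¹ * x⁻¹, fun _ => rfl⟩
  obtain ⟨rep, hrep⟩ : ∃ rep : R → R, ∀ u ∈ N, rep (c u) ∈ N ∧ c (rep (c u)) = c u := by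
    refine ⟨fun m => if h : ∃ w, w ∈ N ∧ c w = m then Classical.choose h else 1, ?_⟩
    intro u hu
    have hex : ∃ w, w ∈ N ∧ c w = c u := ⟨u, hu, rfl⟩
    simp only [dif_pos hex]
    exact Classical.choose_spec hex
  have hΩ : ∀ u ∈ N, (rep (c u))⁻¹ * u ∈ Ω := by
    intro u hu
    obtain ⟨hr1, hr2⟩ := hrep u hu
    apply h2 u hu _ hr1
    rw [← hc, ← hc, hr2]
  have hM : ∀ u ∈ N, c u ∈ M := by
    intro u hu
    rw [hc]; exact h1 u hu
  have hinj : Function.Injective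
      (fun u : ↥N => ((⟨(rep (c u.1))⁻¹ * u.1, hΩ u.1 u.2⟩ : ↥Ω), (⟨c u.1, hM u.1 u.2⟩ : ↥M))) := by
    intro u u' huu'
    have e1 := congrArg (fun z : ↥Ω × ↥M => (z.1 : R)) huu'
    have e2 := congrArg (fun z : ↥Ω × ↥M => (z.2 : R)) huu'
    simp only at e1 e2
    rw [e2] at e1
    exact Subtype.ext (mul_left_cancel e1)
  have h := Nat.card_le_card_of_injective _ hinj
  rwa [Nat.card_prod] at h

/-- The `(p-1)`-st power of an automorphism acts trivially on an invariant section of order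
`1` or `p`. -/
theorem pow_triv_section {R : Type*} [Group R] (p : ℕ) [Fact p.Prime] (M N : Subgroup R)
    (hM : ∀ φ : MulAut R, ∀ u ∈ M, φ u ∈ M) (hN : ∀ φ : MulAut R, ∀ u ∈ N, φ u ∈ N)
    [hMn : (M.subgroupOf N).Normal]
    (hcard : Nat.card (↥N ⧸ M.subgroupOf N) = 1 ∨ Nat.card (↥N ⧸ M.subgroupOf N) = p)
    (φ : MulAut R) (u : R) (hu : u ∈ N) : u⁻¹ * ((φ ^ (p - 1)) u) ∈ M := by
  have hpp : p.Prime := Fact.out
  rcases hcard with h1 | hp'
  · haveI : Subsingleton (↥N ⧸ M.subgroupOf N) := (Nat.card_eq_one_iff_unique.1 h1).1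
    have hall : ∀ v (hv : v ∈ N), v ∈ M := by
      intro v hv
      have h2 : (QuotientGroup.mk ⟨v, hv⟩ : ↥N ⧸ M.subgroupOf N) = 1 := Subsingleton.elim _ _
      exact Subgroup.mem_subgroupOf.1 ((QuotientGroup.eq_one_iff _).1 h2)
    exact M.mul_mem (M.inv_mem (hall u hu)) (hall _ (hN _ u hu))
  · haveI : IsCyclic (↥N ⧸ M.subgroupOf N) := isCyclic_of_prime_card hp'
    obtain ⟨f, hf⟩ : ∃ f : (↥N ⧸ M.subgroupOf N) →* (↥N ⧸ M.subgroupOf N),
        ∀ (v : R) (hv : v ∈ N),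
          f (QuotientGroup.mk ⟨v, hv⟩) = QuotientGroup.mk ⟨φ v, hN φ v hv⟩ := by
      refine ⟨QuotientGroup.map (M.subgroupOf N) (M.subgroupOf N)
        ((Cfsg.Agent.S0640.restrictAut N hN φ).toMonoidHom) ?_, ?_⟩
      · intro v hv
        rw [Subgroup.mem_comap]
        exact Subgroup.mem_subgroupOf.2 (hM φ _ (Subgroup.mem_subgroupOf.1 hv))
      · intro v hv
        rfl
    obtain ⟨m, hm⟩ := MonoidHom.map_cyclic f
    have hxp : ∀ y : ↥N ⧸ M.subgroupOf N, y ^ p = 1 := by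
      intro y
      rw [← hp']; exact pow_card_eq_one'
    have hpm : ¬ (p : ℤ) ∣ m := by
      intro hdvd
      have hall : ∀ v (hv : v ∈ N), v ∈ M := by
        intro v hv
        have hw : φ⁻¹ v ∈ N := hN _ v hv
        have h2 := hf (φ⁻¹ v) hw
        rw [hm] at h2
        obtain ⟨t, rfl⟩ := hdvd
        have h3 : (QuotientGroup.mk ⟨φ⁻¹ v, hw⟩ : ↥N ⧸ M.subgroupOf N) ^ ((p : ℤ) * t) = 1 := by
          rw [zpow_mul, zpow_natCast, hxp, one_zpow]
        rw [h3] at h2
        have h4 := (QuotientGroup.eq_one_iff _).1 h2.symm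
        have h5 : φ (φ⁻¹ v) ∈ M := Subgroup.mem_subgroupOf.1 h4
        rwa [MulAut.apply_inv_self] at h5
      have hsub : Subsingleton (↥N ⧸ M.subgroupOf N) := by
        refine ⟨fun a b => ?_⟩
        induction a using QuotientGroup.induction_on with | _ a =>
        induction b using QuotientGroup.induction_on with | _ b =>
        rw [QuotientGroup.eq]
        exact Subgroup.mem_subgroupOf.2 (hall _ (N.mul_mem (N.inv_mem a.2) b.2))
      have h1 : Nat.card (↥N ⧸ M.subgroupOf N) = 1 :=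
        Nat.card_eq_one_iff_unique.2 ⟨hsub, ⟨1⟩⟩
      rw [hp'] at h1
      exact hpp.ne_one h1
    have hcop : IsCoprime m (p : ℤ) :=
      ((Nat.prime_iff_prime_int.1 hpp).coprime_iff_not_dvd.2 hpm).symm
    have hfer := Int.ModEq.pow_card_sub_one_eq_one hpp hcop
    have hiter : ∀ k : ℕ, ∀ (v : R) (hv : v ∈ N),
        (QuotientGroup.mk ⟨(φ ^ k) v, hN _ v hv⟩ : ↥N ⧸ M.subgroupOf N) =
          (QuotientGroup.mk ⟨v, hv⟩) ^ (m ^ k) := by
      intro k
      induction k with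
      | zero =>
        intro v hv
        simp
      | succ k ih =>
        intro v hv
        have e : (φ ^ (k + 1)) v = φ ((φ ^ k) v) := by rw [pow_succ', MulAut.mul_apply]
        have e2 : (⟨(φ ^ (k + 1)) v, hN _ v hv⟩ : ↥N) =
            ⟨φ ((φ ^ k) v), hN φ _ (hN _ v hv)⟩ := Subtype.ext e
        rw [e2, ← hf ((φ ^ k) v) (hN _ v hv), hm, ih v hv, ← zpow_mul, pow_succ]
    have h1 := hiter (p - 1) u hu
    obtain ⟨t, ht⟩ := Int.modEq_iff_dvd.1 hfer
    have h2 : m ^ (p - 1) = 1 - (p : ℤ) * t := by omega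
    rw [h2, zpow_sub, zpow_one, zpow_mul, zpow_natCast, hxp, one_zpow, inv_one, mul_one] at h1
    exact Subgroup.mem_subgroupOf.1 (QuotientGroup.eq.1 h1.symm)

/-- A `p`-group with a characteristic subgroup `T` of index `p` and an element `x` whose
centralizer in `T` meets the elements of order `p` in a subgroup of order at most `p`: there is a
subgroup of `Aut R` containing all commutators and all `(p-1)`-st powers whose elements of order
prime to `p` are trivial. -/
theorem narrow_aut_triv {R : Type*} [Group R] [Finite R] {p : ℕ} [Fact p.Prime] (hp2 : p ≠ 2)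
    (hR : IsPGroup p R) (T Ω : Subgroup R) (x : R)
    (hT : ∀ φ : MulAut R, ∀ u ∈ T, φ u ∈ T) (hTi : T.index = p)
    (hΩ : Nat.card Ω ≤ p)
    (hx : ∀ u ∈ T, u ^ p = 1 → u * x = x * u → u ∈ Ω) :
    ∃ S : Subgroup (MulAut R), (∀ φ₁ φ₂ : MulAut R, ⁅φ₁, φ₂⁆ ∈ S) ∧
      (∀ φ : MulAut R, φ ^ (p - 1) ∈ S) ∧
      ∀ (m : ℕ), Nat.Coprime m p → ∀ α ∈ S, α ^ m = 1 → α = 1 := by
  classical
  have hpp : p.Prime := Fact.out
  obtain ⟨E₁, hE₁fix, hE₁exp, hE₁triv⟩ := crit_omega (R := ↥T) hp2 (hR.to_subgroup T)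
  obtain ⟨K, hK⟩ : ∃ K : Subgroup R, K = E₁.map T.subtype := ⟨_, rfl⟩
  have hKT : K ≤ T := by
    rw [hK]; rintro u ⟨v, -, rfl⟩; exact v.2
  have hKexp : ∀ u ∈ K, u ^ p = 1 := by
    rw [hK]
    rintro u ⟨v, hv, rfl⟩
    rw [← map_pow, hE₁exp v hv, map_one]
  have hKfix : ∀ φ : MulAut R, ∀ u ∈ K, φ u ∈ K := by
    intro φ u hu
    rw [hK] at hu ⊢
    obtain ⟨v, hv, rfl⟩ := hu
    exact ⟨Cfsg.Agent.S0640.restrictAut T hT φ v, hE₁fix _ v hv, rfl⟩
  haveI hKn : K.Normal := ⟨fun u hu g => by simpa using hKfix (MulAut.conj g) u hu⟩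
  haveI hTn : T.Normal := ⟨fun u hu g => by simpa using hT (MulAut.conj g) u hu⟩
  have hZfix : ∀ (j : ℕ) (φ : MulAut R), ∀ u ∈ Subgroup.upperCentralSeries R j,
      φ u ∈ Subgroup.upperCentralSeries R j := by
    intro j φ u hu
    have hch : (Subgroup.upperCentralSeries R j).Characteristic := inferInstance
    exact (Subgroup.characteristic_iff_le_comap.mp hch) φ hu
  have hNfix : ∀ (j : ℕ) (φ : MulAut R), ∀ u ∈ K ⊓ Subgroup.upperCentralSeries R j,
      φ u ∈ K ⊓ Subgroup.upperCentralSeries R j :=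
    fun j φ u hu => ⟨hKfix φ u hu.1, hZfix j φ u hu.2⟩
  have htop : ∀ φ : MulAut R, ∀ u ∈ (⊤ : Subgroup R), φ u ∈ (⊤ : Subgroup R) :=
    fun _ _ _ => Subgroup.mem_top _
  have hcardT : Nat.card (↥(⊤ : Subgroup R) ⧸ T.subgroupOf ⊤) = p := by
    rw [← Subgroup.index_eq_card]
    have h1 : T.relIndex ⊤ = T.index := Subgroup.relIndex_top_right T
    exact h1.trans hTi
  have hsec : ∀ j : ℕ,
      Nat.card (↥(K ⊓ Subgroup.upperCentralSeries R (j + 1)) ⧸
        (K ⊓ Subgroup.upperCentralSeries R j).subgroupOf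
          (K ⊓ Subgroup.upperCentralSeries R (j + 1))) = 1 ∨
      Nat.card (↥(K ⊓ Subgroup.upperCentralSeries R (j + 1)) ⧸
        (K ⊓ Subgroup.upperCentralSeries R j).subgroupOf
          (K ⊓ Subgroup.upperCentralSeries R (j + 1))) = p := by
    intro j
    obtain ⟨M, hMdef⟩ : ∃ M : Subgroup R, M = K ⊓ Subgroup.upperCentralSeries R j :=
      ⟨_, rfl⟩
    obtain ⟨N, hNdef⟩ : ∃ N : Subgroup R, N = K ⊓ Subgroup.upperCentralSeries R (j + 1) :=
      ⟨_, rfl⟩
    have hMN : M ≤ N := by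
      rw [hMdef, hNdef]
      exact inf_le_inf_left K (Subgroup.upperCentralSeries_mono R (Nat.le_succ j))
    haveI hMn : M.Normal := by
      rw [hMdef]; infer_instance
    have hcount : Nat.card N ≤ Nat.card Ω * Nat.card M := by
      apply card_le_of_comm_fiber M N Ω x
      · intro w hw
        rw [hNdef] at hw
        rw [hMdef]
        refine ⟨?_, ?_⟩
        · have h1 : x * w⁻¹ * x⁻¹ ∈ K := hKn.conj_mem _ (K.inv_mem hw.1) x
          have e : w * x * w⁻¹ * x⁻¹ = w * (x * w⁻¹ * x⁻¹) := by group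
          rw [e]
          exact K.mul_mem hw.1 h1
        · have h1 := Subgroup.mem_upperCentralSeries_succ_iff.1 hw.2 x
          rw [commutatorElement_def] at h1
          exact h1
      · intro w hw w' hw' heq
        rw [hNdef] at hw hw'
        have hK' : w'⁻¹ * w ∈ K := K.mul_mem (K.inv_mem hw'.1) hw.1
        apply hx _ (hKT hK') (hKexp _ hK')
        have e1 : w * x * w⁻¹ = w' * x * w'⁻¹ := by
          have := congrArg (fun z => z * x) heq
          simpa using this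
        calc w'⁻¹ * w * x = w'⁻¹ * (w * x * w⁻¹) * w := by group
          _ = w'⁻¹ * (w' * x * w'⁻¹) * w := by rw [e1]
          _ = x * (w'⁻¹ * w) := by group
    have hgoal : Nat.card (↥N ⧸ M.subgroupOf N) = 1 ∨ Nat.card (↥N ⧸ M.subgroupOf N) = p := by
      have hqp : IsPGroup p (↥N ⧸ M.subgroupOf N) := (hR.to_subgroup N).to_quotient _
      obtain ⟨b, hb⟩ := hqp.exists_card_eq
      have hrel : Nat.card M * Nat.card (↥N ⧸ M.subgroupOf N) = Nat.card N := by
        have h1 : (⊥ : Subgroup R).relIndex M * M.relIndex N = (⊥ : Subgroup R).relIndex N :=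
          Subgroup.relIndex_mul_relIndex _ _ _ bot_le hMN
        rw [Subgroup.relIndex_bot_left, Subgroup.relIndex_bot_left] at h1
        rw [← h1, ← Subgroup.index_eq_card]
        rfl
      have hle : Nat.card (↥N ⧸ M.subgroupOf N) ≤ p := by
        have h1 : Nat.card M * Nat.card (↥N ⧸ M.subgroupOf N) ≤ Nat.card M * p := by
          rw [hrel]
          calc Nat.card N ≤ Nat.card Ω * Nat.card M := hcount
            _ ≤ p * Nat.card M := Nat.mul_le_mul_right _ hΩ
            _ = Nat.card M * p := mul_comm _ _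
        exact Nat.le_of_mul_le_mul_left h1 Nat.card_pos
      have hb1 : b ≤ 1 := by
        by_contra hcon
        push_neg at hcon
        have h2 : p ^ 2 ≤ p ^ b := Nat.pow_le_pow_right hpp.pos hcon
        rw [hb] at hle
        have h3 : p < p ^ 2 := by
          have := hpp.one_lt
          nlinarith
        omega
      rcases Nat.le_one_iff_eq_zero_or_eq_one.1 hb1 with h0 | h1
      · left; rw [hb, h0, pow_zero]
      · right; rw [hb, h1, pow_one]
    subst hMdef hNdef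
    exact hgoal
  refine ⟨sectStab T ⊤ hT htop ⊓ ⨅ j : ℕ, sectStab (K ⊓ Subgroup.upperCentralSeries R j)
    (K ⊓ Subgroup.upperCentralSeries R (j + 1)) (hNfix j) (hNfix (j + 1)), ?_, ?_, ?_⟩
  · intro φ₁ φ₂
    refine Subgroup.mem_inf.2 ⟨?_, ?_⟩
    · rw [mem_sectStab]
      intro u hu
      exact comm_triv_section T ⊤ hT htop (isCyclic_of_prime_card hcardT) φ₁ φ₂ u hu
    · rw [Subgroup.mem_iInf]
      intro j
      rw [mem_sectStab]
      intro u hu
      have hcyc : IsCyclic (↥(K ⊓ Subgroup.upperCentralSeries R (j + 1)) ⧸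
          (K ⊓ Subgroup.upperCentralSeries R j).subgroupOf
            (K ⊓ Subgroup.upperCentralSeries R (j + 1))) := by
        rcases hsec j with h0 | h1
        · haveI : Subsingleton (↥(K ⊓ Subgroup.upperCentralSeries R (j + 1)) ⧸
              (K ⊓ Subgroup.upperCentralSeries R j).subgroupOf
                (K ⊓ Subgroup.upperCentralSeries R (j + 1))) :=
            (Nat.card_eq_one_iff_unique.1 h0).1
          exact isCyclic_of_subsingleton
        · exact isCyclic_of_prime_card h1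
      exact comm_triv_section _ _ (hNfix j) (hNfix (j + 1)) hcyc φ₁ φ₂ u hu
  · intro φ
    refine Subgroup.mem_inf.2 ⟨?_, ?_⟩
    · rw [mem_sectStab]
      intro u hu
      exact pow_triv_section p T ⊤ hT htop (Or.inr hcardT) φ u hu
    · rw [Subgroup.mem_iInf]
      intro j
      rw [mem_sectStab]
      intro u hu
      exact pow_triv_section p _ _ (hNfix j) (hNfix (j + 1)) (hsec j) φ u hu
  · intro m hm α hα hαm
    obtain ⟨hα1, hα2⟩ := Subgroup.mem_inf.1 hα
    have hα2' : ∀ j : ℕ, ∀ u ∈ K ⊓ Subgroup.upperCentralSeries R (j + 1),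
        u⁻¹ * α u ∈ K ⊓ Subgroup.upperCentralSeries R j := by
      intro j
      exact (mem_sectStab _ _ _ _ α).1 (Subgroup.mem_iInf.1 hα2 j)
    have hchain : ∀ j : ℕ, ∀ u ∈ K ⊓ Subgroup.upperCentralSeries R j, α u = u := by
      intro j
      induction j with
      | zero =>
        intro u hu
        have h1 : u = 1 := by
          have h := hu.2
          rw [Subgroup.upperCentralSeries_zero] at h
          exact Subgroup.mem_bot.1 h
        rw [h1, map_one]
      | succ j ih =>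
        intro u hu
        obtain ⟨t, ht⟩ : ∃ t : R, t = u⁻¹ * α u := ⟨_, rfl⟩
        have htN : t ∈ K ⊓ Subgroup.upperCentralSeries R j := by
          rw [ht]; exact hα2' j u hu
        have hut : α u = u * t := by rw [ht, mul_inv_cancel_left]
        obtain ⟨k, hk⟩ := hR t
        have ht1 : t = 1 := Cfsg.Agent.S0640.aut_stab hm α hαm u t hut (ih t htN) k hk
        rw [hut, ht1, mul_one]
    have hKtriv : ∀ u ∈ K, α u = u := by
      haveI : Group.IsNilpotent R := hR.isNilpotent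
      obtain ⟨c, hc⟩ := Group.IsNilpotent.nilpotent R
      intro u hu
      exact hchain c u ⟨hu, by rw [hc]; trivial⟩
    have hTtriv : ∀ u ∈ T, α u = u := by
      have h1 : Cfsg.Agent.S0640.restrictAut T hT α = 1 := by
        apply hE₁triv m hm
        · rw [← map_pow, hαm, map_one]
        · intro v hv
          apply Subtype.ext
          exact hKtriv v (by rw [hK]; exact ⟨v, hv, rfl⟩)
      intro u hu
      have h2 : (Cfsg.Agent.S0640.restrictAut T hT α) ⟨u, hu⟩ = ⟨u, hu⟩ := by rw [h1]; rfl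
      exact congrArg Subtype.val h2
    ext r
    rw [MulAut.one_apply]
    obtain ⟨t, ht⟩ : ∃ t : R, t = r⁻¹ * α r := ⟨_, rfl⟩
    have htT : t ∈ T := by
      rw [ht]; exact (mem_sectStab _ _ _ _ α).1 hα1 r (Subgroup.mem_top r)
    have hrt : α r = r * t := by rw [ht, mul_inv_cancel_left]
    obtain ⟨k, hk⟩ := hR t
    have ht1 : t = 1 := Cfsg.Agent.S0640.aut_stab hm α hαm r t hrt (hTtriv t htT) k hk
    rw [hrt, ht1, mul_one]

/-- A `p`-group of rank at least 3 with a maximal elementary abelian subgroup of order `p ^ 2`: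
the commutators of automorphisms generate a `p`-group. -/
theorem narrow_struct {R : Type*} [Group R] [Finite R] {p : ℕ} [Fact p.Prime] (hp : p ≠ 2)
    (hR : IsPGroup p R) (hr : ¬ Cfsg.PRankLE p 2 R)
    (E : Subgroup R) (hE : Cfsg.IsElementaryAbelian p E) (hE2 : Nat.card E = p ^ 2)
    (hEmax : ∀ B : Subgroup R, Cfsg.IsElementaryAbelian p B → E ≤ B → B = E) :
    ∃ S : Subgroup (MulAut R), (∀ φ₁ φ₂ : MulAut R, ⁅φ₁, φ₂⁆ ∈ S) ∧
      (∀ φ : MulAut R, φ ^ (p - 1) ∈ S) ∧
      ∀ (m : ℕ), Nat.Coprime m p → ∀ α ∈ S, α ^ m = 1 → α = 1 := by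
  classical
  have hpp : p.Prime := Fact.out
  obtain ⟨hET, hΩcard, -, hTch, hTi⟩ := Cfsg.Agent.S1453.result p hp hR hr E hE hE2 hEmax
  obtain ⟨T, hTdef⟩ : ∃ T : Subgroup R, T = Subgroup.centralizer ((Subgroup.closure
      {x : R | x ∈ Subgroup.upperCentralSeries R 2 ∧ x ^ p = 1} : Subgroup R) : Set R) :=
    ⟨_, rfl⟩
  obtain ⟨Ω, hΩdef⟩ : ∃ Ω : Subgroup R,
      Ω = Subgroup.closure {x : R | x ∈ Subgroup.center R ∧ x ^ p = 1} := ⟨_, rfl⟩
  rw [← hTdef] at hET hTch hTi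
  rw [← hΩdef] at hΩcard
  have hΩc : Ω ≤ Subgroup.center R := by
    rw [hΩdef, Subgroup.closure_le]
    intro z hz
    exact hz.1
  have hΩel : Cfsg.IsElementaryAbelian p Ω := by
    refine ⟨⟨⟨fun a b => Subtype.ext ?_⟩⟩, ?_⟩
    · exact (Subgroup.mem_center_iff.1 (hΩc b.2)) a.1
    · have hle : Ω ≤ ({ carrier := {g | g ∈ Subgroup.center R ∧ g ^ p = 1}
                        mul_mem' := by
                          rintro a b ⟨ha, ha'⟩ ⟨hb, hb'⟩
                          refine ⟨Subgroup.mul_mem _ ha hb, ?_⟩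
                          have hc : Commute a b := Subgroup.mem_center_iff.1 hb a
                          rw [hc.mul_pow, ha', hb', one_mul]
                        one_mem' := ⟨Subgroup.one_mem _, one_pow p⟩
                        inv_mem' := by
                          rintro a ⟨ha, ha'⟩
                          exact ⟨Subgroup.inv_mem _ ha, by rw [inv_pow, ha', inv_one]⟩ } :
                      Subgroup R) := by
        rw [hΩdef, Subgroup.closure_le]
        intro z hz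
        exact hz
      intro a ha
      exact (hle ha).2
  have hΩE : Ω ≤ E := by
    have h1 : E ⊔ Ω = E := hEmax _ (elemAb_sup p E Ω hE hΩel
      (fun a _ b hb => Subgroup.mem_center_iff.1 (hΩc hb) a)) le_sup_left
    rw [← h1]; exact le_sup_right
  have hΩT : Ω ≤ T := by
    rw [hTdef]
    intro z hz
    rw [Subgroup.mem_centralizer_iff]
    intro w _
    exact Subgroup.mem_center_iff.1 (hΩc hz) w
  obtain ⟨x, hxE, hxT⟩ : ∃ x ∈ E, x ∉ T := by
    by_contra hcon
    push_neg at hcon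
    exact hET hcon
  have hETle : Nat.card ↥(E ⊓ T) ≤ p := by
    have hd : Nat.card ↥(E ⊓ T) ∣ p ^ 2 := by
      rw [← hE2]; exact Subgroup.card_dvd_of_le inf_le_left
    obtain ⟨b, hb, hb'⟩ := (Nat.dvd_prime_pow hpp).1 hd
    have hb2 : b ≠ 2 := by
      rintro rfl
      have h1 : E ⊓ T = E := Subgroup.eq_of_le_of_card_ge inf_le_left (by rw [hb', hE2])
      have h2 : x ∈ E ⊓ T := by rw [h1]; exact hxE
      exact hxT h2.2
    have hb1 : b ≤ 1 := by omega
    rw [hb']
    calc p ^ b ≤ p ^ 1 := Nat.pow_le_pow_right hpp.pos hb1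
      _ = p := pow_one p
  have hETΩ : Ω = E ⊓ T :=
    Subgroup.eq_of_le_of_card_ge (le_inf hΩE hΩT) (by rw [hΩcard]; exact hETle)
  have hxΩ : x ∉ Ω := fun h => hxT (hΩT h)
  have hEgen : Subgroup.zpowers x ⊔ Ω = E := by
    have hle : Subgroup.zpowers x ⊔ Ω ≤ E :=
      sup_le (by rw [Subgroup.zpowers_le]; exact hxE) hΩE
    apply Subgroup.eq_of_le_of_card_ge hle
    have hd : Nat.card ↥(Subgroup.zpowers x ⊔ Ω) ∣ p ^ 2 := by
      rw [← hE2]; exact Subgroup.card_dvd_of_le hle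
    obtain ⟨b, hb, hb'⟩ := (Nat.dvd_prime_pow hpp).1 hd
    have hlt : Ω < Subgroup.zpowers x ⊔ Ω :=
      lt_of_le_of_ne le_sup_right
        (fun h => hxΩ (by rw [h]; exact Subgroup.mem_sup_left (Subgroup.mem_zpowers x)))
    have hlt' := Helper9.card_lt_of_lt hlt
    rw [hΩcard, hb'] at hlt'
    have hb2 : b = 2 := by
      by_contra hne
      have hb1 : b ≤ 1 := by omega
      have : p ^ b ≤ p ^ 1 := Nat.pow_le_pow_right hpp.pos hb1
      rw [pow_one] at this
      omega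
    rw [hE2, hb', hb2]
  have hkey : ∀ u ∈ T, u ^ p = 1 → u * x = x * u → u ∈ Ω := by
    intro u huT hup hux
    have hzu : Cfsg.IsElementaryAbelian p (Subgroup.zpowers u) := elemAb_zpowers p u hup
    have h1 : E ≤ Subgroup.centralizer ((Subgroup.zpowers u : Subgroup R) : Set R) := by
      rw [← hEgen]
      apply sup_le
      · rw [Subgroup.zpowers_le, Subgroup.mem_centralizer_iff]
        intro b hb
        obtain ⟨n, rfl⟩ := Subgroup.mem_zpowers_iff.1 hb
        exact (Commute.zpow_left (show Commute u x from hux) n).eq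
      · intro z hz
        rw [Subgroup.mem_centralizer_iff]
        intro w _
        exact Subgroup.mem_center_iff.1 (hΩc hz) w
    have hcomm : ∀ a ∈ E, ∀ b ∈ Subgroup.zpowers u, a * b = b * a := by
      intro a ha b hb
      exact (Subgroup.mem_centralizer_iff.1 (h1 ha) b hb).symm
    have h2 : E ⊔ Subgroup.zpowers u = E :=
      hEmax _ (elemAb_sup p E _ hE hzu hcomm) le_sup_left
    have huE : u ∈ E := by
      rw [← h2]; exact Subgroup.mem_sup_right (Subgroup.mem_zpowers u)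
    rw [hETΩ]
    exact ⟨huE, huT⟩
  have hTfix : ∀ φ : MulAut R, ∀ u ∈ T, φ u ∈ T := by
    intro φ u hu
    exact (Subgroup.characteristic_iff_le_comap.mp hTch) φ hu
  exact narrow_aut_triv hp hR T Ω x hTfix hTi (le_of_eq hΩcard) hkey

/-- The derived subgroup of a group acting on a narrow `p`-group acts as a `p`-group. -/
theorem narrow_derived_pgroup {Q : Type*} [Group Q] [Finite Q] {p : ℕ} [Fact p.Prime]
    (hp : p ≠ 2) (hQ : IsPGroup p Q)
    (hnar : Cfsg.PRankLE p 2 Q ∨ ∃ E : Subgroup Q, Cfsg.IsElementaryAbelian p E ∧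
      Nat.card E = p ^ 2 ∧ ∀ B : Subgroup Q, Cfsg.IsElementaryAbelian p B → E ≤ B → B = E)
    {X : Type*} [Group X] [Finite X] (hodd : Odd (Nat.card X)) [Group.IsSolvable X]
    (ψ : X →* MulAut Q) : ∀ g ∈ commutator X, ∃ k : ℕ, (ψ g) ^ (p ^ k) = 1 := by
  classical
  have hpp : p.Prime := Fact.out
  by_cases hrk : Cfsg.PRankLE p 2 Q
  · exact rank2_derived_pgroup hp hQ hrk hodd ψ
  · obtain ⟨E, hE, hE2, hEmax⟩ := hnar.resolve_left hrk
    obtain ⟨S, hS1, -, hS2⟩ := narrow_struct hp hQ hrk E hE hE2 hEmax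
    have hle : commutator X ≤ S.comap ψ := by
      rw [commutator_def, Subgroup.commutator_le]
      intro a _ b _
      rw [Subgroup.mem_comap, map_commutatorElement]
      exact hS1 _ _
    intro g hg
    have hgS : ψ g ∈ S := hle hg
    obtain ⟨a, ha⟩ : ∃ a : MulAut Q, a = ψ g := ⟨_, rfl⟩
    rw [← ha] at hgS ⊢
    have hm0 : orderOf a ≠ 0 := (orderOf_pos a).ne'
    obtain ⟨k, m', hm', hkm⟩ := Nat.exists_eq_pow_mul_and_not_dvd hm0 p hpp.ne_one
    have h1 : (a ^ (p ^ k)) ^ m' = 1 := by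
      rw [← pow_mul, ← hkm]; exact pow_orderOf_eq_one a
    have hcop : Nat.Coprime m' p := ((Nat.Prime.coprime_iff_not_dvd hpp).2 hm').symm
    exact ⟨k, hS2 m' hcop _ (S.pow_mem hgS _) h1⟩

/-- A prime `q ≠ p` dividing the order of the automorphism group of a narrow `p`-group is less
than `p`. -/
theorem narrow_aut_prime_lt {Q : Type*} [Group Q] [Finite Q] {p : ℕ} [Fact p.Prime]
    (hp : p ≠ 2) (hQ : IsPGroup p Q)
    (hnar : Cfsg.PRankLE p 2 Q ∨ ∃ E : Subgroup Q, Cfsg.IsElementaryAbelian p E ∧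
      Nat.card E = p ^ 2 ∧ ∀ B : Subgroup Q, Cfsg.IsElementaryAbelian p B → E ≤ B → B = E)
    (q : ℕ) (hq : q.Prime) (hqp : q ≠ p) (hdvd : q ∣ Nat.card (MulAut Q)) : q < p := by
  classical
  have hpp : p.Prime := Fact.out
  by_cases hrk : Cfsg.PRankLE p 2 Q
  · exact (Cfsg.Agent.S0640.result hp hQ hrk q hq hqp hdvd).2
  · obtain ⟨E, hE, hE2, hEmax⟩ := hnar.resolve_left hrk
    obtain ⟨S, -, hS3, hS2⟩ := narrow_struct hp hQ hrk E hE hE2 hEmax
    haveI : Fact q.Prime := ⟨hq⟩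
    obtain ⟨α, hα⟩ := exists_prime_orderOf_dvd_card' q hdvd
    have h1 : (α ^ (p - 1)) ^ q = 1 := by
      rw [← pow_mul, mul_comm, pow_mul, ← hα, pow_orderOf_eq_one, one_pow]
    have h2 : α ^ (p - 1) = 1 := hS2 q ((Nat.coprime_primes hq hpp).2 hqp) _ (hS3 α) h1
    have h3 : q ∣ p - 1 := by rw [← hα]; exact orderOf_dvd_of_pow_eq_one h2
    have h4 : 0 < p - 1 := by have := hpp.two_le; omega
    have h5 := Nat.le_of_dvd h4 h3
    omega

end Cfsg.Agent.Helper10
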