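import Mathlib
import Cfsg.Prelude.Def_OddOrderLocal
import Cfsg.Agent.Helper10.NarrowAct

/-!
Solvable groups of odd order whose Fitting subgroup has narrow Sylow subgroups: the derived
subgroup lies in the Fitting subgroup.
-/

set_option autoImplicit false

universe u

namespace Cfsg.Agent.Helper10

open scoped commutatorElement

/-- A `q`-element of the derived subgroup centralizes `O_r(G)` for `r ≠ q`, provided the derived
subgroup acts on each `O_r(G)` as an `r`-group. -/
theorem derived_centralizes_gen {G : Type u} [Group G] [Finite G]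
    (hodd : Odd (Nat.card G))
    (hder : ∀ r : ℕ, r.Prime → r ≠ 2 → ∀ g ∈ commutator G, ∃ m : ℕ,
      (MulAut.conjNormal g : MulAut ↥(Cfsg.pCore r G)) ^ (r ^ m) = 1)
    (q : ℕ) (hq : q.Prime) (g : G) (hg : g ∈ commutator G) (k : ℕ) (hgk : g ^ (q ^ k) = 1)
    (r : ℕ) (hr : r.Prime) (hrq : r ≠ q) :
    g ∈ Subgroup.centralizer (Cfsg.pCore r G : Set G) := by
  by_cases hr2 : r = 2
  · subst hr2
    rw [Subgroup.mem_centralizer_iff]
    intro h hh
    rw [pCore_two_eq_bot hodd] at hh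
    rw [Subgroup.mem_bot.1 hh]
    simp
  · haveI : Fact r.Prime := ⟨hr⟩
    obtain ⟨m, hm⟩ := hder r hr hr2 g hg
    have h2 : (MulAut.conjNormal g : MulAut ↥(Cfsg.pCore r G)) ^ (q ^ k) = 1 := by
      rw [← map_pow, hgk, map_one]
    have hcop : Nat.Coprime (r ^ m) (q ^ k) :=
      Nat.Coprime.pow _ _ ((Nat.coprime_primes hr hq).2 hrq)
    exact conj_trivial_mem_centralizer _ g (eq_one_of_pow_pow_coprime _ _ _ hm h2 hcop)

/-- A `q`-element of the derived subgroup lies in `O_q(G)`. -/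
theorem derived_pelt_mem_pCore_gen {G : Type u} [Group G] [Finite G] [Group.IsSolvable G]
    (hodd : Odd (Nat.card G))
    (hder : ∀ r : ℕ, r.Prime → r ≠ 2 → ∀ g ∈ commutator G, ∃ m : ℕ,
      (MulAut.conjNormal g : MulAut ↥(Cfsg.pCore r G)) ^ (r ^ m) = 1)
    (q : ℕ) (hq : q.Prime) (g : G) (hg : g ∈ commutator G) (k : ℕ) (hgk : g ^ (q ^ k) = 1) :
    g ∈ Cfsg.pCore q G := by
  classical
  haveI : Fact q.Prime := ⟨hq⟩
  by_cases hq2 : q = 2
  · subst hq2
    have h2 : g ^ Nat.card G = 1 := pow_card_eq_one'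
    have hcop : Nat.Coprime (2 ^ k) (Nat.card G) :=
      Nat.Coprime.pow_left k (Nat.coprime_two_left.mpr hodd)
    rw [eq_one_of_pow_pow_coprime g _ _ hgk h2 hcop]
    exact Subgroup.one_mem _
  obtain ⟨L, hL⟩ : ∃ L : Subgroup G, L = coreJoin G (fun r => r ≠ q) := ⟨_, rfl⟩
  haveI hLn : L.Normal := by rw [hL]; infer_instance
  have hFle : Cfsg.fittingSubgroup G ≤ Cfsg.pCore q G ⊔ L := by
    rw [hL]; exact fitting_le_core_sup q
  obtain ⟨D, hD⟩ : ∃ D : Subgroup G, D = commutator G ⊓ Subgroup.centralizer (L : Set G) :=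
    ⟨_, rfl⟩
  haveI hDn : D.Normal := by rw [hD]; infer_instance
  have hDle : D ≤ Subgroup.centralizer (L : Set G) := by rw [hD]; exact inf_le_right
  have hDle' : D ≤ commutator G := by rw [hD]; exact inf_le_left
  have hgD : g ∈ D := by
    rw [hD]
    refine ⟨hg, ?_⟩
    rw [hL]
    exact mem_centralizer_coreJoin _ g
      (fun r hr hrq => derived_centralizes_gen hodd hder q hq g hg k hgk r hr hrq)
  have hpow : ∀ x ∈ D, ∃ m : ℕ, x ^ (q ^ m) ∈ L := by
    intro x hx
    obtain ⟨m, hm⟩ := hder q hq hq2 x (hDle' hx)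
    have h1 : x ^ (q ^ m) ∈ Subgroup.centralizer (Cfsg.pCore q G : Set G) := by
      apply conj_trivial_mem_centralizer
      rw [map_pow]; exact hm
    have h2 : x ^ (q ^ m) ∈ Subgroup.centralizer (L : Set G) := hDle (D.pow_mem hx _)
    have h3 : x ^ (q ^ m) ∈ Subgroup.centralizer (Cfsg.fittingSubgroup G : Set G) := by
      rw [Subgroup.mem_centralizer_iff]
      intro f hf
      obtain ⟨a, ha, b, hb, rfl⟩ := Subgroup.mem_sup_of_normal_right.1 (hFle hf)
      have e1 := Subgroup.mem_centralizer_iff.1 h1 a ha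
      have e2 := Subgroup.mem_centralizer_iff.1 h2 b hb
      rw [mul_assoc, e2, ← mul_assoc, e1, mul_assoc]
    have h4 : x ^ (q ^ m) ∈ Cfsg.pCore q G ⊔ L := hFle (centralizer_fitting_le h3)
    obtain ⟨j, hj⟩ := (Helper9.pCore_isPGroup (G := G) q).exists_card_eq
    have h5 := pow_card_mem_of_sup _ L h4
    rw [hj, ← pow_mul, ← pow_add] at h5
    exact ⟨_, h5⟩
  have hDnil : Group.IsNilpotent ↥D := by
    have hqgrp : IsPGroup q (↥D ⧸ L.subgroupOf D) := by
      intro y
      obtain ⟨x, rfl⟩ := QuotientGroup.mk_surjective y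
      obtain ⟨m, hm⟩ := hpow (x : G) x.2
      refine ⟨m, ?_⟩
      rw [← QuotientGroup.mk_pow, QuotientGroup.eq_one_iff]
      exact Subgroup.mem_subgroupOf.2 (by rw [Subgroup.coe_pow]; exact hm)
    haveI : Group.IsNilpotent (↥D ⧸ L.subgroupOf D) := hqgrp.isNilpotent
    apply Subgroup.isNilpotent_of_ker_le_center (QuotientGroup.mk' (L.subgroupOf D))
    rw [QuotientGroup.ker_mk']
    intro z hz
    rw [Subgroup.mem_center_iff]
    intro w
    have hzL : (z : G) ∈ L := Subgroup.mem_subgroupOf.1 hz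
    have hwC := hDle w.2
    apply Subtype.ext
    exact (Subgroup.mem_centralizer_iff.1 hwC (z : G) hzL).symm
  have hz : IsPGroup q ↥(Subgroup.zpowers (⟨g, hgD⟩ : ↥D)) := by
    have h1 : orderOf (⟨g, hgD⟩ : ↥D) ∣ q ^ k :=
      orderOf_dvd_of_pow_eq_one (Subtype.ext (by simpa using hgk))
    obtain ⟨j, -, hj⟩ := (Nat.dvd_prime_pow hq).1 h1
    exact IsPGroup.of_card (by rw [Nat.card_zpowers, hj])
  obtain ⟨Q', hQ'⟩ := hz.exists_le_sylow
  have h1 := Helper9.normal_sylow_map_le_pCore D hDnil q Q'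
  exact h1 ⟨⟨g, hgD⟩, hQ' (Subgroup.mem_zpowers _), rfl⟩

/-- The derived subgroup lies in the Fitting subgroup. -/
theorem derived_le_fitting_gen {G : Type u} [Group G] [Finite G] [Group.IsSolvable G]
    (hodd : Odd (Nat.card G))
    (hder : ∀ r : ℕ, r.Prime → r ≠ 2 → ∀ g ∈ commutator G, ∃ m : ℕ,
      (MulAut.conjNormal g : MulAut ↥(Cfsg.pCore r G)) ^ (r ^ m) = 1) :
    commutator G ≤ Cfsg.fittingSubgroup G := by
  have h1 : commutator G = (⊤ : Subgroup ↥(commutator G)).map (commutator G).subtype := by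
    rw [← MonoidHom.range_eq_map, Subgroup.range_subtype]
  rw [h1, ← Helper9.iSup_sylow_eq_top ↥(commutator G), Subgroup.map_iSup]
  apply iSup_le
  intro q
  rw [Subgroup.map_iSup]
  apply iSup_le
  intro P
  have hq : (q : ℕ).Prime := Nat.prime_of_mem_primeFactors q.2
  haveI : Fact (q : ℕ).Prime := ⟨hq⟩
  rintro x ⟨y, hy, rfl⟩
  obtain ⟨k, hk⟩ := P.isPGroup' ⟨y, hy⟩
  have hk1 : (y : ↥(commutator G)) ^ ((q : ℕ) ^ k) = 1 := by
    have := congrArg Subtype.val hk
    simpa using this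
  have hk' : ((y : ↥(commutator G)) : G) ^ ((q : ℕ) ^ k) = 1 := by
    rw [← Subgroup.coe_pow, hk1]; rfl
  exact Helper9.pCore_le_fitting (q : ℕ)
    (derived_pelt_mem_pCore_gen hodd hder q hq _ y.2 k hk')

/-- A `p`-element of the Fitting subgroup lies in `O_p(G)`. -/
theorem pelt_fitting_mem_pCore {G : Type*} [Group G] [Finite G] (p : ℕ) [Fact p.Prime] (g : G)
    (hg : g ∈ Cfsg.fittingSubgroup G) (k : ℕ) (hgk : g ^ (p ^ k) = 1) :
    g ∈ Cfsg.pCore p G := by
  have hp : p.Prime := Fact.out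
  have hz : IsPGroup p ↥(Subgroup.zpowers (⟨g, hg⟩ : ↥(Cfsg.fittingSubgroup G))) := by
    have h1 : orderOf (⟨g, hg⟩ : ↥(Cfsg.fittingSubgroup G)) ∣ p ^ k :=
      orderOf_dvd_of_pow_eq_one (Subtype.ext (by simpa using hgk))
    obtain ⟨j, -, hj⟩ := (Nat.dvd_prime_pow hp).1 h1
    exact IsPGroup.of_card (by rw [Nat.card_zpowers, hj])
  obtain ⟨Q', hQ'⟩ := hz.exists_le_sylow
  have h1 := Helper9.normal_sylow_map_le_pCore (Cfsg.fittingSubgroup G)
    Helper9.fitting_nilpotent p Q'
  exact h1 ⟨⟨g, hg⟩, hQ' (Subgroup.mem_zpowers _), rfl⟩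

/-- A `p`-group in which the elementary abelian subgroups containing a given one have order at
most `p ^ 2` has rank at most 2 or a maximal elementary abelian subgroup of order `p ^ 2`. -/
theorem narrow_of_centralizer_rank {Q : Type*} [Group Q] [Finite Q] {p : ℕ} [Fact p.Prime]
    (hQ : IsPGroup p Q) (E₀ : Subgroup Q) (hE₀ : Cfsg.IsElementaryAbelian p E₀)
    (hrk : ∀ B : Subgroup Q, Cfsg.IsElementaryAbelian p B → E₀ ≤ B → Nat.card B ≤ p ^ 2) :
    Cfsg.PRankLE p 2 Q ∨ ∃ E : Subgroup Q, Cfsg.IsElementaryAbelian p E ∧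
      Nat.card E = p ^ 2 ∧ ∀ B : Subgroup Q, Cfsg.IsElementaryAbelian p B → E ≤ B → B = E := by
  classical
  have hpp : p.Prime := Fact.out
  obtain ⟨B₀, ⟨hB₀, hE₀B₀⟩, hB₀max⟩ : ∃ B₀ : Subgroup Q,
      (Cfsg.IsElementaryAbelian p B₀ ∧ E₀ ≤ B₀) ∧
      ∀ B : Subgroup Q, Cfsg.IsElementaryAbelian p B → E₀ ≤ B → Nat.card B ≤ Nat.card B₀ := by
    have hne : {B : Subgroup Q | Cfsg.IsElementaryAbelian p B ∧ E₀ ≤ B}.Nonempty :=
      ⟨E₀, hE₀, le_rfl⟩
    obtain ⟨B₀, hB₀mem, hB₀max⟩ := Set.exists_max_image _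
      (fun B : Subgroup Q => Nat.card B) (Set.toFinite _) hne
    exact ⟨B₀, hB₀mem, fun B hB hEB => hB₀max B ⟨hB, hEB⟩⟩
  have hB₀max' : ∀ B : Subgroup Q, Cfsg.IsElementaryAbelian p B → B₀ ≤ B → B = B₀ := by
    intro B hB hle
    exact (Subgroup.eq_of_le_of_card_ge hle (hB₀max B hB (hE₀B₀.trans hle))).symm
  obtain ⟨b, hb⟩ := (hQ.to_subgroup B₀).exists_card_eq
  have hcard2 := hrk B₀ hB₀ hE₀B₀
  by_cases hb2 : b = 2
  · right
    exact ⟨B₀, hB₀, by rw [hb, hb2], hB₀max'⟩
  · left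
    have hb1 : b ≤ 1 := by
      by_contra hcon
      push_neg at hcon
      have h3 : 3 ≤ b := by omega
      have h4 : p ^ 3 ≤ p ^ b := Nat.pow_le_pow_right hpp.pos h3
      rw [hb] at hcard2
      have h5 : p ^ 2 < p ^ 3 := Nat.pow_lt_pow_right hpp.one_lt (by norm_num)
      omega
    have hB₀p : Nat.card B₀ ≤ p := by
      rw [hb]
      calc p ^ b ≤ p ^ 1 := Nat.pow_le_pow_right hpp.pos hb1
        _ = p := pow_one p
    intro A hAc hAexp
    have hA : Cfsg.IsElementaryAbelian p A := ⟨hAc, hAexp⟩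
    by_cases htriv : Nat.card Q = 1
    · calc Nat.card A ≤ Nat.card Q := Subgroup.card_le_card_group A
        _ = 1 := htriv
        _ ≤ p ^ 2 := Nat.one_le_pow _ _ hpp.pos
    · haveI : Nontrivial Q := by
        rw [← Finite.one_lt_card_iff_nontrivial]
        have := Nat.card_pos (α := Q)
        omega
      haveI := hQ.center_nontrivial
      have hZp : IsPGroup p ↥(Subgroup.center Q) := hQ.to_subgroup _
      obtain ⟨c, hc⟩ := hZp.exists_card_eq
      have hc0 : c ≠ 0 := by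
        rintro rfl
        rw [pow_zero] at hc
        have h1 := (Nat.card_eq_one_iff_unique.1 hc).1
        exact not_subsingleton _ h1
      have hdvd : p ∣ Nat.card ↥(Subgroup.center Q) := by rw [hc]; exact dvd_pow_self p hc0
      obtain ⟨z, hz⟩ := exists_prime_orderOf_dvd_card' p hdvd
      have hzp : (z : Q) ^ p = 1 := by
        have h1 := pow_orderOf_eq_one z
        rw [hz] at h1
        rw [← Subgroup.coe_pow, h1]; rfl
      have hzc : ∀ w : Q, w * (z : Q) = (z : Q) * w :=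
        fun w => Subgroup.mem_center_iff.1 z.2 w
      have hzel := elemAb_zpowers p (z : Q) hzp
      have hzcomm : ∀ (X : Subgroup Q), ∀ a ∈ X, ∀ b' ∈ Subgroup.zpowers (z : Q),
          a * b' = b' * a := by
        intro X a _ b' hb'
        obtain ⟨n, rfl⟩ := Subgroup.mem_zpowers_iff.1 hb'
        exact (Commute.zpow_right (show Commute a (z : Q) from hzc a) n).eq
      have hzB : Subgroup.zpowers (z : Q) ≤ B₀ := by
        have h1 : B₀ ⊔ Subgroup.zpowers (z : Q) = B₀ :=
          hB₀max' _ (elemAb_sup p B₀ _ hB₀ hzel (hzcomm B₀)) le_sup_left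
        rw [← h1]; exact le_sup_right
      have hzcard : Nat.card ↥(Subgroup.zpowers (z : Q)) = p := by
        rw [Nat.card_zpowers, Subgroup.orderOf_coe, hz]
      have hB₀z : Subgroup.zpowers (z : Q) = B₀ :=
        Subgroup.eq_of_le_of_card_ge hzB (by rw [hzcard]; exact hB₀p)
      have hcommAB : ∀ a ∈ A, ∀ b' ∈ B₀, a * b' = b' * a := by
        rw [← hB₀z]; exact hzcomm A
      have h1 := hB₀max (A ⊔ B₀) (elemAb_sup p A B₀ hA hB₀ hcommAB)
        (hE₀B₀.trans le_sup_right)
      calc Nat.card A ≤ Nat.card ↥(A ⊔ B₀) := Subgroup.card_le_of_le le_sup_left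
        _ ≤ Nat.card B₀ := h1
        _ ≤ p := hB₀p
        _ ≤ p ^ 2 := by nlinarith [hpp.one_lt]

/-- Solvable groups of odd order with an elementary abelian `p`-subgroup `E` of the Fitting
subgroup such that `C_{F(G)}(E)` has rank at most 2: `G' ≤ F(G)`. -/
theorem narrow_fit {G : Type u} [Group G] [Finite G] [Group.IsSolvable G]
    (hodd : Odd (Nat.card G)) (p : ℕ) [Fact p.Prime] (E : Subgroup G)
    (hE : E ≤ Cfsg.fittingSubgroup G) (hEe : Cfsg.IsElementaryAbelian p E)
    (hr : Cfsg.RankLE 2 ↥(Cfsg.fittingSubgroup G ⊓ Subgroup.centralizer (E : Set G))) :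
    commutator G ≤ Cfsg.fittingSubgroup G := by
  classical
  have hEP : E ≤ Cfsg.pCore p G := by
    intro e he
    exact pelt_fitting_mem_pCore p e (hE he) 1 (by rw [pow_one]; exact hEe.2 e he)
  have hEcomm : ∀ a ∈ E, ∀ b ∈ E, a * b = b * a := by
    intro a ha b hb
    haveI := hEe.1
    exact congrArg Subtype.val (mul_comm' (⟨a, ha⟩ : E) ⟨b, hb⟩)
  apply derived_le_fitting_gen hodd
  intro r hr' hr2 g hg
  haveI : Fact r.Prime := ⟨hr'⟩
  by_cases hrp : r = p
  · subst hrp
    have hEsub : Cfsg.IsElementaryAbelian r (E.subgroupOf (Cfsg.pCore r G)) := by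
      refine ⟨⟨⟨fun a b => Subtype.ext (Subtype.ext ?_)⟩⟩, ?_⟩
      · exact hEcomm _ (Subgroup.mem_subgroupOf.1 a.2) _ (Subgroup.mem_subgroupOf.1 b.2)
      · intro a ha
        apply Subtype.ext
        rw [Subgroup.coe_pow]
        exact hEe.2 _ (Subgroup.mem_subgroupOf.1 ha)
    have hrkB : ∀ B : Subgroup ↥(Cfsg.pCore r G), Cfsg.IsElementaryAbelian r B →
        E.subgroupOf (Cfsg.pCore r G) ≤ B → Nat.card B ≤ r ^ 2 := by
      intro B hB hEB
      obtain ⟨B', hB'⟩ : ∃ B' : Subgroup G, B' = B.map (Cfsg.pCore r G).subtype := ⟨_, rfl⟩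
      have hcardB' : Nat.card B' = Nat.card B := by
        rw [hB']; exact Subgroup.card_map_of_injective (Subgroup.subtype_injective _)
      have hB'comm : ∀ a ∈ B', ∀ b ∈ B', a * b = b * a := by
        intro a ha b hb
        rw [hB'] at ha hb
        obtain ⟨a', ha', rfl⟩ := ha
        obtain ⟨b', hb', rfl⟩ := hb
        haveI := hB.1
        have h1 : (⟨a', ha'⟩ : B) * ⟨b', hb'⟩ = ⟨b', hb'⟩ * ⟨a', ha'⟩ := mul_comm' _ _
        have h2 : a' * b' = b' * a' := congrArg Subtype.val h1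
        rw [← map_mul, ← map_mul, h2]
      have hB'exp : ∀ a ∈ B', a ^ r = 1 := by
        intro a ha
        rw [hB'] at ha
        obtain ⟨a', ha', rfl⟩ := ha
        rw [← map_pow, hB.2 a' ha', map_one]
      have hEB' : E ≤ B' := by
        intro e he
        rw [hB']
        exact ⟨⟨e, hEP he⟩, hEB (Subgroup.mem_subgroupOf.2 he), rfl⟩
      have hB'le : B' ≤ Cfsg.fittingSubgroup G ⊓ Subgroup.centralizer (E : Set G) := by
        intro a ha
        refine ⟨?_, ?_⟩
        · rw [hB'] at ha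
          obtain ⟨a', -, rfl⟩ := ha
          exact Helper9.pCore_le_fitting r a'.2
        · show a ∈ Subgroup.centralizer (E : Set G)
          rw [Subgroup.mem_centralizer_iff]
          intro e he
          exact hB'comm e (hEB' he) a ha
      have h1 := hr r hr' (B'.subgroupOf _)
        ⟨⟨fun a b => Subtype.ext (Subtype.ext (hB'comm _ (Subgroup.mem_subgroupOf.1 a.2) _
          (Subgroup.mem_subgroupOf.1 b.2)))⟩⟩
        (by
          intro a ha
          apply Subtype.ext
          rw [Subgroup.coe_pow]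
          exact hB'exp _ (Subgroup.mem_subgroupOf.1 ha))
      rw [← hcardB', ← Nat.card_congr (Subgroup.subgroupOfEquivOfLe hB'le).toEquiv]
      exact h1
    exact narrow_derived_pgroup hr2 (Helper9.pCore_isPGroup r)
      (narrow_of_centralizer_rank (Helper9.pCore_isPGroup r) _ hEsub hrkB) hodd
      (MulAut.conjNormal) g hg
  · have hle : Cfsg.pCore r G ≤
        Cfsg.fittingSubgroup G ⊓ Subgroup.centralizer (E : Set G) := by
      intro a ha
      refine ⟨Helper9.pCore_le_fitting r ha, ?_⟩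
      show a ∈ Subgroup.centralizer (E : Set G)
      rw [Subgroup.mem_centralizer_iff]
      intro e he
      have hdis : Disjoint (Cfsg.pCore r G) (Cfsg.pCore p G) :=
        IsPGroup.disjoint_of_ne r p hrp _ _ (Helper9.pCore_isPGroup _)
          (Helper9.pCore_isPGroup _)
      exact (Subgroup.commute_of_normal_of_disjoint _ _ inferInstance inferInstance hdis
        a e ha (hEP he)).eq.symm
    have hrk : Cfsg.PRankLE r 2 ↥(Cfsg.pCore r G) :=
      prankLE_of_injective (Subgroup.inclusion hle) (Subgroup.inclusion_injective _) r 2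
        (hr r hr')
    exact rank2_derived_pgroup hr2 (Helper9.pCore_isPGroup r) hrk hodd
      (MulAut.conjNormal) g hg

end Cfsg.Agent.Helper10
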