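import Mathlib
import Cfsg.Prelude.Def_OddOrderLocal
import Cfsg.Agent.Helper10.NarrowFit
import Cfsg.Agent.Helper10.Rank2Solv
import Cfsg.Agent.Helper20.PLengthOne

/-!
Solvable groups of odd order with a narrow Sylow `p`-subgroup.
-/

set_option autoImplicit false

universe u

namespace Cfsg.Agent.Helper10

open scoped commutatorElement

theorem elemAb_map {H K : Type*} [Group H] [Group K] (p : ℕ) (f : H →* K) (A : Subgroup H)
    (hA : Cfsg.IsElementaryAbelian p A) : Cfsg.IsElementaryAbelian p (A.map f) := by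
  refine ⟨⟨⟨fun x y => ?_⟩⟩, ?_⟩
  · obtain ⟨x, hx⟩ := x
    obtain ⟨y, hy⟩ := y
    obtain ⟨a, ha, rfl⟩ := hx
    obtain ⟨b, hb, rfl⟩ := hy
    haveI := hA.1
    have h1 : (⟨a, ha⟩ : A) * ⟨b, hb⟩ = ⟨b, hb⟩ * ⟨a, ha⟩ := mul_comm' _ _
    have h2 : a * b = b * a := congrArg Subtype.val h1
    apply Subtype.ext
    show f a * f b = f b * f a
    rw [← map_mul, ← map_mul, h2]
  · rintro x ⟨a, ha, rfl⟩
    rw [← map_pow, hA.2 a ha, map_one]

/-- The narrowness condition (rank at most 2, or a maximal elementary abelian subgroup of order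
`p ^ 2`) is invariant under isomorphism. -/
theorem narrowMax_of_equiv {Q Q' : Type*} [Group Q] [Group Q'] (p : ℕ) (e : Q ≃* Q')
    (h : Cfsg.PRankLE p 2 Q ∨ ∃ E : Subgroup Q, Cfsg.IsElementaryAbelian p E ∧
      Nat.card E = p ^ 2 ∧ ∀ B : Subgroup Q, Cfsg.IsElementaryAbelian p B → E ≤ B → B = E) :
    Cfsg.PRankLE p 2 Q' ∨ ∃ E : Subgroup Q', Cfsg.IsElementaryAbelian p E ∧
      Nat.card E = p ^ 2 ∧ ∀ B : Subgroup Q', Cfsg.IsElementaryAbelian p B → E ≤ B → B = E := by
  rcases h with h | ⟨E, hE, hE2, hEmax⟩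
  · left
    exact prankLE_of_injective e.symm.toMonoidHom e.symm.injective p 2 h
  · right
    refine ⟨E.map e.toMonoidHom, elemAb_map p _ E hE, ?_, ?_⟩
    · rw [Subgroup.card_map_of_injective e.injective, hE2]
    · intro B' hB' hle
      have h1 : E ≤ B'.map e.symm.toMonoidHom := by
        intro a ha
        refine ⟨e a, hle ⟨a, ha, rfl⟩, ?_⟩
        simp
      have h2 := hEmax _ (elemAb_map p _ B' hB') h1
      rw [← h2, Subgroup.map_map]
      have h3 : e.toMonoidHom.comp e.symm.toMonoidHom = MonoidHom.id Q' := by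
        ext x; simp
      rw [h3, Subgroup.map_id]

/-- A narrow `p`-group (in the sense of the prelude) has rank at most 2 or a maximal elementary
abelian subgroup of order `p ^ 2`. -/
theorem isNarrow_narrowMax {R : Type*} [Group R] [Finite R] {p : ℕ} [Fact p.Prime]
    (hR : IsPGroup p R) (h : Cfsg.IsNarrow p R) :
    Cfsg.PRankLE p 2 R ∨ ∃ E : Subgroup R, Cfsg.IsElementaryAbelian p E ∧
      Nat.card E = p ^ 2 ∧ ∀ B : Subgroup R, Cfsg.IsElementaryAbelian p B → E ≤ B → B = E := by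
  classical
  have hpp : p.Prime := Fact.out
  rcases h with h | ⟨R₀, R₁, hR₀, hR₁, hdisj, hcomm, hcent⟩
  · left; exact h
  · have hR₀el : Cfsg.IsElementaryAbelian p R₀ := by
      haveI : IsCyclic ↥R₀ := isCyclic_of_prime_card hR₀
      refine ⟨⟨⟨fun a b => ?_⟩⟩, ?_⟩
      · obtain ⟨g, hg⟩ := IsCyclic.exists_generator (α := ↥R₀)
        obtain ⟨n, rfl⟩ := Subgroup.mem_zpowers_iff.1 (hg a)
        obtain ⟨m, rfl⟩ := Subgroup.mem_zpowers_iff.1 (hg b)
        rw [← zpow_add, ← zpow_add, add_comm]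
      · intro a ha
        have h1 : (⟨a, ha⟩ : R₀) ^ p = 1 := by rw [← hR₀]; exact pow_card_eq_one'
        have h2 : ((⟨a, ha⟩ : R₀) : R) ^ p = 1 := by rw [← Subgroup.coe_pow, h1]; rfl
        exact h2
    apply narrow_of_centralizer_rank hR R₀ hR₀el
    intro B hB hle
    have hBcomm : ∀ a ∈ B, ∀ b ∈ B, a * b = b * a := by
      intro a ha b hb
      haveI := hB.1
      exact congrArg Subtype.val (mul_comm' (⟨a, ha⟩ : B) ⟨b, hb⟩)
    have hBc : B ≤ R₀ ⊔ R₁ := by
      rw [hcent]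
      intro b hb
      rw [Subgroup.mem_centralizer_iff]
      intro a ha
      exact hBcomm a (hle ha) b hb
    have hsurj : Function.Surjective (fun z : ↥R₀ × ↥(B ⊓ R₁) =>
        (⟨(z.1 : R) * (z.2 : R), B.mul_mem (hle z.1.2) z.2.2.1⟩ : ↥B)) := by
      rintro ⟨b, hb⟩
      obtain ⟨a, ha, c, hc, rfl⟩ := Helper9.mem_sup_of_commute hcomm (hBc hb)
      have hcB : c ∈ B := by
        have e : c = a⁻¹ * (a * c) := by group
        rw [e]; exact B.mul_mem (B.inv_mem (hle ha)) hb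
      exact ⟨(⟨a, ha⟩, ⟨c, hcB, hc⟩), rfl⟩
    have h1 := Nat.card_le_card_of_surjective _ hsurj
    rw [Nat.card_prod, hR₀] at h1
    have h2 : Nat.card ↥(B ⊓ R₁) ≤ p := by
      haveI := hR₁
      have hexp : ∀ g : ↥((B ⊓ R₁).subgroupOf R₁), g ^ p = 1 := by
        intro g
        apply Subtype.ext
        apply Subtype.ext
        have h3 := hB.2 _ (Subgroup.mem_subgroupOf.1 g.2).1
        simpa using h3
      have h3 : Monoid.exponent ↥((B ⊓ R₁).subgroupOf R₁) ∣ p :=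
        Monoid.exponent_dvd_of_forall_pow_eq_one hexp
      rw [IsCyclic.exponent_eq_card] at h3
      rw [← Nat.card_congr (Subgroup.subgroupOfEquivOfLe (inf_le_right : B ⊓ R₁ ≤ R₁)).toEquiv]
      exact Nat.le_of_dvd hpp.pos h3
    calc Nat.card B ≤ p * Nat.card ↥(B ⊓ R₁) := h1
      _ ≤ p * p := Nat.mul_le_mul_left _ h2
      _ = p ^ 2 := (sq p).symm

/-- The `p`-rank of a group is that of its Sylow `p`-subgroups. -/
theorem prankLE_of_sylow {G : Type*} [Group G] [Finite G] (p k : ℕ) [Fact p.Prime]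
    (S : Sylow p G) (h : Cfsg.PRankLE p k ↥(S : Subgroup G)) : Cfsg.PRankLE p k G := by
  intro A hAc hAexp
  have hAp : IsPGroup p A := by
    intro a
    refine ⟨1, ?_⟩
    apply Subtype.ext
    rw [pow_one, Subgroup.coe_pow]
    exact hAexp a.1 a.2
  obtain ⟨Q, hQ⟩ := hAp.exists_le_sylow
  obtain ⟨g, rfl⟩ := MulAction.exists_smul_eq G S Q
  obtain ⟨A', hA'⟩ : ∃ A' : Subgroup G, A' = A.map (MulAut.conj g⁻¹).toMonoidHom := ⟨_, rfl⟩
  have hA'S : A' ≤ (S : Subgroup G) := by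
    rw [hA']
    rintro x ⟨a, ha, rfl⟩
    have h1 : g⁻¹ * a * g ∈ (S : Subgroup G) :=
      (Helper27.mem_sylow_smul_iff g S a).1 (hQ ha)
    have e : (MulAut.conj g⁻¹).toMonoidHom a = g⁻¹ * a * g := by simp
    rw [e]
    exact h1
  have hA'el : Cfsg.IsElementaryAbelian p A' := by
    rw [hA']; exact elemAb_map p _ A ⟨hAc, hAexp⟩
  have hcard : Nat.card A' = Nat.card A := by
    rw [hA']; exact Subgroup.card_map_of_injective (MulAut.conj g⁻¹).injective
  have hA'comm : ∀ a ∈ A', ∀ b ∈ A', a * b = b * a := by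
    intro a ha b hb
    haveI := hA'el.1
    exact congrArg Subtype.val (mul_comm' (⟨a, ha⟩ : A') ⟨b, hb⟩)
  have h1 := h (A'.subgroupOf S)
    ⟨⟨fun a b => Subtype.ext (Subtype.ext (hA'comm _ (Subgroup.mem_subgroupOf.1 a.2) _
      (Subgroup.mem_subgroupOf.1 b.2)))⟩⟩
    (by
      intro a ha
      apply Subtype.ext
      rw [Subgroup.coe_pow]
      exact hA'el.2 _ (Subgroup.mem_subgroupOf.1 ha))
  rw [← hcard, ← Nat.card_congr (Subgroup.subgroupOfEquivOfLe hA'S).toEquiv]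
  exact h1

/-- Structure of solvable groups of odd order in which `O_p(G / O_{p'}(G))` is narrow. -/
theorem narrow_solv {G : Type u} [Group G] [Finite G] [Group.IsSolvable G]
    (hodd : Odd (Nat.card G)) (p : ℕ) [Fact p.Prime] (hp : p ≠ 2)
    (hnarP : ∀ (K : Subgroup G) [K.Normal], K = Cfsg.pPrimeCore p G →
      (Cfsg.PRankLE p 2 ↥(Cfsg.pCore p (G ⧸ K)) ∨
        ∃ E : Subgroup ↥(Cfsg.pCore p (G ⧸ K)), Cfsg.IsElementaryAbelian p E ∧
          Nat.card E = p ^ 2 ∧ ∀ B : Subgroup ↥(Cfsg.pCore p (G ⧸ K)),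
            Cfsg.IsElementaryAbelian p B → E ≤ B → B = E)) :
    (∀ q : ℕ, q.Prime → q ∣ (Cfsg.pPrimeCore p G).index → q ≤ p) ∧
      ((p = 3 ∨ ∀ q : ℕ, q.Prime → q ∣ Nat.card G → p ≤ q) → Cfsg.HasNormalPComplement p G) ∧
      Cfsg.HasNormalPComplement p ↥(commutator G) ∧
      (∀ L : Subgroup ↥(commutator G), (Nat.card L).Coprime p →
        L ≤ Cfsg.pPrimeCore p ↥(commutator G)) ∧
      commutator G ≤ Cfsg.pPrimePCore p G ∧ ((Cfsg.pPrimePCore p G).index).Coprime p := by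
  classical
  have hpp : p.Prime := Fact.out
  obtain ⟨K, hK⟩ : ∃ K : Subgroup G, K = Cfsg.pPrimeCore p G := ⟨_, rfl⟩
  have hKn : K.Normal := by rw [hK]; exact Cfsg.pPrimeCore_normal p G
  haveI := hKn
  have hKc : (Nat.card K).Coprime p := by
    rw [hK]; exact Cfsg.Agent.Helper9.pPrimeCore_coprime p
  have hsurj : Function.Surjective (QuotientGroup.mk' K) := QuotientGroup.mk'_surjective K
  have hoddq : Odd (Nat.card (G ⧸ K)) := hodd.of_dvd_nat (Subgroup.card_quotient_dvd_card K)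
  have hbot : Cfsg.pPrimeCore p (G ⧸ K) = ⊥ := by
    subst hK; exact Cfsg.Agent.Helper9.pPrimeCore_quotient_eq_bot p
  have hsol : Cfsg.IsPSolvable p (G ⧸ K) := Cfsg.Agent.Helper20.PLen.isPSolvable_of_isSolvable p
  have hcent := Cfsg.Agent.Helper20.PLen.centralizer_pCore_le_of_psolvable p hsol hbot
  obtain ⟨Pb, hPb⟩ : ∃ Pb : Subgroup (G ⧸ K), Pb = Cfsg.pCore p (G ⧸ K) := ⟨_, rfl⟩
  have hPbn : Pb.Normal := by rw [hPb]; exact Cfsg.pCore_normal p _
  haveI := hPbn
  have hPbp : IsPGroup p Pb := by rw [hPb]; exact Cfsg.Agent.Helper27.pCore_isPGroup p _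
  have hcent' : Subgroup.centralizer (Pb : Set (G ⧸ K)) ≤ Pb := by rw [hPb]; exact hcent
  have hM : Cfsg.pPrimePCore p G = Pb.comap (QuotientGroup.mk' K) := by
    rw [hPb]; subst hK; rfl
  have hnarPb : Cfsg.PRankLE p 2 ↥Pb ∨
      ∃ E : Subgroup ↥Pb, Cfsg.IsElementaryAbelian p E ∧
        Nat.card E = p ^ 2 ∧ ∀ B : Subgroup ↥Pb,
          Cfsg.IsElementaryAbelian p B → E ≤ B → B = E := by
    subst hPb
    exact hnarP K hK
  obtain ⟨ψ, hψ⟩ : ∃ ψ : (G ⧸ K) →* MulAut ↥Pb,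
      ∀ (g : G ⧸ K) (u : ↥Pb), ((ψ g u : ↥Pb) : G ⧸ K) = g * u * g⁻¹ :=
    ⟨MulAut.conjNormal, fun g u => rfl⟩
  have hker : ∀ g : G ⧸ K, ψ g = 1 → g ∈ Pb := by
    intro g hg
    apply hcent'
    rw [Subgroup.mem_centralizer_iff]
    intro u hu
    have h1 := hψ g ⟨u, hu⟩
    rw [hg, MulAut.one_apply] at h1
    exact (mul_inv_eq_iff_eq_mul.1 h1.symm).symm
  have hder := narrow_derived_pgroup hp hPbp hnarPb hoddq ψ
  have hcomm_le : commutator (G ⧸ K) ≤ Pb := by
    rw [hPb]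
    apply Cfsg.Agent.Helper27.le_pCore (inferInstance : (commutator (G ⧸ K)).Normal)
    intro g
    obtain ⟨k, hk⟩ := hder g g.2
    have h1 : (g : G ⧸ K) ^ p ^ k ∈ Pb := hker _ (by rw [map_pow, hk])
    obtain ⟨j, hj⟩ := hPbp ⟨_, h1⟩
    refine ⟨k + j, ?_⟩
    apply Subtype.ext
    have h2 : ((g : G ⧸ K) ^ p ^ k) ^ p ^ j = 1 := congrArg Subtype.val hj
    rw [Subgroup.coe_pow, pow_add, pow_mul]
    exact h2
  have hcomm_mem : ∀ a b : G ⧸ K, ⁅a, b⁆ ∈ Pb := by
    intro a b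
    apply hcomm_le
    rw [commutator_def]
    exact Subgroup.commutator_mem_commutator (Subgroup.mem_top _) (Subgroup.mem_top _)
  have hE : commutator G ≤ Cfsg.pPrimePCore p G := by
    rw [hM, commutator_def, Subgroup.commutator_le]
    intro a _ b _
    rw [Subgroup.mem_comap, map_commutatorElement]
    exact hcomm_mem _ _
  obtain ⟨T⟩ : Nonempty (Sylow p (G ⧸ K)) := inferInstance
  have hPT : Pb ≤ (T : Subgroup (G ⧸ K)) :=
    Cfsg.Agent.Helper1.normal_pgroup_le_sylow Pb hPbp T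
  have hTn : (T : Subgroup (G ⧸ K)).Normal := by
    refine ⟨fun t ht g => ?_⟩
    have h1 : g * t * g⁻¹ = ⁅g, t⁆ * t := by rw [commutatorElement_def]; group
    rw [h1]
    exact Subgroup.mul_mem _ (hPT (hcomm_mem g t)) ht
  have hTP : (T : Subgroup (G ⧸ K)) = Pb :=
    le_antisymm (by rw [hPb]; exact Cfsg.Agent.Helper27.le_pCore hTn T.isPGroup') hPT
  have hPidx : (Pb.index).Coprime p := by
    rw [← hTP]
    exact ((Nat.Prime.coprime_iff_not_dvd hpp).2 T.not_dvd_index).symm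
  have hF : ((Cfsg.pPrimePCore p G).index).Coprime p := by
    rw [hM, Subgroup.index_comap_of_surjective _ hsurj]; exact hPidx
  have hprime : ∀ q : ℕ, q.Prime → q ∣ Pb.index → q < p := by
    intro q hq hqd
    have hqp : q ≠ p := by
      rintro rfl
      exact (Nat.Prime.coprime_iff_not_dvd hq).1 hPidx.symm hqd
    apply narrow_aut_prime_lt hp hPbp hnarPb q hq hqp
    have h1 : ψ.ker ≤ Pb := fun g hg => hker g ((MonoidHom.mem_ker).1 hg)
    have h2 : Pb.index ∣ ψ.ker.index := Subgroup.index_dvd_of_le h1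
    rw [Subgroup.index_ker] at h2
    exact (hqd.trans h2).trans (Subgroup.card_subgroup_dvd_card _)
  have hKidx : K.index = Nat.card Pb * Pb.index := by
    rw [Subgroup.index_eq_card, Subgroup.card_mul_index]
  have hmapD : (commutator G).map (QuotientGroup.mk' K) ≤ Pb :=
    Subgroup.map_le_iff_le_comap.2 (hM ▸ hE)
  have hDK : ∀ L : Subgroup ↥(commutator G), (Nat.card L).Coprime p →
      L ≤ K.subgroupOf (commutator G) := by
    intro L hL l hl
    rw [Subgroup.mem_subgroupOf, ← QuotientGroup.ker_mk' K, MonoidHom.mem_ker]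
    have h1 : QuotientGroup.mk' K (l : G) ∈ Pb := hmapD ⟨l, l.2, rfl⟩
    obtain ⟨j, hj⟩ := hPbp ⟨_, h1⟩
    have h2 : (QuotientGroup.mk' K (l : G)) ^ p ^ j = 1 := congrArg Subtype.val hj
    have h3 : (QuotientGroup.mk' K (l : G)) ^ Nat.card L = 1 := by
      have h4 : (⟨l, hl⟩ : L) ^ Nat.card L = 1 := pow_card_eq_one'
      have h5 : (l : G) ^ Nat.card L = 1 := by
        have h6 : (l ^ Nat.card L : ↥(commutator G)) = 1 := congrArg Subtype.val h4
        exact congrArg Subtype.val h6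
      rw [← map_pow, h5, map_one]
    have h7 : orderOf (QuotientGroup.mk' K (l : G)) ∣ Nat.gcd (Nat.card L) (p ^ j) :=
      Nat.dvd_gcd (orderOf_dvd_of_pow_eq_one h3) (orderOf_dvd_of_pow_eq_one h2)
    rw [(Nat.Coprime.pow_right j hL).gcd_eq_one, Nat.dvd_one] at h7
    exact orderOf_eq_one_iff.1 h7
  have hNc : (Nat.card (K.subgroupOf (commutator G))).Coprime p := by
    have h1 : Nat.card (K.subgroupOf (commutator G)) ∣ Nat.card K := by
      rw [← Subgroup.inf_subgroupOf_right K (commutator G),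
        Nat.card_congr (Subgroup.subgroupOfEquivOfLe (inf_le_right : K ⊓ commutator G ≤
          commutator G)).toEquiv]
      exact Subgroup.card_dvd_of_le inf_le_left
    exact Nat.Coprime.coprime_dvd_left h1 hKc
  refine ⟨?_, ?_, ?_, ?_, hE, hF⟩
  · intro q hq hqd
    rw [← hK, hKidx] at hqd
    rcases (Nat.Prime.dvd_mul hq).1 hqd with h | h
    · obtain ⟨j, hj⟩ := hPbp.exists_card_eq
      rw [hj] at h
      exact le_of_eq ((Nat.prime_dvd_prime_iff_eq hq hpp).1 (hq.dvd_of_dvd_pow h))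
    · exact (hprime q hq h).le
  · intro hcase
    have hidx1 : Pb.index = 1 := by
      by_contra hne
      obtain ⟨q, hq, hqd⟩ := Nat.exists_prime_and_dvd hne
      have hq2 := hprime q hq hqd
      have hqG : q ∣ Nat.card G := by
        have h1 : q ∣ K.index := by rw [hKidx]; exact dvd_mul_of_dvd_right hqd _
        exact h1.trans (Subgroup.index_dvd_card K)
      rcases hcase with h3 | hmin
      · have hq2' : q = 2 := by have := hq.two_le; omega
        rw [hq2'] at hqG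
        exact (Nat.not_even_iff_odd.2 hodd) (even_iff_two_dvd.2 hqG)
      · have := hmin q hq hqG
        omega
    obtain ⟨j, hj⟩ := hPbp.exists_card_eq
    exact hnpc_of_normal_hall p K hKc j (by rw [hKidx, hidx1, mul_one, hj])
  · have hle : (commutator G).map (QuotientGroup.mk' K) ≤ Pb := hmapD
    obtain ⟨j, hj⟩ := (hPbp.to_le hle).exists_card_eq
    apply hnpc_of_normal_hall p (K.subgroupOf (commutator G)) hNc j
    have h := Subgroup.relIndex_comap (H := (⊥ : Subgroup (G ⧸ K))) (QuotientGroup.mk' K)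
      (commutator G)
    rw [MonoidHom.comap_bot, QuotientGroup.ker_mk', Subgroup.relIndex_bot_left] at h
    rw [← hj, ← h]
    rfl
  · intro L hL
    exact (hDK L hL).trans (Cfsg.Agent.Helper9.le_pPrimeCore inferInstance hNc)


/-- Solvable groups of odd order with a narrow Sylow `p`-subgroup `S` (and `p`-length one when
`S` has rank at least 3). -/
theorem narrow_sylow_solv {G : Type u} [Group G] [Finite G] [Group.IsSolvable G]
    (hodd : Odd (Nat.card G)) (p : ℕ) [Fact p.Prime] (hpG : p ∣ Nat.card G) (S : Sylow p G)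
    (hS : Cfsg.IsNarrow p ↥(S : Subgroup G))
    (hpl : ¬ Cfsg.PRankLE p 2 ↥(S : Subgroup G) → Cfsg.PLengthLE p 1 G) :
    (∀ q : ℕ, q.Prime → q ∣ (Cfsg.pPrimeCore p G).index → q ≤ p) ∧
      ((p = 3 ∨ ∀ q : ℕ, q.Prime → q ∣ Nat.card G → p ≤ q) → Cfsg.HasNormalPComplement p G) ∧
      Cfsg.HasNormalPComplement p ↥(commutator G) ∧
      (∀ L : Subgroup ↥(commutator G), (Nat.card L).Coprime p →
        L ≤ Cfsg.pPrimeCore p ↥(commutator G)) ∧
      commutator G ≤ Cfsg.pPrimePCore p G ∧ ((Cfsg.pPrimePCore p G).index).Coprime p := by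
  classical
  have hpp : p.Prime := Fact.out
  have hp2 : p ≠ 2 := by
    rintro rfl
    exact (Nat.not_even_iff_odd.2 hodd) (even_iff_two_dvd.2 hpG)
  by_cases hrk : Cfsg.PRankLE p 2 ↥(S : Subgroup G)
  · exact rank2_solv hodd p hp2 (prankLE_of_sylow p 2 S hrk)
  · have hpl1 := hpl hrk
    apply narrow_solv hodd p hp2
    intro K₀ hK₀n hK₀
    have hnarS := isNarrow_narrowMax S.isPGroup' hS
    obtain ⟨K, hKn, hKc, hKS, hall, -⟩ := Helper20.PLen.plength_one_structure p hpl1 S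
    haveI := hKn
    have hKK₀ : K ≤ K₀ := by rw [hK₀]; exact Helper9.le_pPrimeCore hKn hKc
    have hK₀c : (Nat.card K₀).Coprime p := by rw [hK₀]; exact Helper9.pPrimeCore_coprime p
    have hsurj : Function.Surjective (QuotientGroup.mk' K₀) := QuotientGroup.mk'_surjective K₀
    obtain ⟨Sb, hSb⟩ : ∃ Sb : Subgroup (G ⧸ K₀),
        Sb = (S : Subgroup G).map (QuotientGroup.mk' K₀) := ⟨_, rfl⟩
    have hSbn : Sb.Normal := by
      refine ⟨fun xb hxb gb => ?_⟩
      obtain ⟨g, rfl⟩ := hsurj gb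
      rw [hSb] at hxb ⊢
      obtain ⟨s, hs, rfl⟩ := hxb
      have hQ : IsPGroup p ↥((S : Subgroup G).map (MulAut.conj g).toMonoidHom) :=
        S.isPGroup'.map _
      have h1 : g * s * g⁻¹ ∈ K ⊔ (S : Subgroup G) := hall _ hQ ⟨s, hs, rfl⟩
      obtain ⟨k, hk, s', hs', hks⟩ := Subgroup.mem_sup_of_normal_left.1 h1
      refine ⟨s', hs', ?_⟩
      rw [← map_inv, ← map_mul, ← map_mul, ← hks, map_mul]
      have hk1 : QuotientGroup.mk' K₀ k = 1 := by
        rw [← MonoidHom.mem_ker, QuotientGroup.ker_mk']; exact hKK₀ hk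
      rw [hk1, one_mul]
    have hSbp : IsPGroup p ↥Sb := by rw [hSb]; exact S.isPGroup'.map _
    have hPbp : IsPGroup p ↥(Cfsg.pCore p (G ⧸ K₀)) := Helper27.pCore_isPGroup p _
    have hle1 : Sb ≤ Cfsg.pCore p (G ⧸ K₀) := Helper27.le_pCore hSbn hSbp
    have hle2 : Cfsg.pCore p (G ⧸ K₀) ≤ Sb := by
      have h1 := Helper1.normal_pgroup_le_sylow (Cfsg.pCore p (G ⧸ K₀)) hPbp
        (S.mapSurjective hsurj)
      rw [hSb]
      exact h1
    have hmem : ∀ s : ↥(S : Subgroup G),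
        QuotientGroup.mk' K₀ (s : G) ∈ Cfsg.pCore p (G ⧸ K₀) := by
      intro s
      apply hle1
      rw [hSb]
      exact ⟨s, s.2, rfl⟩
    obtain ⟨f, hf⟩ : ∃ f : ↥(S : Subgroup G) →* ↥(Cfsg.pCore p (G ⧸ K₀)),
        ∀ s : ↥(S : Subgroup G),
          ((f s : ↥(Cfsg.pCore p (G ⧸ K₀))) : G ⧸ K₀) = QuotientGroup.mk' K₀ (s : G) :=
      ⟨((QuotientGroup.mk' K₀).comp (S : Subgroup G).subtype).codRestrict _ hmem,
        fun s => rfl⟩
    have hfinj : Function.Injective f := by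
      rw [injective_iff_map_eq_one]
      intro s hs
      have h1 : QuotientGroup.mk' K₀ (s : G) = 1 := by rw [← hf s, hs]; rfl
      have h2 : (s : G) ∈ K₀ := by
        rw [← QuotientGroup.ker_mk' K₀]; exact (MonoidHom.mem_ker).2 h1
      exact Subtype.ext
        (Helper21.eq_one_of_mem_pgroup_of_mem_coprime S.isPGroup' hK₀c s.2 h2)
    have hfsurj : Function.Surjective f := by
      intro y
      have h1 := hle2 y.2
      rw [hSb] at h1
      obtain ⟨s, hs, hsy⟩ := h1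
      exact ⟨⟨s, hs⟩, Subtype.ext ((hf ⟨s, hs⟩).trans hsy)⟩
    exact narrowMax_of_equiv p (MulEquiv.ofBijective f ⟨hfinj, hfsurj⟩) hnarS

end Cfsg.Agent.Helper10
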