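import Mathlib
import Cfsg.Prelude.Def_OddOrderLocal
import Cfsg.Agent.Helper10.NarrowSolv

/-!
Solvable groups of odd order acting faithfully on a narrow `p`-group
(Bender–Glauberman, Theorem 5.5).
-/

set_option autoImplicit false

universe u

namespace Cfsg.Agent.Helper10

open scoped commutatorElement

/-- An automorphism of order dividing a prime `q ∤ p (p - 1)` of a cyclic `p`-group is
trivial. -/
theorem cyclic_pgroup_aut_triv {C : Type*} [Group C] [Finite C] [IsCyclic C] {p : ℕ}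
    [Fact p.Prime] (hC : IsPGroup p C) (q : ℕ) (hq : q.Prime) (hqp : ¬ q ∣ p * (p - 1))
    (α : MulAut C) (hα : α ^ q = 1) : α = 1 := by
  have hpp : p.Prime := Fact.out
  obtain ⟨j, hj⟩ := hC.exists_card_eq
  have h1 : α ^ Nat.card (MulAut C) = 1 := pow_card_eq_one'
  rw [IsCyclic.card_mulAut, hj] at h1
  have hqp1 : ¬ q ∣ p := fun h => hqp (dvd_mul_of_dvd_left h _)
  have hqp2 : ¬ q ∣ p - 1 := fun h => hqp (dvd_mul_of_dvd_right h _)
  have hcop : Nat.Coprime q (Nat.totient (p ^ j)) := by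
    rcases Nat.eq_zero_or_pos j with h0 | hpos
    · rw [h0, pow_zero, Nat.totient_one]; exact Nat.coprime_one_right q
    · rw [Nat.totient_prime_pow hpp hpos]
      apply Nat.Coprime.mul_right
      · apply Nat.Coprime.pow_right
        exact (Nat.Prime.coprime_iff_not_dvd hq).2 hqp1
      · exact (Nat.Prime.coprime_iff_not_dvd hq).2 hqp2
  exact eq_one_of_pow_pow_coprime α q _ hα h1 hcop

/-- Bender–Glauberman 5.5, with the structure theorem for rank 2 groups `R = [R, A]` as a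
hypothesis. -/
theorem narrow_aut_main {G : Type*} [Group G] [Finite G] (p : ℕ) [Fact p.Prime] (hp : p ≠ 2)
    (R A : Subgroup G) (hR : IsPGroup p R) (hRn : Cfsg.IsNarrow p R)
    (hA : A ≤ Subgroup.normalizer (R : Set G)) (hAs : Group.IsSolvable A)
    (hAodd : Odd (Nat.card A)) (hfaith : A ⊓ Subgroup.centralizer (R : Set G) = ⊥)
    (h1448 : (Nat.card A).Coprime p → Cfsg.PRankLE p 2 R → ⁅R, A⁆ = R →
      ¬ IsMulCommutative R →
      ∃ R₁ R₂ : Subgroup G, R₁ ⊔ R₂ = R ∧ (∀ a ∈ R₁, ∀ b ∈ R₂, a * b = b * a) ∧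
        Nat.card R₁ = p ^ 3 ∧ Monoid.exponent R₁ = p ∧ IsCyclic R₂ ∧
        Subgroup.closure {x : G | x ∈ R₂ ∧ x ^ p = 1} = ⁅R₁, R₁⁆) :
    (commutator ↥A ≤ Cfsg.pCore p ↥A ∧ ((Cfsg.pCore p ↥A).index).Coprime p) ∧
      (¬ Cfsg.PRankLE p 2 R → ∀ a ∈ A, (orderOf a).Coprime p → orderOf a ∣ p - 1) ∧
      ((Nat.card A).Prime → ¬ Nat.card A ∣ p * (p - 1) →
        2 * Nat.card A ∣ p + 1 ∧
          (⁅R, A⁆ = R → ¬ IsMulCommutative R → Nat.card R = p ^ 3)) := by
  classical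
  have hpp : p.Prime := Fact.out
  haveI := hAs
  obtain ⟨ψ, hψ⟩ : ∃ ψ : ↥A →* MulAut ↥R,
      ∀ (a : ↥A) (r : ↥R), ((ψ a r : ↥R) : G) = (a : G) * r * (a : G)⁻¹ :=
    ⟨(R.normalizerMonoidHom).comp (Subgroup.inclusion hA), fun a r => rfl⟩
  have hinj : Function.Injective ψ := by
    rw [injective_iff_map_eq_one]
    intro a ha
    have h1 : (a : G) ∈ A ⊓ Subgroup.centralizer (R : Set G) := by
      refine ⟨a.2, ?_⟩
      show (a : G) ∈ Subgroup.centralizer (R : Set G)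
      rw [Subgroup.mem_centralizer_iff]
      intro r hr
      have h2 := hψ a ⟨r, hr⟩
      rw [ha, MulAut.one_apply] at h2
      have h3 : (a : G) * r * (a : G)⁻¹ = r := h2.symm
      calc r * (a : G) = ((a : G) * r * (a : G)⁻¹) * a := by rw [h3]
        _ = a * r := by group
    rw [hfaith] at h1
    exact Subtype.ext (Subgroup.mem_bot.1 h1)
  have hnar := isNarrow_narrowMax hR hRn
  have hder := narrow_derived_pgroup hp hR hnar hAodd ψ
  have hcomp : IsPGroup p ↥(commutator ↥A) := by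
    intro g
    obtain ⟨k, hk⟩ := hder g g.2
    refine ⟨k, ?_⟩
    apply Subtype.ext
    rw [Subgroup.coe_pow]
    apply hinj
    rw [map_pow, hk]
    exact (map_one ψ).symm
  have hle : commutator ↥A ≤ Cfsg.pCore p ↥A := Helper27.le_pCore inferInstance hcomp
  have hidx : ((Cfsg.pCore p ↥A).index).Coprime p := by
    obtain ⟨T⟩ : Nonempty (Sylow p ↥A) := inferInstance
    have hPbp : IsPGroup p ↥(Cfsg.pCore p ↥A) := Helper27.pCore_isPGroup p _
    have hPT : Cfsg.pCore p ↥A ≤ (T : Subgroup ↥A) :=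
      Helper1.normal_pgroup_le_sylow _ hPbp T
    have hTn : (T : Subgroup ↥A).Normal := by
      refine ⟨fun t ht g => ?_⟩
      have h1 : g * t * g⁻¹ = ⁅g, t⁆ * t := by rw [commutatorElement_def]; group
      rw [h1]
      refine Subgroup.mul_mem _ (hPT (hle ?_)) ht
      rw [commutator_def]
      exact Subgroup.commutator_mem_commutator (Subgroup.mem_top _) (Subgroup.mem_top _)
    have hTP : (T : Subgroup ↥A) = Cfsg.pCore p ↥A :=
      le_antisymm (Helper27.le_pCore hTn T.isPGroup') hPT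
    rw [← hTP]
    exact ((Nat.Prime.coprime_iff_not_dvd hpp).2 T.not_dvd_index).symm
  have hb : ¬ Cfsg.PRankLE p 2 ↥R → ∀ a : ↥A, (orderOf a).Coprime p → a ^ (p - 1) = 1 := by
    intro hrk a hcop
    obtain ⟨E, hE, hE2, hEmax⟩ := hnar.resolve_left hrk
    obtain ⟨S, -, hS3, hS2⟩ := narrow_struct hp hR hrk E hE hE2 hEmax
    have h1 : ((ψ a) ^ (p - 1)) ^ orderOf a = 1 := by
      rw [← pow_mul, mul_comm, pow_mul, ← map_pow, pow_orderOf_eq_one, map_one, one_pow]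
    have h2 := hS2 (orderOf a) hcop _ (hS3 (ψ a)) h1
    apply hinj
    rw [map_pow, h2, map_one]
  refine ⟨⟨hle, hidx⟩, ?_, ?_⟩
  · intro hrk a ha hcop
    have h1 := hb hrk ⟨a, ha⟩ (by rw [← Subgroup.orderOf_coe]; exact hcop)
    apply orderOf_dvd_of_pow_eq_one
    have h2 : ((⟨a, ha⟩ : ↥A) : G) ^ (p - 1) = 1 := by rw [← Subgroup.coe_pow, h1]; rfl
    exact h2
  · intro hq hnd
    obtain ⟨q, hqdef⟩ : ∃ q : ℕ, q = Nat.card A := ⟨_, rfl⟩
    rw [← hqdef] at hq hnd ⊢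
    have hqp1 : ¬ q ∣ p := fun h => hnd (dvd_mul_of_dvd_left h _)
    have hqp2 : ¬ q ∣ p - 1 := fun h => hnd (dvd_mul_of_dvd_right h _)
    have hqp : q ≠ p := by rintro rfl; exact hqp1 dvd_rfl
    haveI : Fact q.Prime := ⟨hq⟩
    obtain ⟨x, hx⟩ := exists_prime_orderOf_dvd_card' (G := ↥A) q (by rw [hqdef])
    have hxcop : (orderOf x).Coprime p := by
      rw [hx]; exact (Nat.coprime_primes hq hpp).2 hqp
    have hrk : Cfsg.PRankLE p 2 ↥R := by
      by_contra hrk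
      have h1 := hb hrk x hxcop
      have h2 : q ∣ p - 1 := by rw [← hx]; exact orderOf_dvd_of_pow_eq_one h1
      exact hqp2 h2
    have hdvd : q ∣ Nat.card (MulAut ↥R) := by
      have h1 : orderOf (ψ x) = q := by rw [orderOf_injective ψ hinj x, hx]
      rw [← h1]; exact orderOf_dvd_natCard _
    obtain ⟨h1, h2⟩ := Cfsg.Agent.S0640.result hp hR hrk q hq hqp hdvd
    have h3 : q ∣ p + 1 := by
      have e : p ^ 2 - 1 = (p - 1) * (p + 1) := by
        obtain ⟨k, rfl⟩ := Nat.exists_eq_add_of_le hpp.pos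
        apply Nat.sub_eq_of_eq_add
        rw [Nat.add_sub_cancel_left]
        ring
      rw [e] at h1
      rcases (Nat.Prime.dvd_mul hq).1 h1 with h | h
      · exact absurd h hqp2
      · exact h
    have hqodd : Odd q := by rw [hqdef]; exact hAodd
    have h4 : 2 ∣ p + 1 := by
      have hpodd : Odd p := hpp.odd_of_ne_two hp
      obtain ⟨k, hk⟩ := hpodd
      exact ⟨k + 1, by omega⟩
    have h5 : 2 * q ∣ p + 1 :=
      Nat.Coprime.mul_dvd_of_dvd_of_dvd (Nat.coprime_two_left.2 hqodd) h4 h3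
    refine ⟨h5, ?_⟩
    intro hRA hnc
    have hcopA : (Nat.card A).Coprime p := by
      rw [← hqdef]; exact (Nat.coprime_primes hq hpp).2 hqp
    obtain ⟨R₁, R₂, hsup, hcomm, hcard, hexp, hcyc, hcl⟩ := h1448 hcopA hrk hRA hnc
    have hR₁R : R₁ ≤ R := by rw [← hsup]; exact le_sup_left
    have hR₂R : R₂ ≤ R := by rw [← hsup]; exact le_sup_right
    have hR₁exp : ∀ r ∈ R₁, r ^ p = 1 := by
      intro r hr
      have h6 : (⟨r, hr⟩ : R₁) ^ Monoid.exponent ↥R₁ = 1 := Monoid.pow_exponent_eq_one _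
      rw [hexp] at h6
      have h7 : ((⟨r, hr⟩ : R₁) : G) ^ p = 1 := by rw [← Subgroup.coe_pow, h6]; rfl
      exact h7
    have hcommle : ⁅R₁, R₁⁆ ≤ R₁ := by
      rw [Subgroup.commutator_le]
      intro a ha b hb
      rw [commutatorElement_def]
      exact R₁.mul_mem (R₁.mul_mem (R₁.mul_mem ha hb) (R₁.inv_mem ha)) (R₁.inv_mem hb)
    have hΩ : ∀ r ∈ R, r ^ p = 1 → r ∈ R₁ := by
      intro r hr hrp
      rw [← hsup] at hr
      obtain ⟨r₁, hr₁, z, hz, rfl⟩ := Helper9.mem_sup_of_commute hcomm hr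
      have hc : Commute r₁ z := hcomm r₁ hr₁ z hz
      rw [hc.mul_pow, hR₁exp r₁ hr₁, one_mul] at hrp
      have hz1 : z ∈ Subgroup.closure {x : G | x ∈ R₂ ∧ x ^ p = 1} :=
        Subgroup.subset_closure ⟨hz, hrp⟩
      rw [hcl] at hz1
      exact R₁.mul_mem hr₁ (hcommle hz1)
    haveI := hcyc
    obtain ⟨g, hg⟩ := IsCyclic.exists_generator (α := ↥R₂)
    have hdecomp : ∀ r ∈ R, ∃ r₁ ∈ R₁, ∃ n : ℤ, r = (g : G) ^ n * r₁ := by
      intro r hr
      rw [← hsup] at hr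
      obtain ⟨r₁, hr₁, z, hz, rfl⟩ := Helper9.mem_sup_of_commute hcomm hr
      obtain ⟨n, hn⟩ := Subgroup.mem_zpowers_iff.1 (hg ⟨z, hz⟩)
      have hn' : (g : G) ^ n = z := by
        have := congrArg Subtype.val hn
        simpa using this
      exact ⟨r₁, hr₁, n, by rw [hn']; exact hcomm r₁ hr₁ z hz⟩
    obtain ⟨M, hM⟩ : ∃ M : Subgroup ↥R, M = R₁.subgroupOf R := ⟨_, rfl⟩
    have hMmem : ∀ u : ↥R, u ∈ M ↔ (u : G) ^ p = 1 := by
      intro u
      rw [hM, Subgroup.mem_subgroupOf]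
      exact ⟨fun h => hR₁exp _ h, fun h => hΩ _ u.2 h⟩
    have hMfix : ∀ φ : MulAut ↥R, ∀ u ∈ M, φ u ∈ M := by
      intro φ u hu
      rw [hMmem] at hu ⊢
      have h6 : u ^ p = 1 := Subtype.ext (by rw [Subgroup.coe_pow]; exact hu)
      have h7 : (φ u) ^ p = 1 := by rw [← map_pow, h6, map_one]
      rw [← Subgroup.coe_pow, h7]; rfl
    haveI hMn : M.Normal := ⟨fun u hu g => by simpa using hMfix (MulAut.conj g) u hu⟩
    haveI hQcyc : IsCyclic (↥R ⧸ M) := by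
      refine ⟨⟨QuotientGroup.mk ⟨(g : G), hR₂R g.2⟩, fun y => ?_⟩⟩
      induction y using QuotientGroup.induction_on with | _ r =>
      obtain ⟨r₁, hr₁, n, hrn⟩ := hdecomp r.1 r.2
      refine ⟨n, ?_⟩
      show (QuotientGroup.mk ⟨(g : G), hR₂R g.2⟩ : ↥R ⧸ M) ^ n = QuotientGroup.mk r
      rw [← QuotientGroup.mk_zpow, QuotientGroup.eq, hM, Subgroup.mem_subgroupOf]
      have e : ((((⟨(g : G), hR₂R g.2⟩ : ↥R) ^ n)⁻¹ * r : ↥R) : G) = r₁ := by
        rw [Subgroup.coe_mul, Subgroup.coe_inv, Subgroup.coe_zpow, hrn]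
        group
      rw [e]
      exact hr₁
    have hinv : ∀ a : ↥A, ∀ u ∈ M, ψ a u ∈ M := fun a u hu => hMfix (ψ a) u hu
    have hQp : IsPGroup p (↥R ⧸ M) := hR.to_quotient M
    have htriv : ∀ a : ↥A, quotAct ψ M hinv a = 1 := by
      intro a
      apply cyclic_pgroup_aut_triv hQp q hq hnd
      rw [← map_pow]
      have h6 : a ^ q = 1 := by rw [hqdef]; exact pow_card_eq_one'
      rw [h6, map_one]
    have hRle : ⁅R, A⁆ ≤ R₁ := by
      rw [Subgroup.commutator_le]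
      intro r hr a ha
      have h6 := quotAct_mk ψ M hinv ⟨a, ha⟩ ⟨r⁻¹, R.inv_mem hr⟩
      rw [htriv, MulAut.one_apply] at h6
      have h7 := QuotientGroup.eq.1 h6
      rw [hM, Subgroup.mem_subgroupOf] at h7
      have e : ⁅r, a⁆ = (r⁻¹)⁻¹ * (a * r⁻¹ * a⁻¹) := by
        rw [commutatorElement_def]; group
      rw [e]
      have h8 : (((⟨r⁻¹, R.inv_mem hr⟩ : ↥R)⁻¹ * ψ ⟨a, ha⟩ ⟨r⁻¹, R.inv_mem hr⟩ : ↥R) : G) =
          (r⁻¹)⁻¹ * (a * r⁻¹ * a⁻¹) := by
        rw [Subgroup.coe_mul, Subgroup.coe_inv, hψ]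
      rw [← h8]
      exact h7
    have hReq : R = R₁ := le_antisymm (by rw [← hRA]; exact hRle) hR₁R
    rw [hReq]
    exact hcard

end Cfsg.Agent.Helper10
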